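/-
Arithmetic for fewer than `p²` Sylow `p`-subgroups: with `n < p` the form of `n` is
`n = u s + u + 1`, `p = (u + 1) s + 1`, `u < s` (namespace `Cfsg.Agent.FewSylowClass`).

Main results: `Par`, `exists_par`, `Par.split`, `Par.pos_degree`, `Par.neg_degree`, `Par.exc_pos_degree`,
`Par.exc_neg_degree`.
-/
import Cfsg.Agent.Lib.BrauerN.Arith

set_option autoImplicit false
set_option linter.style.haveILetI false
set_option linter.unusedSectionVars false

namespace Cfsg.Agent.FewSylowClass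

open BrauerN

/-- The parameters `u`, `s` of `n`. -/
structure Par (p n u s : ℕ) : Prop where
  hu : 1 ≤ u
  hus : u + 1 ≤ s
  hpe : p = (u + 1) * s + 1
  hne : n = u * s + u + 1

theorem par_unique {p n u s u' s' : ℕ} (h : Par p n u s) (h' : Par p n u' s') : u = u' ∧ s = s' := by
  obtain ⟨hu, hus, hpe, hne⟩ := h
  obtain ⟨hu', hus', hpe', hne'⟩ := h'
  have hd : (s : ℤ) - u = (s' : ℤ) - u' := by
    have h1 : (p : ℤ) = ((u : ℤ) + 1) * s + 1 := by exact_mod_cast hpe
    have h1' : (p : ℤ) = ((u' : ℤ) + 1) * s' + 1 := by exact_mod_cast hpe'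
    have h2 : (n : ℤ) = (u : ℤ) * s + u + 1 := by exact_mod_cast hne
    have h2' : (n : ℤ) = (u' : ℤ) * s' + u' + 1 := by exact_mod_cast hne'
    linarith
  obtain ⟨d, rfl⟩ : ∃ d, s = u + d := ⟨s - u, by omega⟩
  obtain ⟨d', rfl⟩ : ∃ d, s' = u' + d := ⟨s' - u', by omega⟩
  push_cast at hd
  obtain rfl : d = d' := by omega
  have huu : u = u' := by
    rcases lt_trichotomy u u' with h3 | h3 | h3
    · have := Nat.mul_lt_mul_of_lt_of_le h3 (show u + d ≤ u' + d by omega) (by omega)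
      omega
    · exact h3
    · have := Nat.mul_lt_mul_of_lt_of_le h3 (show u' + d ≤ u + d by omega) (by omega)
      omega
  exact ⟨huu, by omega⟩

/-- The parameters from the form with `h = 1`. -/
theorem exists_par_of_eq {p n u : ℕ} (hp : p.Prime) (hn : n < p) (hu : 1 ≤ u)
    (h : n * (u + 1) = u * p + u ^ 2 + u + 1) : ∃ s, Par p n u s := by
  have hd : u + 1 ∣ u * p + 1 := by
    refine (Nat.dvd_add_right (a := u + 1) (b := u * (u + 1)) (dvd_mul_left _ _)).mp ⟨n, ?_⟩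
    rw [mul_comm (u + 1) n, h]
    ring
  have hd' : u + 1 ∣ p - 1 := by
    have h1 : u + 1 ∣ (p - 1) + (u * p + 1) := ⟨p, by have := hp.one_le; rw [add_mul, one_mul]; omega⟩
    exact (Nat.dvd_add_left hd).mp h1
  obtain ⟨s, hs⟩ := hd'
  have hpe : p = (u + 1) * s + 1 := by have := hp.one_le; omega
  have hne : n = u * s + u + 1 := by
    refine Nat.eq_of_mul_eq_mul_right (show 0 < u + 1 by omega) ?_
    rw [h, hpe]; ring
  refine ⟨s, hu, ?_, hpe, hne⟩
  by_contra hlt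
  rw [not_le] at hlt
  have h3 : (u + 1) * s = u * s + s := by ring
  omega

theorem exists_par {p n : ℕ} (hp : p.Prime) (hn : n < p) (hF : HasForm p n) : ∃ u s, Par p n u s := by
  obtain ⟨h, u, hh, hu, he⟩ := hF
  obtain rfl : h = 1 := by
    by_contra hne
    have h2 : 2 * u ≤ h * u := Nat.mul_le_mul_right u (by omega)
    have h3 : n * (u + 1) < p * (u + 1) := Nat.mul_lt_mul_of_pos_right hn (by omega)
    have h4 : 2 * u * p ≤ h * u * p := Nat.mul_le_mul_right p h2
    have h5 : p * 1 ≤ p * u := Nat.mul_le_mul_left p hu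
    have h6 : p * (u + 1) = p * u + p := by ring
    have h7 : 2 * u * p = p * u + p * u := by ring
    omega
  rw [one_mul] at he
  obtain ⟨s, hs⟩ := exists_par_of_eq hp hn hu he
  exact ⟨u, s, hs⟩

namespace Par

variable {p n u s : ℕ} (h : Par p n u s)
include h

theorem p_sub : p - 1 = (u + 1) * s := by have := h.hpe; omega

theorem two_le_s : 2 ≤ s := by have := h.hu; have := h.hus; omega

theorem card_eq : 1 + n * p = (u * s + 1) * (p + u + 1) := by
  rw [h.hne, h.hpe]; ring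

theorem u_deg : u * p + 1 = (u + 1) * (u * s + 1) := by
  rw [h.hpe]; ring

theorem lt : n < p := by
  rw [h.hne, h.hpe, add_mul, one_mul]
  have := h.hus; omega

theorem add_s : n + s = p + u := by
  rw [h.hne, h.hpe]; ring

theorem five_le : 5 ≤ p := by
  have h1 : 2 * 2 ≤ (u + 1) * s := Nat.mul_le_mul (by have := h.hu; omega) h.two_le_s
  have := h.hpe; omega

theorem n_pos : 1 ≤ n := by have := h.hne; omega

/-- The only other way of splitting `1 + n p`. -/
theorem split (hp : p.Prime) {D d s₀ : ℕ} (hN : 1 + n * p = D * d) (hs : s₀ ∣ p - 1)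
    (hsD : ((s₀ * D : ℕ) : ZMod p) = 1) (h1 : 1 < s₀ * D) (hne : d ≠ s₀) :
    s₀ = u + 1 ∧ D = u * s + 1 ∧ d = p + u + 1 := by
  haveI := Fact.mk hp
  have hp2 := hp.two_le
  have hs0 : 0 < s₀ := Nat.pos_of_ne_zero fun h0 => by rw [h0, zero_mul] at h1; omega
  have hsp : s₀ < p := by
    have := Nat.le_of_dvd (by omega) hs
    omega
  have hds : (d : ZMod p) = (s₀ : ZMod p) := by
    have h2 : ((D * d : ℕ) : ZMod p) = 1 := by rw [← hN]; simp
    push_cast at h2 hsD
    calc (d : ZMod p) = (s₀ * D) * d := by rw [hsD, one_mul]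
      _ = s₀ * (D * d) := by ring
      _ = s₀ := by rw [h2, mul_one]
  obtain ⟨j, hj, hjd⟩ : ∃ j, 0 < j ∧ d = s₀ + j * p := by
    rw [ZMod.natCast_eq_natCast_iff', Nat.mod_eq_of_lt hsp] at hds
    have h2 := Nat.div_add_mod d p
    rw [hds] at h2
    refine ⟨d / p, Nat.pos_of_ne_zero fun h0 => hne ?_, ?_⟩
    · rw [h0, Nat.mul_zero, Nat.zero_add] at h2; exact h2.symm
    · rw [mul_comm p] at h2; omega
  obtain ⟨v, hv, hsv⟩ : ∃ v, 0 < v ∧ s₀ * D = v * p + 1 := by
    have h2 : s₀ * D % p = 1 := by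
      have := (ZMod.natCast_eq_natCast_iff' (s₀ * D) 1 p).mp (by rw [hsD, Nat.cast_one])
      rwa [Nat.mod_eq_of_lt hp.one_lt] at this
    have h3 := Nat.div_add_mod (s₀ * D) p
    rw [h2] at h3
    refine ⟨s₀ * D / p, Nat.pos_of_ne_zero fun h0 => ?_, ?_⟩
    · rw [h0, Nat.mul_zero, Nat.zero_add] at h3; omega
    · rw [mul_comm p] at h3; omega
  obtain ⟨k, hk⟩ := hs
  have hsv1 : s₀ ∣ v + 1 := by
    have h2 : s₀ ∣ v * (s₀ * k) + (v + 1) := by
      refine ⟨D, ?_⟩
      rw [hsv, show p = s₀ * k + 1 by omega]; ring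
    exact (Nat.dvd_add_right (Dvd.dvd.mul_left (dvd_mul_right s₀ k) v)).mp h2
  obtain ⟨r, hr⟩ := hsv1
  have hr0 : 0 < r := Nat.pos_of_ne_zero fun h0 => by rw [h0, Nat.mul_zero] at hr; omega
  have hform : n * (v + 1) = j * r * v * p + v ^ 2 + v + j * r := by
    refine Nat.eq_of_mul_eq_mul_right hp.pos ?_
    have hD : (1 + n * p) * (v + 1) = (v * p + 1) * (v + 1 + j * r * p) := by
      rw [hN, hr, ← hsv, hjd]; ring
    have h3 : (1 + n * p) * (v + 1) = (v + 1) + n * (v + 1) * p := by ring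
    have h4 : (v * p + 1) * (v + 1 + j * r * p) =
        (v + 1) + (j * r * v * p + v ^ 2 + v + j * r) * p := by ring
    rw [h3, h4] at hD
    omega
  have hjr : j * r = 1 := by
    by_contra hne1
    have hpos : 2 ≤ j * r := by have := Nat.mul_pos hj hr0; omega
    have h2 : 2 * v * p ≤ j * r * v * p := Nat.mul_le_mul_right p (Nat.mul_le_mul_right v hpos)
    have h3 : n * (v + 1) < p * (v + 1) := Nat.mul_lt_mul_of_pos_right h.lt (by omega)
    have h4 : p * 1 ≤ p * v := Nat.mul_le_mul_left p hv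
    have h5 : p * (v + 1) = p * v + p := by ring
    have h6 : 2 * v * p = p * v + p * v := by ring
    omega
  obtain ⟨rfl, rfl⟩ := mul_eq_one.mp hjr
  rw [one_mul, one_mul] at hform
  obtain ⟨s', hs'⟩ := exists_par_of_eq hp h.lt hv hform
  obtain ⟨rfl, rfl⟩ := par_unique h hs'
  rw [Nat.mul_one] at hr
  refine ⟨hr.symm, ?_, by omega⟩
  refine Nat.eq_of_mul_eq_mul_left hs0 ?_
  rw [hsv, ← hr, h.u_deg]

theorem pos_degree (hp : p.Prime) {e f : ℕ} (he : e ∣ p - 1) (hf1 : 1 < f) (hfm : (f : ZMod p) = 1)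
    (hf : f ∣ e * (1 + n * p)) :
    f = 1 + n * p ∨ (u + 1 ∣ e ∧ f = (u + 1) * (u * s + 1)) := by
  have := hp.two_le
  obtain ⟨g, D, e', d, hg, hD, he', hd⟩ := exists_split (Nat.pos_of_dvd_of_pos he (by omega)) hf
  by_cases h' : d = g
  · exact Or.inl (by rw [hD, hd, h', mul_comm])
  · obtain ⟨h1, h2, -⟩ := h.split hp hd ((Dvd.intro e' he'.symm).trans he) (by rw [← hD, hfm])
      (by rw [← hD]; exact hf1) h'
    exact Or.inr ⟨h1 ▸ Dvd.intro e' he'.symm, by rw [hD, h1, h2]⟩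

theorem neg_degree (hp : p.Prime) {e f : ℕ} (he : e ∣ p - 1) (hfm : (f : ZMod p) = -1)
    (hf : f ∣ e * (1 + n * p)) :
    f = p - 1 ∨ (e = p - 1 ∧ f = (p - 1) * (1 + n * p)) ∨ (s ∣ e ∧ f = s * (p + u + 1)) := by
  haveI := Fact.mk hp
  have hp2 := hp.two_le
  obtain ⟨g, D, e', d, hg, hD, he', hd⟩ := exists_split (Nat.pos_of_dvd_of_pos he (by omega)) hf
  obtain ⟨s₀, hs⟩ := (Dvd.intro e' he'.symm).trans he
  have hd0 : 0 < d := Nat.pos_of_ne_zero fun h0 => by rw [h0, Nat.mul_zero] at hd; omega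
  by_cases hDs : D = s₀
  · exact Or.inl (by rw [hD, hDs, ← hs])
  by_cases h1 : s₀ * d = 1
  · obtain ⟨hs1, hd1⟩ := mul_eq_one.mp h1
    rw [hs1, mul_one] at hs
    rw [hd1, mul_one] at hd
    have := Nat.le_of_dvd (by omega) he
    have : g ≤ e := Nat.le_of_dvd (Nat.pos_of_dvd_of_pos he (by omega)) (Dvd.intro e' he'.symm)
    exact Or.inr (Or.inl ⟨by omega, by rw [hD, hs, hd]⟩)
  obtain ⟨h2, h3, h4⟩ := h.split hp (hd.trans (mul_comm _ _)) ⟨g, by rw [hs, mul_comm]⟩ (by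
    have hgs := congrArg (Nat.cast : ℕ → ZMod p) hs
    have hdD := congrArg (Nat.cast : ℕ → ZMod p) hd
    rw [hD] at hfm
    rw [cast_pred hp] at hgs
    push_cast at hgs hdD hfm ⊢
    rw [ZMod.natCast_self, mul_zero, add_zero] at hdD
    have hg0 : (g : ZMod p) ≠ 0 := fun h0 => by
      rw [h0, zero_mul] at hgs; exact one_ne_zero (neg_eq_zero.mp hgs)
    apply mul_left_cancel₀ hg0
    linear_combination (-(d : ZMod p)) * hgs + (-(g : ZMod p)) * hdD + (-(d : ZMod p)) * hfm) (by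
    have : 0 < s₀ := Nat.pos_of_ne_zero fun h0 => by rw [h0, mul_zero] at hs; omega
    have := Nat.mul_pos this hd0
    omega) hDs
  have hgs : g = s := by
    refine Nat.eq_of_mul_eq_mul_right (show 0 < u + 1 by omega) ?_
    rw [← h2, ← hs, h.p_sub, mul_comm, h2]
  exact Or.inr (Or.inr ⟨hgs ▸ Dvd.intro e' he'.symm, by rw [hD, hgs, h4]⟩)

theorem exc_neg_degree (hp : p.Prime) {e t f : ℕ} (het : e * t = p - 1) (ht : 2 ≤ t)
    (hfm : (f : ZMod p) = -(e : ZMod p)) (hf : f ∣ e * (1 + n * p)) :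
    t * f = 1 + n * p ∨ ∃ g, g * t = u + 1 ∧ g ∣ e ∧ f = g * (u * s + 1) := by
  haveI := Fact.mk hp
  have hp2 := hp.two_le
  have he : 0 < e := Nat.pos_of_ne_zero fun h0 => by rw [h0, zero_mul] at het; omega
  obtain ⟨g, D, e', d, hg, hD, he', hd⟩ := exists_split he hf
  by_cases hds : d = g * t
  · exact Or.inl (by rw [hd, hD, hds]; ring)
  have hs : p - 1 = g * t * e' := by rw [← het, he']; ring
  obtain ⟨h1, h2, -⟩ := h.split hp hd ⟨e', hs⟩ (by
    have h1 := congrArg (Nat.cast : ℕ → ZMod p) het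
    rw [hD] at hfm
    rw [cast_pred hp] at h1
    push_cast at h1 hfm ⊢
    linear_combination (t : ZMod p) * hfm - h1) (by
    have hD0 : 0 < D := Nat.pos_of_ne_zero fun h0 => by rw [h0, zero_mul] at hd; omega
    have h1 : 2 ≤ g * t := le_trans ht (Nat.le_mul_of_pos_left t hg)
    have := Nat.le_mul_of_pos_right (g * t) hD0
    omega) hds
  exact Or.inr ⟨g, h1, Dvd.intro e' he'.symm, by rw [hD, h2]⟩

theorem exc_pos_degree (hp : p.Prime) {e f : ℕ} (he : e ∣ p - 1)
    (hfm : (f : ZMod p) = (e : ZMod p)) (hf : f ∣ e * (1 + n * p)) :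
    f = e ∨ f = e * (1 + n * p) ∨ ∃ g, e = g * (u + 1) ∧ f = g * (p + u + 1) := by
  haveI := Fact.mk hp
  have hp2 := hp.two_le
  have he0 : 0 < e := Nat.pos_of_dvd_of_pos he (by omega)
  obtain ⟨g, D, e', d, hg, hD, he', hd⟩ := exists_split he0 hf
  by_cases hDs : D = e'
  · exact Or.inl (by rw [hD, hDs, ← he'])
  by_cases h1 : e' * d = 1
  · obtain ⟨hs1, hd1⟩ := mul_eq_one.mp h1
    rw [hs1, mul_one] at he'
    rw [hd1, mul_one] at hd
    exact Or.inr (Or.inl (by rw [hD, he', hd]))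
  have he'0 : 0 < e' := Nat.pos_of_ne_zero fun h0 => by rw [h0, mul_zero] at he'; omega
  have hd0 : 0 < d := Nat.pos_of_ne_zero fun h0 => by rw [h0, Nat.mul_zero] at hd; omega
  obtain ⟨h2, -, h4⟩ := h.split hp (hd.trans (mul_comm _ _)) ((Dvd.intro_left g he'.symm).trans he) (by
    have hdD := congrArg (Nat.cast : ℕ → ZMod p) hd
    rw [hD, he'] at hfm
    push_cast at hfm hdD ⊢
    rw [ZMod.natCast_self, mul_zero, add_zero] at hdD
    have hg0 : (g : ZMod p) ≠ 0 := fun h0 => by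
      rw [ZMod.natCast_eq_zero_iff] at h0
      have := Nat.le_of_dvd hg h0
      have := Nat.le_of_dvd (by omega) he
      have := Nat.le_of_dvd he0 (Dvd.intro e' he'.symm)
      omega
    rw [mul_right_inj' hg0] at hfm
    rw [← hfm, ← hdD]) (by
    have := Nat.mul_pos he'0 hd0
    omega) hDs
  exact Or.inr (Or.inr ⟨g, by rw [he', h2], by rw [hD, h4]⟩)

end Par

end Cfsg.Agent.FewSylowClass
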