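/-
The principal block when `n < p` (namespace `Cfsg.Agent.FewSylowClass`): the families `A` (degree `1 + n p`),
`C` (degree `(u + 1) (u s + 1)`), `B` (degree `p - 1`), `D` (degree `s (p + u + 1)`) and the exceptional `X`.

Main results: `XType`, `Blk`, `exists_blk`, `Blk.ident`, `Blk.K_bot`.
-/
import Cfsg.Agent.Lib.FewSylowClass.Arith
import Cfsg.Agent.Lib.BrauerN.Block
import Cfsg.Agent.Lib.CyclicDefect.Apply

set_option autoImplicit false
set_option linter.unusedSectionVars false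
set_option linter.style.haveILetI false

namespace Cfsg.Agent.FewSylowClass

open Cfsg Cfsg.Agent.Blocks Cfsg.Agent.CyclicDefect Cfsg.Agent.BrauerN

/-- The possibilities for an exceptional family. -/
inductive XType (p n u s e t : ℕ) : ℕ → ℕ → ℤ → Prop
  | degE : XType p n u s e t e 0 1
  | degP (g : ℕ) (hg : e = g * (u + 1)) : XType p n u s e t (g * (p + u + 1)) g 1
  | degN (f m : ℕ) (hf : t * f = 1 + n * p) (hm : t * m = n + 1) : XType p n u s e t f m (-1)
  | degU (g : ℕ) (hg : g * t = u + 1) (hge : g ∣ e) : XType p n u s e t (g * (u * s + 1)) g (-1)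

theorem XType.deg_eq {p n u s e t f m : ℕ} {ε : ℤ} (h : XType p n u s e t f m ε) (hP : Par p n u s)
    (het : e * t = p - 1) (ht : 0 < t) : (f : ℤ) = ε * e + p * m := by
  have hp : (p : ℤ) = ((u : ℤ) + 1) * s + 1 := by exact_mod_cast hP.hpe
  have het' : (e : ℤ) * t = ((u : ℤ) + 1) * s := by exact_mod_cast het.trans hP.p_sub
  cases h with
  | degE => simp
  | degP g hg =>
    rw [hg]
    push_cast
    ring
  | degN f m hf hm =>
    have h1 : (t : ℤ) * f = 1 + n * p := by exact_mod_cast hf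
    have h2 : (t : ℤ) * m = n + 1 := by exact_mod_cast hm
    refine mul_left_cancel₀ (show (t : ℤ) ≠ 0 by exact_mod_cast ht.ne') ?_
    linear_combination h1 - (p : ℤ) * h2 + het' - hp
  | degU g hg hge =>
    have h1 : (m : ℤ) * t = u + 1 := by exact_mod_cast hg
    push_cast
    refine mul_left_cancel₀ (show (t : ℤ) ≠ 0 by exact_mod_cast ht.ne') ?_
    linear_combination ((u : ℤ) * s + 1 - p) * h1 + het' - ((u : ℤ) + 1) * hp

variable {G : Type*} [Group G] [Finite G] {p : ℕ} [Fact p.Prime] {x : G} {L : Subgroup G}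
  {M : Ideal AlgInt} (hS : Setting p x L)

/-- The shape of the principal block for the parameters `u`, `s`. -/
structure Blk (M : Ideal AlgInt) (n u s : ℕ) (A C B D X : Finset (IrrCharacter G)) (f₀ m₀ : ℕ) (ε : ℤ) :
    Prop where
  memA : ∀ χ ∈ A, χ ∈ principalBlock M G ∧ charDegree (χ : G → ℂ) = (u * s + 1) * (p + u + 1) ∧
    rowSum hS χ = -((p - 1 : ℕ) : ℤ) ∧ χ ≠ oneG G ∧
    ∀ i : ZMod p, i ≠ 0 → (χ : G → ℂ) (pw x i) = 1
  memC : ∀ χ ∈ C, χ ∈ principalBlock M G ∧ charDegree (χ : G → ℂ) = (u + 1) * (u * s + 1) ∧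
    rowSum hS χ = -((p - 1 : ℕ) : ℤ) ∧ χ ≠ oneG G ∧
    ∀ i : ZMod p, i ≠ 0 → (χ : G → ℂ) (pw x i) = 1
  memB : ∀ χ ∈ B, χ ∈ principalBlock M G ∧ charDegree (χ : G → ℂ) = p - 1 ∧
    rowSum hS χ = ((p - 1 : ℕ) : ℤ) ∧ χ ≠ oneG G ∧
    ∀ i : ZMod p, i ≠ 0 → (χ : G → ℂ) (pw x i) = -1
  memD : ∀ χ ∈ D, χ ∈ principalBlock M G ∧ charDegree (χ : G → ℂ) = s * (p + u + 1) ∧
    rowSum hS χ = ((p - 1 : ℕ) : ℤ) ∧ χ ≠ oneG G ∧
    ∀ i : ZMod p, i ≠ 0 → (χ : G → ℂ) (pw x i) = -1
  memX : ∀ χ ∈ X, χ ∈ principalBlock M G ∧ charDegree (χ : G → ℂ) = f₀ ∧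
    rowSum hS χ = ε * ((K x L).index : ℤ) ∧ χ ≠ oneG G
  dvdC : C.Nonempty → u + 1 ∣ (K x L).index
  dvdD : D.Nonempty → s ∣ (K x L).index
  cover : ∀ χ ∈ principalBlock M G, χ = oneG G ∨ χ ∈ A ∨ χ ∈ C ∨ χ ∈ B ∨ χ ∈ D ∨ χ ∈ X
  cases : (X = ∅ ∧ ε = 0 ∧ m₀ = 0 ∧ (K x L).index = p - 1 ∧
      A.card + C.card + B.card + D.card = (K x L).index) ∨
    (2 ≤ X.card ∧ (K x L).index * X.card = p - 1 ∧
      A.card + C.card + B.card + D.card + 1 = (K x L).index ∧
      XType p n u s (K x L).index X.card f₀ m₀ ε)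
  rel : ∀ g : G, ¬ p ∣ orderOf g → ∀ χ ∈ X, -1 - ∑ a ∈ A, (a : G → ℂ) g - ∑ c ∈ C, (c : G → ℂ) g +
    ∑ b ∈ B, (b : G → ℂ) g + ∑ d ∈ D, (d : G → ℂ) g + (ε : ℂ) * (χ : G → ℂ) g = 0
  rel0 : X = ∅ → ∀ g : G, ¬ p ∣ orderOf g → -1 - ∑ a ∈ A, (a : G → ℂ) g - ∑ c ∈ C, (c : G → ℂ) g +
    ∑ b ∈ B, (b : G → ℂ) g + ∑ d ∈ D, (d : G → ℂ) g = 0
  rowX : ∀ χ ∈ X, ∀ v : (ZMod p)ˣ, bInt hS χ (oneK x L) (v : ZMod p) ^ 2 ≤ 1
  sumX : ∀ i : ZMod p, i ≠ 0 → ∑ c ∈ X, (c : G → ℂ) (pw x i) = -(ε : ℂ)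

namespace Blk

variable {hS}
variable {n u s : ℕ} {A C B D X : Finset (IrrCharacter G)} {f₀ m₀ : ℕ} {ε : ℤ}
  (h : Blk hS M n u s A C B D X f₀ m₀ ε) (hP : Par p n u s)
include h hP

theorem degX (hX : X.Nonempty) : (f₀ : ℤ) = ε * ((K x L).index : ℤ) + p * m₀ := by
  rcases h.cases with h1 | ⟨h1, h2, -, h3⟩
  · exact absurd h1.1 hX.ne_empty
  · exact h3.deg_eq hP h2 (by omega)

open scoped Classical in
/-- The relation between the numbers of characters. -/
theorem ident : (A.card : ℤ) * n + C.card * u =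
    B.card + D.card * (s + 1) + ε * m₀ - if X = ∅ then 1 else 0 := by
  classical
  have hp := hS.hp
  have h11 : ¬ p ∣ orderOf (1 : G) := by rw [orderOf_one]; exact hp.not_dvd_one
  have hp1 : (p : ℤ) = ((u : ℤ) + 1) * s + 1 := by exact_mod_cast hP.hpe
  have hn : (n : ℤ) = (u : ℤ) * s + u + 1 := by exact_mod_cast hP.hne
  have hcd : ∀ (S : Finset (IrrCharacter G)) (d : ℕ), (∀ χ ∈ S, charDegree (χ : G → ℂ) = d) →
      ∑ χ ∈ S, (χ : G → ℂ) 1 = (S.card : ℂ) * d := by
    intro S d hd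
    rw [Finset.sum_congr rfl fun χ hχ => by rw [← charDegree_cast χ, hd χ hχ], Finset.sum_const, nsmul_eq_mul]
  have h1 := hcd A _ fun χ hχ => (h.memA χ hχ).2.1
  have h2 := hcd C _ fun χ hχ => (h.memC χ hχ).2.1
  have h3 := hcd B _ fun χ hχ => (h.memB χ hχ).2.1
  have h4 := hcd D _ fun χ hχ => (h.memD χ hχ).2.1
  refine mul_left_cancel₀ (show (p : ℤ) ≠ 0 by exact_mod_cast hp.ne_zero) ?_
  rcases h.cases with ⟨hX, hε, -, he, hsum⟩ | ⟨ht, het, hsum, -⟩
  · have hr := h.rel0 hX 1 h11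
    rw [h1, h2, h3, h4] at hr
    have hr' : (-1 : ℤ) - A.card * ((u * s + 1) * (p + u + 1) : ℕ) - C.card * ((u + 1) * (u * s + 1) : ℕ) +
        B.card * (p - 1 : ℕ) + D.card * (s * (p + u + 1) : ℕ) = 0 := by
      apply Int.cast_injective (α := ℂ)
      simpa only [Int.cast_add, Int.cast_sub, Int.cast_mul, Int.cast_neg, Int.cast_one, Int.cast_natCast,
        Int.cast_zero] using hr
    have hs' : (A.card : ℤ) + C.card + B.card + D.card = ((u : ℤ) + 1) * s := by
      exact_mod_cast hsum.trans (he.trans hP.p_sub)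
    rw [if_pos hX, hε, zero_mul, add_zero, hn]
    rw [hP.p_sub] at hr'
    push_cast at hr'
    linear_combination -hr' - hs' + ((A.card : ℤ) * u + C.card * u + 1 - B.card - D.card) * hp1
  · obtain ⟨χ, hχ⟩ : X.Nonempty := Finset.card_pos.mp (by omega)
    have hr := h.rel 1 h11 χ hχ
    rw [h1, h2, h3, h4, ← charDegree_cast χ, (h.memX χ hχ).2.1] at hr
    have hr' : (-1 : ℤ) - A.card * ((u * s + 1) * (p + u + 1) : ℕ) - C.card * ((u + 1) * (u * s + 1) : ℕ) +
        B.card * (p - 1 : ℕ) + D.card * (s * (p + u + 1) : ℕ) + ε * f₀ = 0 := by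
      apply Int.cast_injective (α := ℂ)
      simpa only [Int.cast_add, Int.cast_sub, Int.cast_mul, Int.cast_neg, Int.cast_one, Int.cast_natCast,
        Int.cast_zero] using hr
    have hs' : (A.card : ℤ) + C.card + B.card + D.card + 1 = ((K x L).index : ℤ) := by exact_mod_cast hsum
    have hd := h.degX hP ⟨χ, hχ⟩
    rw [if_neg (Finset.nonempty_iff_ne_empty.mp ⟨χ, hχ⟩), sub_zero, hn]
    rw [hP.p_sub] at hr'
    push_cast at hr'
    have hε : ε = 1 ∨ ε = -1 := by
      rcases h.cases with h0 | ⟨-, -, -, hX⟩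
      · exact absurd h0.1 (Finset.nonempty_iff_ne_empty.mp ⟨χ, hχ⟩)
      · cases hX <;> simp
    have hε2 : ε * ε = 1 := by rcases hε with rfl | rfl <;> norm_num
    linear_combination -hr' + ε * hd + ((K x L).index : ℤ) * hε2 - hs' +
      ((A.card : ℤ) * u + C.card * u - B.card - D.card) * hp1

omit hP in
/-- A character with nothing outside its row kills `K`. -/
theorem K_bot (hM : IsPModular p M) (hcore : pPrimeCore p G = ⊥)
    (hb : B.Nonempty ∨ (X.Nonempty ∧ ε = 1 ∧ f₀ = (K x L).index)) : K x L = ⊥ := by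
  rcases hb with ⟨χ, hχ⟩ | ⟨⟨χ, hχ⟩, h1, h2⟩
  · exact BrauerN.K_bot hS hM hcore (h.memB χ hχ).1 (by rw [(h.memB χ hχ).2.1, (h.memB χ hχ).2.2.1])
  · exact BrauerN.K_bot hS hM hcore (h.memX χ hχ).1
      (by rw [(h.memX χ hχ).2.1, (h.memX χ hχ).2.2.1, h1, h2, one_mul])

end Blk

variable (hM : IsPModular p M) {n u s : ℕ} (hn : Nat.card (Sylow p G) = 1 + n * p)
  (hperf : commutator G = ⊤) (hP : Par p n u s)
include hS hM hn hperf hP

/-- The types of the characters with constant rows. -/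
theorem const_type {χ : IrrCharacter G} (hχ : χ ∈ principalBlock M G) (hne : χ ≠ oneG G) {δ : ℤ}
    (hδ : δ = 1 ∨ δ = -1) (hrow : ∀ v : (ZMod p)ˣ, bInt hS χ (oneK x L) (v : ZMod p) = δ) :
    (charDegree (χ : G → ℂ) = (u * s + 1) * (p + u + 1) ∧ δ = -1) ∨
      (charDegree (χ : G → ℂ) = (u + 1) * (u * s + 1) ∧ δ = -1 ∧ u + 1 ∣ (K x L).index) ∨
      (charDegree (χ : G → ℂ) = p - 1 ∧ δ = 1) ∨
      (charDegree (χ : G → ℂ) = s * (p + u + 1) ∧ δ = 1 ∧ s ∣ (K x L).index) ∨
      (charDegree (χ : G → ℂ) = (K x L).index * (1 + n * p) ∧ δ = 1) := by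
  have hrs : rowSum hS χ = δ * ((p - 1 : ℕ) : ℤ) := sum_bInt_const hS hrow
  have hdvd : charDegree (χ : G → ℂ) ∣ (K x L).index * (1 + n * p) := by
    refine dvd_of_sum hS hM hn (fun _ : Unit => χ) (fun _ => rfl) (charDegree_pos χ) (ε := -δ) (by omega) ?_
    rw [Fintype.sum_unique, ← hS.pw_one, apply_pw_const hS hM hχ hrow one_ne_zero, Int.cast_neg]
  have hf1 : 1 < charDegree (χ : G → ℂ) := by
    have := charDegree_pos χ
    by_contra h
    exact hne (linear_eq_one hperf (by omega))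
  have hc := cast_degree hS hM hχ
  rw [hrs, Int.cast_mul, Int.cast_natCast, BrauerN.cast_pred hS.hp] at hc
  rcases hδ with rfl | rfl
  · rw [Int.cast_one, one_mul] at hc
    rcases hP.neg_degree hS.hp (index_K_dvd hS) hc hdvd with h | h | h
    · exact Or.inr (Or.inr (Or.inl ⟨h, rfl⟩))
    · exact Or.inr (Or.inr (Or.inr (Or.inr ⟨by rw [h.2, h.1], rfl⟩)))
    · exact Or.inr (Or.inr (Or.inr (Or.inl ⟨h.2, rfl, h.1⟩)))
  · rw [Int.cast_neg, Int.cast_one, neg_mul_neg, one_mul] at hc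
    rcases hP.pos_degree hS.hp (index_K_dvd hS) hf1 hc hdvd with h | h
    · exact Or.inl ⟨by rw [h, hP.card_eq], rfl⟩
    · exact Or.inr (Or.inl ⟨h.2, rfl, h.1⟩)

open scoped Classical in
/-- No member of a signed family has degree `e (1 + n p)`. -/
theorem no_huge [Fintype (IrrCharacter G)] (T : Finset (IrrCharacter G)) (δ : IrrCharacter G → ℤ)
    (hT : T.card + 1 ≤ (K x L).index)
    (hchi : ∀ χ ∈ T, χ ∈ principalBlock M G ∧ χ ≠ oneG G ∧ (δ χ = 1 ∨ δ χ = -1) ∧
      ∀ v : (ZMod p)ˣ, bInt hS χ (oneK x L) (v : ZMod p) = δ χ)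
    {f : ℕ} (hf : f = (K x L).index * (1 + n * p))
    (hsum : -1 + ∑ χ ∈ T, δ χ * (charDegree (χ : G → ℂ) : ℤ) + (f : ℤ) = 0) : False := by
  have hN : ∀ χ ∈ T, -((1 + n * p : ℕ) : ℤ) ≤ δ χ * (charDegree (χ : G → ℂ) : ℤ) := by
    intro χ hχ
    obtain ⟨h1, h2, h3, h4⟩ := hchi χ hχ
    rcases const_type hS hM hn hperf hP h1 h2 h3 h4 with h | h | h | h | h
    · rw [h.2, h.1, hP.card_eq, neg_one_mul]
    · rw [h.2.1, h.1, hP.card_eq, neg_one_mul, neg_le_neg_iff, Int.ofNat_le, mul_comm]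
      exact Nat.mul_le_mul_left _ (by omega)
    · rw [h.2, one_mul]; omega
    · rw [h.2.1, one_mul]; omega
    · rw [h.2, one_mul]; omega
  have h := Finset.card_nsmul_le_sum T _ _ hN
  rw [nsmul_eq_mul] at h
  have h2 : (T.card : ℤ) + 1 ≤ ((K x L).index : ℤ) := by exact_mod_cast hT
  have h3 := mul_le_mul_of_nonneg_right h2 (show (0 : ℤ) ≤ ((1 + n * p : ℕ) : ℤ) by omega)
  have hnp : 1 * 2 ≤ n * p := Nat.mul_le_mul hP.n_pos hS.hp.two_le
  rw [hf] at hsum
  push_cast at h h3 hsum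
  have : (0 : ℤ) < (n : ℤ) * p := by exact_mod_cast (show 0 < n * p by omega)
  linarith

set_option maxHeartbeats 1600000 in
open scoped Classical in
theorem exists_blk : ∃ A C B D X f₀ m₀ ε, Blk hS M n u s A C B D X f₀ m₀ ε := by
  have hp := hS.hp
  have := Fintype.ofFinite (IrrCharacter G)
  have := Fintype.ofFinite G
  have hp5 := hP.five_le
  have hus := hP.hus
  have hu := hP.hu
  obtain ⟨hPB, h1P⟩ := principal_isPBlock (G := G) hM
  obtain ⟨hk, exc, ε, δ, hinj, hexcB, hε, hexc, hcst, hrel⟩ := block_structure hS hM hPB (lies_principal hS hM)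
  have het : (K x L).index * Nat.card ((ZMod p)ˣ ⧸ U hS (oneK x L : K x L → ℂ)) = p - 1 := index_K_mul hS
  rw [card_U_one hS] at hk
  have he2 := two_le_index hS hperf
  set e := (K x L).index with he
  set t := Nat.card ((ZMod p)ˣ ⧸ U hS (oneK x L : K x L → ℂ)) with ht
  set F := Finset.univ.filter (fun χ => χ ∈ principalBlock M G ∧ χ ∉ Set.range exc) with hFdef
  have hFcard : F.card = e := by
    have hFcard : F.card + t = e + t := by
      rw [← hk, ht, Nat.card_eq_fintype_card, ← Finset.card_univ, ← Finset.card_image_of_injective _ hinj,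
        ← Finset.card_union_of_disjoint (Finset.disjoint_left.mpr fun a ha hb => by
          obtain ⟨c', -, rfl⟩ := Finset.mem_image.mp hb
          exact (Finset.mem_filter.mp ha).2.2 (Set.mem_range_self c')),
        Nat.card_eq_fintype_card, Fintype.card_subtype]
      congr 1
      ext a
      simp only [hFdef, Finset.mem_filter, Finset.mem_univ, true_and, Finset.mem_union, Finset.mem_image,
        Set.mem_range]
      constructor
      · rintro (h | ⟨y, rfl⟩)
        · exact h.1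
        · exact hexcB y
      · intro h
        by_cases h' : ∃ y, exc y = a
        · exact Or.inr h'
        · exact Or.inl ⟨h, h'⟩
    omega
  -- assembling
  have build : ∀ (T X : Finset (IrrCharacter G)) (d : IrrCharacter G → ℤ) (f₀ m₀ : ℕ) (ε' : ℤ),
      (∀ χ ∈ T, χ ∈ principalBlock M G ∧ χ ≠ oneG G ∧ (d χ = 1 ∨ d χ = -1) ∧
        (∀ v : (ZMod p)ˣ, bInt hS χ (oneK x L) (v : ZMod p) = d χ) ∧
        charDegree (χ : G → ℂ) ≠ e * (1 + n * p)) →
      (∀ χ ∈ principalBlock M G, χ = oneG G ∨ χ ∈ T ∨ χ ∈ X) →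
      (∀ χ ∈ X, χ ∈ principalBlock M G ∧ charDegree (χ : G → ℂ) = f₀ ∧
        rowSum hS χ = ε' * (e : ℤ) ∧ χ ≠ oneG G) →
      ((X = ∅ ∧ ε' = 0 ∧ m₀ = 0 ∧ e = p - 1 ∧ T.card = e) ∨
        (2 ≤ X.card ∧ e * X.card = p - 1 ∧ T.card + 1 = e ∧ XType p n u s e X.card f₀ m₀ ε')) →
      (∀ g : G, ¬ p ∣ orderOf g → ∀ χ ∈ X, -1 + ∑ a ∈ T, (d a : ℂ) * (a : G → ℂ) g + (ε' : ℂ) * (χ : G → ℂ) g = 0) →
      (X = ∅ → ∀ g : G, ¬ p ∣ orderOf g → -1 + ∑ a ∈ T, (d a : ℂ) * (a : G → ℂ) g = 0) →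
      (∀ χ ∈ X, ∀ v : (ZMod p)ˣ, bInt hS χ (oneK x L) (v : ZMod p) ^ 2 ≤ 1) →
      (∀ i : ZMod p, i ≠ 0 → ∑ c ∈ X, (c : G → ℂ) (pw x i) = -(ε' : ℂ)) →
      ∃ A C B D X f₀ m₀ ε, Blk hS M n u s A C B D X f₀ m₀ ε := by
    intro T X d f₀ m₀ ε' hT hcov hX hcase hr hr0 hrowX hsumX
    set NN := (u * s + 1) * (p + u + 1)
    set UU := (u + 1) * (u * s + 1) with hUU
    have hNU : NN ≠ UU := by
      rw [hUU, mul_comm (u + 1)]
      exact fun h => by have := Nat.eq_of_mul_eq_mul_left (by omega) h; omega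
    have hBD : p - 1 ≠ s * (p + u + 1) := by
      have := Nat.le_mul_of_pos_left (p + u + 1) (show 0 < s by omega)
      omega
    set A := T.filter (fun χ => d χ = -1 ∧ charDegree (χ : G → ℂ) = NN) with hA
    set C := T.filter (fun χ => d χ = -1 ∧ charDegree (χ : G → ℂ) = UU) with hC
    set B := T.filter (fun χ => d χ = 1 ∧ charDegree (χ : G → ℂ) = p - 1) with hB
    set D := T.filter (fun χ => d χ = 1 ∧ charDegree (χ : G → ℂ) = s * (p + u + 1)) with hD
    have htype : ∀ χ ∈ T, χ ∈ A ∨ χ ∈ C ∨ χ ∈ B ∨ χ ∈ D := by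
      intro χ hχ
      obtain ⟨h1, h2, h3, h4, h5⟩ := hT χ hχ
      simp only [hA, hC, hB, hD, Finset.mem_filter]
      rcases const_type hS hM hn hperf hP h1 h2 h3 h4 with h | h | h | h | h
      · exact Or.inl ⟨hχ, h.2, h.1⟩
      · exact Or.inr (Or.inl ⟨hχ, h.2.1, h.1⟩)
      · exact Or.inr (Or.inr (Or.inl ⟨hχ, h.2, h.1⟩))
      · exact Or.inr (Or.inr (Or.inr ⟨hχ, h.2.1, h.1⟩))
      · exact absurd h.1 h5
    have hsplit : ∀ {R : Type} [AddCommMonoid R] (φ : IrrCharacter G → R),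
        ∑ χ ∈ T, φ χ = ∑ χ ∈ A, φ χ + ∑ χ ∈ C, φ χ + ∑ χ ∈ B, φ χ + ∑ χ ∈ D, φ χ := by
      intro R _ φ
      have d1 : Disjoint A C := Finset.disjoint_filter.mpr fun _ _ h1 h2 => hNU (h1.2.symm.trans h2.2)
      have d2 : Disjoint (A ∪ C) B := Finset.disjoint_union_left.mpr
        ⟨Finset.disjoint_filter.mpr fun _ _ h1 h2 => by omega,
          Finset.disjoint_filter.mpr fun _ _ h1 h2 => by omega⟩
      have d3 : Disjoint (A ∪ C ∪ B) D := Finset.disjoint_union_left.mpr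
        ⟨Finset.disjoint_union_left.mpr
          ⟨Finset.disjoint_filter.mpr fun _ _ h1 h2 => by omega,
            Finset.disjoint_filter.mpr fun _ _ h1 h2 => by omega⟩,
          Finset.disjoint_filter.mpr fun _ _ h1 h2 => hBD (h1.2.symm.trans h2.2)⟩
      rw [← Finset.sum_union d1, ← Finset.sum_union d2, ← Finset.sum_union d3]
      refine Finset.sum_congr (Finset.ext fun χ => ?_) fun _ _ => rfl
      simp only [Finset.mem_union]
      constructor
      · intro h; have := htype χ h; tauto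
      · rintro (((h | h) | h) | h) <;> exact (Finset.mem_filter.mp h).1
    have hcard : T.card = A.card + C.card + B.card + D.card := by
      have h := hsplit (fun _ => (1 : ℕ))
      simpa [Finset.sum_const] using h
    have hsd : ∀ g : G, ∑ a ∈ T, (d a : ℂ) * (a : G → ℂ) g = -∑ a ∈ A, (a : G → ℂ) g -
        ∑ c ∈ C, (c : G → ℂ) g + ∑ b ∈ B, (b : G → ℂ) g + ∑ d ∈ D, (d : G → ℂ) g := by
      intro g
      rw [hsplit, sub_eq_add_neg, ← Finset.sum_neg_distrib, ← Finset.sum_neg_distrib]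
      refine congrArg₂ (· + ·) (congrArg₂ (· + ·) (congrArg₂ (· + ·) ?_ ?_) ?_) ?_ <;>
        exact Finset.sum_congr rfl fun a ha => by
          rw [(Finset.mem_filter.mp ha).2.1]; push_cast; ring
    have hmem : ∀ (δ₀ : ℤ) (dd : ℕ), ∀ χ ∈ T.filter (fun χ => d χ = δ₀ ∧ charDegree (χ : G → ℂ) = dd),
        χ ∈ principalBlock M G ∧ charDegree (χ : G → ℂ) = dd ∧ rowSum hS χ = δ₀ * ((p - 1 : ℕ) : ℤ) ∧
          χ ≠ oneG G ∧ ∀ i : ZMod p, i ≠ 0 → (χ : G → ℂ) (pw x i) = -(δ₀ : ℂ) := by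
      intro δ₀ dd χ hχ
      obtain ⟨h0, h1, h2⟩ := Finset.mem_filter.mp hχ
      obtain ⟨g1, g2, -, g4, -⟩ := hT χ h0
      refine ⟨g1, h2, ?_, g2, fun i hi => ?_⟩
      · rw [← h1]; exact sum_bInt_const hS g4
      · rw [← h1]; exact apply_pw_const hS hM g1 g4 hi
    have hdvd : ∀ χ ∈ T, (charDegree (χ : G → ℂ) = UU → d χ = -1 → u + 1 ∣ e) ∧
        (charDegree (χ : G → ℂ) = s * (p + u + 1) → d χ = 1 → s ∣ e) := by
      intro χ hχ
      obtain ⟨h1, h2, h3, h4, h5⟩ := hT χ hχ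
      refine ⟨fun hd hδ => ?_, fun hd hδ => ?_⟩ <;>
        rcases const_type hS hM hn hperf hP h1 h2 h3 h4 with h | h | h | h | h
      · exact absurd (h.1.symm.trans hd) hNU
      · exact h.2.2
      · omega
      · omega
      · omega
      · omega
      · omega
      · exact absurd (h.1.symm.trans hd) hBD
      · exact h.2.2
      · exact absurd h.1 h5
    refine ⟨A, C, B, D, X, f₀, m₀, ε', ?_, ?_, ?_, ?_, hX, ?_, ?_, ?_, ?_, ?_, ?_, hrowX, hsumX⟩
    · intro χ hχ
      have h := hmem (-1) NN χ hχ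
      simpa using h
    · intro χ hχ
      have h := hmem (-1) UU χ hχ
      simpa using h
    · intro χ hχ
      have h := hmem 1 (p - 1) χ hχ
      simpa using h
    · intro χ hχ
      have h := hmem 1 (s * (p + u + 1)) χ hχ
      simpa using h
    · rintro ⟨χ, hχ⟩
      obtain ⟨h0, h1, h2⟩ := Finset.mem_filter.mp hχ
      exact (hdvd χ h0).1 h2 h1
    · rintro ⟨χ, hχ⟩
      obtain ⟨h0, h1, h2⟩ := Finset.mem_filter.mp hχ
      exact (hdvd χ h0).2 h2 h1
    · intro χ hχ
      rcases hcov χ hχ with h | h | h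
      · exact Or.inl h
      · have := htype χ h; tauto
      · tauto
    · rw [← hcard]; exact hcase
    · intro g hg χ hχ
      have h := hr g hg χ hχ
      rw [hsd] at h
      linear_combination h
    · intro hX0 g hg
      have h := hr0 hX0 g hg
      rw [hsd] at h
      linear_combination h
  have h11 : ¬ p ∣ orderOf (1 : G) := by rw [orderOf_one]; exact hp.not_dvd_one
  rcases Nat.lt_or_ge t 2 with ht1 | ht2
  · -- one exceptional class: all rows are constant
    have ht1 : t = 1 := le_antisymm (by omega) Nat.card_pos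
    rw [ht1, mul_one] at het
    haveI : Subsingleton ((ZMod p)ˣ ⧸ U hS (oneK x L : K x L → ℂ)) := (Nat.card_eq_one_iff_unique.mp ht1).1
    let c₀ : ((ZMod p)ˣ ⧸ U hS (oneK x L : K x L → ℂ)) :=
      Classical.arbitrary ((ZMod p)ˣ ⧸ U hS (oneK x L : K x L → ℂ))
    let δ' : IrrCharacter G → ℤ := fun χ => if χ = exc c₀ then ε else δ χ
    have hc0 : ∀ χ, χ ∈ Set.range exc ↔ χ = exc c₀ :=
      fun χ => ⟨fun ⟨c, hc⟩ => by rw [← hc, Subsingleton.elim c c₀], fun h => ⟨c₀, h.symm⟩⟩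
    set PB := Finset.univ.filter (fun χ => χ ∈ principalBlock M G) with hPBdef
    have hrow : ∀ χ ∈ PB, (δ' χ = 1 ∨ δ' χ = -1) ∧
        ∀ v : (ZMod p)ˣ, bInt hS χ (oneK x L) (v : ZMod p) = δ' χ := by
      intro χ hχ
      by_cases h : χ = exc c₀
      · subst h
        refine ⟨by simp only [δ', if_pos rfl]; exact hε, fun v => ?_⟩
        rw [hexc, if_pos (Subsingleton.elim _ _)]
        simp [δ']
      · simp only [δ', if_neg h]
        exact hcst χ (Finset.mem_filter.mp hχ).2 fun hh => h ((hc0 χ).mp hh)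
    have hPBeq : PB = insert (exc c₀) F := by
      ext a
      simp only [hPBdef, hFdef, Finset.mem_filter, Finset.mem_univ, true_and, Finset.mem_insert, hc0]
      refine ⟨fun h => ?_, ?_⟩
      · by_cases h' : a = exc c₀
        · exact Or.inl h'
        · exact Or.inr ⟨h, h'⟩
      · rintro (rfl | h)
        · exact hexcB c₀
        · exact h.1
    have hexcF : exc c₀ ∉ F := fun h => (Finset.mem_filter.mp h).2.2 ⟨c₀, rfl⟩
    have hPBcard : PB.card = e + 1 := by rw [hPBeq, Finset.card_insert_of_notMem hexcF, hFcard]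
    have honePB : oneG G ∈ PB := Finset.mem_filter.mpr ⟨Finset.mem_univ _, h1P⟩
    have hδone : δ' (oneG G) = -1 := by rw [← (hrow _ honePB).2 1, bInt_oneG hS]
    have hrel' : ∀ g : G, ¬ p ∣ orderOf g →
        -1 + ∑ χ ∈ PB.erase (oneG G), (δ' χ : ℂ) * (χ : G → ℂ) g = 0 := by
      intro g hg
      have h2 : ∑ χ ∈ PB, (δ' χ : ℂ) * (χ : G → ℂ) g = 0 := by
        rw [hPBeq, Finset.sum_insert hexcF, show δ' (exc c₀) = ε from if_pos rfl,
          Finset.sum_congr rfl (g := fun χ : IrrCharacter G => (δ χ : ℂ) * (χ : G → ℂ) g) fun χ hχ => by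
            rw [show δ' χ = δ χ from if_neg fun h => hexcF (by rw [← h]; exact hχ)], add_comm]
        have h := hrel g hg c₀
        rw [Finset.sum_congr (s₂ := F) (by ext; simp [hFdef]) fun _ _ => rfl] at h
        exact h
      rw [← Finset.add_sum_erase _ _ honePB, hδone, oneG_apply] at h2
      linear_combination h2
    have hcardT : (PB.erase (oneG G)).card = e := by rw [Finset.card_erase_of_mem honePB, hPBcard]; rfl
    have hT : ∀ χ ∈ PB.erase (oneG G), χ ∈ principalBlock M G ∧ χ ≠ oneG G ∧ (δ' χ = 1 ∨ δ' χ = -1) ∧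
        ∀ v : (ZMod p)ˣ, bInt hS χ (oneK x L) (v : ZMod p) = δ' χ := fun χ hχ =>
      ⟨(Finset.mem_filter.mp (Finset.mem_of_mem_erase hχ)).2, Finset.ne_of_mem_erase hχ,
        hrow χ (Finset.mem_of_mem_erase hχ)⟩
    refine build (PB.erase (oneG G)) ∅ δ' 0 0 0 (fun χ hχ => ?_) (fun χ hχ => ?_) (by simp)
      (Or.inl ⟨rfl, rfl, rfl, het, hcardT⟩) (by simp) (fun _ g hg => hrel' g hg) (by simp) (by simp)
    · obtain ⟨h1, h2, h3, h4⟩ := hT χ hχ
      refine ⟨h1, h2, h3, h4, fun hbad => ?_⟩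
      have hd : δ' χ = 1 := by
        rcases const_type hS hM hn hperf hP h1 h2 h3 h4 with h | h | h | h | h
        all_goals first
          | exact h.2
          | exact h.2.1
          | (exfalso
             have hle : 1 * (1 + n * p) ≤ e * (1 + n * p) := Nat.mul_le_mul_right _ (by omega)
             have hle2 : 2 * (1 + n * p) ≤ e * (1 + n * p) := Nat.mul_le_mul_right _ he2
             have h3' : (u + 1) * (u * s + 1) ≤ (u * s + 1) * (p + u + 1) := by
               rw [mul_comm]; exact Nat.mul_le_mul_left _ (by omega)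
             have h4' := hP.card_eq
             omega)
      have h := hrel' 1 h11
      rw [← Finset.add_sum_erase _ _ hχ, hd, Int.cast_one, one_mul, ← charDegree_cast χ] at h
      refine no_huge hS hM hn hperf hP ((PB.erase (oneG G)).erase χ) δ'
        (by rw [Finset.card_erase_of_mem hχ, hcardT]; omega)
        (fun ψ hψ => hT ψ (Finset.mem_of_mem_erase hψ)) hbad ?_
      apply Int.cast_injective (α := ℂ)
      push_cast
      simp only [charDegree_cast]
      rw [← charDegree_cast χ]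
      linear_combination h
    · by_cases h : χ = oneG G
      · exact Or.inl h
      · exact Or.inr (Or.inl (Finset.mem_erase.mpr ⟨h, Finset.mem_filter.mpr ⟨Finset.mem_univ _, hχ⟩⟩))
  · -- several exceptional classes
    have hone : oneG G ∉ Set.range exc := by
      rintro ⟨c, hc⟩
      haveI : Nontrivial ((ZMod p)ˣ ⧸ U hS (oneK x L : K x L → ℂ)) := Finite.one_lt_card_iff_nontrivial.mp ht2
      obtain ⟨c', hc'⟩ := exists_ne c
      have h := hexc c c'.out
      rw [hc, bInt_oneG hS, if_neg (fun e => hc' ((Quotient.out_eq c').symm.trans e))] at h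
      omega
    have honeF : oneG G ∈ F := Finset.mem_filter.mpr ⟨Finset.mem_univ _, h1P, hone⟩
    have hδone : δ (oneG G) = -1 := by rw [← (hcst (oneG G) h1P hone).2 1, bInt_oneG hS]
    have heP : e < p - 1 := by
      have := Nat.mul_le_mul_left e ht2
      omega
    have hrel2 : ∀ g : G, ¬ p ∣ orderOf g → ∀ c, -1 + ∑ χ ∈ F.erase (oneG G), (δ χ : ℂ) * (χ : G → ℂ) g +
        (ε : ℂ) * (exc c : G → ℂ) g = 0 := by
      intro g hg c
      have h := hrel g hg c
      rw [Finset.sum_congr (s₂ := F) (by ext; simp [hFdef]) fun _ _ => rfl, ← Finset.add_sum_erase _ _ honeF,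
        hδone, oneG_apply] at h
      push_cast at h
      linear_combination h
    have hT : ∀ χ ∈ F.erase (oneG G), χ ∈ principalBlock M G ∧ χ ≠ oneG G ∧ (δ χ = 1 ∨ δ χ = -1) ∧
        ∀ v : (ZMod p)ˣ, bInt hS χ (oneK x L) (v : ZMod p) = δ χ := fun χ hχ => by
      obtain ⟨hne, hm⟩ := Finset.mem_erase.mp hχ
      obtain ⟨hB, hr⟩ := (Finset.mem_filter.mp hm).2
      exact ⟨hB, hne, hcst χ hB hr⟩
    have hcardT : (F.erase (oneG G)).card + 1 = e := by
      rw [Finset.card_erase_of_mem honeF, hFcard]; omega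
    obtain ⟨c₁⟩ : Nonempty ((ZMod p)ˣ ⧸ U hS (oneK x L : K x L → ℂ)) := inferInstance
    set f₀ := charDegree (exc c₁ : G → ℂ) with hf0
    have hdeg1 : ∀ c, (-1 : ℤ) + ∑ χ ∈ F.erase (oneG G), δ χ * (charDegree (χ : G → ℂ) : ℤ) +
        ε * (charDegree (exc c : G → ℂ) : ℤ) = 0 := by
      intro c
      have h := hrel2 1 h11 c
      apply Int.cast_injective (α := ℂ)
      push_cast
      simp only [charDegree_cast]
      exact h
    have hsame : ∀ c, charDegree (exc c : G → ℂ) = f₀ := by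
      intro c
      have h1 := hdeg1 c
      have h2 := hdeg1 c₁
      rw [← hf0] at h2
      rcases hε with h | h <;> rw [h] at h1 h2 <;> omega
    have hrs : ∀ c, rowSum hS (exc c) = ε * (e : ℤ) := fun c => by
      rw [rowSum, sum_bInt_exc hS (hexc c), card_U_one hS]
    have hsum : ∀ i : ZMod p, i ≠ 0 → ∑ c, (exc c : G → ℂ) (pw x i) = -(ε : ℂ) :=
      fun i hi => sum_exc hS hM hexcB
        (f := fun v : (ZMod p)ˣ => (v : ((ZMod p)ˣ ⧸ U hS (oneK x L : K x L → ℂ))))
        (fun c v => by convert hexc c v using 2) hi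
    have hdvd : f₀ ∣ e * (1 + n * p) := dvd_of_sum hS hM hn exc hsame (charDegree_pos _) (ε := -ε) (by omega)
      (by
        have h := hsum 1 one_ne_zero
        rw [hS.pw_one] at h
        rw [h, Int.cast_neg])
    have hcast := cast_degree hS hM (hexcB c₁)
    rw [← hf0, hrs, Int.cast_mul, Int.cast_natCast] at hcast
    have hXcard : (Finset.univ.image exc).card = t := by
      rw [Finset.card_image_of_injective _ hinj, Finset.card_univ, ← Nat.card_eq_fintype_card]
    have hxt : ∃ m₀, XType p n u s e t f₀ m₀ ε := by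
      rcases hε with hε1 | hε1
      · rw [hε1] at hcast ⊢
        rw [Int.cast_one, one_mul] at hcast
        rcases hP.exc_pos_degree hp (index_K_dvd hS) hcast hdvd with h | h | ⟨g, h1, h2⟩
        · exact ⟨0, h ▸ XType.degE⟩
        · exfalso
          have h0 := hdeg1 c₁
          rw [← hf0, hε1, one_mul] at h0
          exact no_huge hS hM hn hperf hP (F.erase (oneG G)) δ hcardT.le hT h h0
        · exact ⟨g, h2 ▸ XType.degP g h1⟩
      · rw [hε1] at hcast ⊢
        rw [Int.cast_neg, Int.cast_one, neg_one_mul] at hcast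
        rcases hP.exc_neg_degree hp het ht2 hcast hdvd with h | ⟨g, h1, h2, h3⟩
        · obtain ⟨w, hw⟩ : ∃ w : ℕ, f₀ + e = p * w := by
            obtain ⟨m, hm, -⟩ := degree_eq hS hM (hexcB c₁)
            rw [← hf0, hrs, hε1] at hm
            exact ⟨m, by apply Int.natCast_inj.mp; push_cast; linarith⟩
          refine ⟨w, XType.degN f₀ w h ?_⟩
          refine Nat.eq_of_mul_eq_mul_left hp.pos ?_
          have h' : t * (f₀ + e) = t * (p * w) := by rw [hw]
          rw [mul_add, h, mul_comm t e, het] at h'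
          calc p * (t * w) = t * (p * w) := by ring
            _ = 1 + n * p + (p - 1) := h'.symm
            _ = p * (n + 1) := by rw [mul_add, mul_one, mul_comm p n]; omega
        · exact ⟨g, h3 ▸ XType.degU g h1 h2⟩
    obtain ⟨m₀, hm₀⟩ := hxt
    refine build (F.erase (oneG G)) (Finset.univ.image exc) δ f₀ m₀ ε (fun χ hχ => ?_) (fun χ hχ => ?_)
      (fun χ hχ => ?_) (Or.inr ⟨by omega, by rw [hXcard, het], hcardT, by rw [hXcard]; exact hm₀⟩) ?_ ?_ ?_ ?_
    · obtain ⟨h1, h2, h3, h4⟩ := hT χ hχ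
      refine ⟨h1, h2, h3, h4, fun hbad => ?_⟩
      have hc := cast_degree hS hM h1
      rw [show rowSum hS χ = δ χ * ((p - 1 : ℕ) : ℤ) from sum_bInt_const hS h4, hbad, Int.cast_mul,
        Int.cast_natCast, BrauerN.cast_pred hp] at hc
      push_cast at hc
      rw [ZMod.natCast_self, mul_zero, add_zero, mul_one] at hc
      have hz : ((K x L).index : ZMod p) = 1 ∨ ((K x L).index : ZMod p) = -1 := by
        rcases h3 with h | h <;> rw [h] at hc <;> push_cast at hc <;> rw [hc]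
        · exact Or.inr (by rw [one_mul])
        · exact Or.inl (by rw [neg_mul_neg, one_mul])
      rcases hz with h | h
      · rw [← Nat.cast_one, ZMod.natCast_eq_natCast_iff', Nat.mod_eq_of_lt (by omega),
          Nat.mod_eq_of_lt (by omega)] at h
        omega
      · rw [← BrauerN.cast_pred hp, ZMod.natCast_eq_natCast_iff', Nat.mod_eq_of_lt (by omega),
          Nat.mod_eq_of_lt (by omega)] at h
        omega
    · by_cases h1 : χ = oneG G
      · exact Or.inl h1
      by_cases h2 : χ ∈ Set.range exc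
      · obtain ⟨c, rfl⟩ := h2
        exact Or.inr (Or.inr (Finset.mem_image_of_mem _ (Finset.mem_univ c)))
      exact Or.inr (Or.inl (Finset.mem_erase.mpr ⟨h1, Finset.mem_filter.mpr ⟨Finset.mem_univ _, hχ, h2⟩⟩))
    · obtain ⟨c, -, rfl⟩ := Finset.mem_image.mp hχ
      exact ⟨hexcB c, hsame c, hrs c, fun h => hone ⟨c, h⟩⟩
    · intro g hg χ hχ
      obtain ⟨c, -, rfl⟩ := Finset.mem_image.mp hχ
      exact hrel2 g hg c
    · intro h0
      rw [h0, Finset.card_empty] at hXcard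
      omega
    · intro χ hχ v
      obtain ⟨c, -, rfl⟩ := Finset.mem_image.mp hχ
      rw [hexc]
      split_ifs <;> rcases hε with h | h <;> simp [h]
    · intro i hi
      rw [Finset.sum_image fun a _ b _ h => hinj h, hsum i hi]

end Cfsg.Agent.FewSylowClass
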