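/-
Values of the principal block on `C(x)` and on the complement (namespace `Cfsg.Agent.FewSylowClass`).

Main results: `conj_coset`, `apply_pw_K`, `exists_fix`.
-/
import Cfsg.Agent.Lib.FewSylowClass.Shape
import Cfsg.Agent.Lib.BrauerN.Local

set_option autoImplicit false
set_option linter.unusedSectionVars false
set_option linter.style.haveILetI false

namespace Cfsg.Agent.FewSylowClass

open Cfsg Cfsg.Agent.Blocks Cfsg.Agent.CyclicDefect Cfsg.Agent.BrauerN

variable {G : Type*} [Group G] [Finite G] {p : ℕ} [Fact p.Prime] {x : G} {L : Subgroup G}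
  (hS : Setting p x L)
include hS

theorem alpha_ne {y : L} (hy : y ∉ K x L) :
    ((CyclicDefect.alpha hS y : (ZMod p)ˣ) : ZMod p) ≠ 1 := fun h => hy (by
  rw [← ker_alpha hS, MonoidHom.mem_ker]
  exact Units.ext (h.trans Units.val_one.symm))

theorem pw_neg (i : ZMod p) : pw x (-i) = (pw x i)⁻¹ := by
  rw [eq_inv_iff_mul_eq_one, ← hS.pw_add, neg_add_cancel, hS.pw_zero]

/-- `⟨x⟩ y` is one class under `⟨x⟩` for `y` outside `K`. -/
theorem conj_coset {y : L} (hy : y ∉ K x L) (i : ZMod p) :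
    ∃ j : ZMod p, pw x j * (y : G) * (pw x j)⁻¹ = pw x i * (y : G) := by
  set a : ZMod p := ((CyclicDefect.alpha hS y : (ZMod p)ˣ) : ZMod p) with ha0
  have ha : (1 : ZMod p) - a ≠ 0 := sub_ne_zero.mpr (alpha_ne hS hy).symm
  refine ⟨(1 - a)⁻¹ * i, ?_⟩
  set j := (1 - a)⁻¹ * i with hj
  calc pw x j * (y : G) * (pw x j)⁻¹ = pw x j * ((y : G) * pw x (-j) * (y : G)⁻¹) * (y : G) := by
        rw [pw_neg hS]; group
    _ = pw x (j + a * (-j)) * (y : G) := by rw [CyclicDefect.alpha_spec, ← hS.pw_add]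
    _ = pw x i * (y : G) := by
      congr 2
      rw [hj, show ∀ c b : ZMod p, c + b * (-c) = (1 - b) * c from fun c b => by ring, mul_inv_cancel_left₀ ha]

theorem apply_coset {f : G → ℂ} (hf : IsClassFunction G f) {y : L} (hy : y ∉ K x L) (i : ZMod p) :
    f (pw x i * (y : G)) = f (y : G) := by
  obtain ⟨j, hj⟩ := conj_coset hS hy i
  rw [← hj]
  exact hf _ _

variable {M : Ideal AlgInt} (hM : IsPModular p M)
include hM

theorem apply_pw_K {χ : IrrCharacter G} (hχ : χ ∈ principalBlock M G) {i : ZMod p} (hi : i ≠ 0) (k : K x L) :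
    (χ : G → ℂ) (pw x i * ((k : L) : G)) = (χ : G → ℂ) (pw x i) := by
  classical
  have := Fintype.ofFinite (IrrCharacter (K x L))
  have := Fintype.ofFinite (K x L)
  have key : ∀ k : K x L, (χ : G → ℂ) (pw x i * ((k : L) : G)) =
      dec (x := x) (χ : G → ℂ) (oneK x L : K x L → ℂ) i := by
    intro k
    rw [apply_pw_mul hS hM χ hi k, ← isPBlock_eq_blockOf hM (principal_isPBlock (G := G) hM).1 hχ,
      Finset.sum_eq_single (oneK x L)
        (fun φ hφ hne => absurd (lies_eq_one hS hM (Finset.mem_filter.mp hφ).2) hne)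
        (fun h' => absurd (Finset.mem_filter.mpr ⟨Finset.mem_univ _, lies_principal hS hM⟩) h'),
      show ((oneK x L : IrrCharacter (K x L)) : K x L → ℂ) k = 1 from rfl, mul_one]
  rw [key k, ← key 1, OneMemClass.coe_one, OneMemClass.coe_one, mul_one]

/-- The character on the fixed points of `⟨x⟩`. -/
theorem exists_fix {χ : IrrCharacter G} (hχ : χ ∈ principalBlock M G) {m : ℕ}
    (hm : (charDegree (χ : G → ℂ) : ℤ) = rowSum hS χ + p * m) :
    ∃ φ : L → ℂ, IsCharacter L φ ∧ φ 1 = (m : ℂ) ∧ (∀ y : L, y ∉ K x L → (χ : G → ℂ) (y : G) = φ y) ∧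
      ∀ w : L, w ∈ K x L → (χ : G → ℂ) (w : G) = (rowSum hS χ : ℂ) + p * φ w := by
  classical
  have hp0 : (p : ℂ) ≠ 0 := Nat.cast_ne_zero.mpr hS.hp.ne_zero
  obtain ⟨φ, hφc, hφ⟩ := exists_fixed hS (Char.IsIrrCharacter.isCharacter χ.2)
  have hw : ∀ w : L, w ∈ K x L → (χ : G → ℂ) (w : G) = (rowSum hS χ : ℂ) + p * φ w := by
    intro w hw
    rw [hφ w, ← Finset.add_sum_erase _ _ (Finset.mem_univ (0 : ZMod p)), hS.pw_zero, one_mul,
      Finset.sum_congr rfl (g := fun i => (χ : G → ℂ) (pw x i)) fun i hi => by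
        exact apply_pw_K hS hM hχ (Finset.ne_of_mem_erase hi) ⟨w, hw⟩]
    have h := sum_pw_ne_zero hS hM hχ
    rw [show ∑ i ∈ Finset.univ.erase (0 : ZMod p), (χ : G → ℂ) (pw x i) =
        ∑ i : (ZMod p)ˣ, (χ : G → ℂ) (pw x (i : ZMod p)) from ?_, h]
    · ring
    refine (Finset.sum_bij (fun (v : (ZMod p)ˣ) _ => (v : ZMod p))
      (fun v _ => Finset.mem_erase.mpr ⟨v.ne_zero, Finset.mem_univ _⟩)
      (fun a _ b _ h => Units.ext h) (fun j hj => ⟨Units.mk0 j (Finset.ne_of_mem_erase hj), Finset.mem_univ _, rfl⟩)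
      fun v _ => rfl).symm
  refine ⟨φ, hφc, ?_, fun y hy => ?_, hw⟩
  · have h := hw 1 (K x L).one_mem
    rw [OneMemClass.coe_one, ← charDegree_cast] at h
    have h' : ((charDegree (χ : G → ℂ) : ℤ) : ℂ) = ((rowSum hS χ + p * m : ℤ) : ℂ) := by rw [hm]
    push_cast at h'
    rw [h', add_right_inj] at h
    exact (mul_left_cancel₀ hp0 h).symm
  · have h := hφ y
    rw [Finset.sum_congr rfl fun i _ =>
        apply_coset hS (Char.IsCharacter.isClassFunction (Char.IsIrrCharacter.isCharacter χ.2)) hy i,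
      Finset.sum_const, Finset.card_univ, ZMod.card, nsmul_eq_mul] at h
    exact (mul_left_cancel₀ hp0 h).symm

end Cfsg.Agent.FewSylowClass
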