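/-
Separation of `K` from the rest of the complement, and what transfer gives from it
(namespace `Cfsg.Agent.FewSylowClass`).

Main results: `eq_zero_of_small`, `dvd_sub_of_apply_eq`, `Blk.fixC`, `Blk.fixD`, `separation`, `parity`.
-/
import Cfsg.Agent.Lib.FewSylowClass.Values
import Cfsg.Agent.Lib.GaloisAvg.PElement
import Cfsg.Agent.Lib.Transfer.FusionInvariant

set_option autoImplicit false
set_option linter.unusedSectionVars false
set_option linter.style.haveILetI false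

namespace Cfsg.Agent.FewSylowClass

open Cfsg Cfsg.Agent.Blocks Cfsg.Agent.CyclicDefect Cfsg.Agent.BrauerN

/-- An integral function all whose conjugate values are small vanishes. -/
theorem eq_zero_of_small {H : Type*} [Group H] [Finite H] {f : H → ℂ} (hf : GaloisAvg.CycloValued f) {g : H}
    (h : ∀ j : ℕ, j.Coprime (Nat.card H) → ‖f (g ^ j)‖ < 1) : f g = 0 := by
  classical
  have := Fintype.ofFinite H
  by_contra hne
  set S := Finset.univ.filter fun a : H => ∃ j : ℕ, j.Coprime (Nat.card H) ∧ g ^ j = a with hSdef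
  have hgS : g ∈ S := Finset.mem_filter.mpr ⟨Finset.mem_univ _, 1, Nat.coprime_one_left _, pow_one g⟩
  have hle := GaloisAvg.card_le_sum_norm_pow hf S (fun a ha k hk => by
      obtain ⟨j, hj, rfl⟩ := (Finset.mem_filter.mp ha).2
      exact Finset.mem_filter.mpr ⟨Finset.mem_univ _, j * k, Nat.Coprime.mul_left hj hk, pow_mul g j k⟩)
    (fun a ha h0 => by
      obtain ⟨j, hj, rfl⟩ := (Finset.mem_filter.mp ha).2
      exact hne (hf.eq_zero_of_pow_eq_zero hj h0)) 1
  have hlt : ∑ a ∈ S, ‖f a‖ ^ 1 < ∑ _a ∈ S, (1 : ℝ) := by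
    refine Finset.sum_lt_sum_of_nonempty ⟨g, hgS⟩ fun a ha => ?_
    obtain ⟨j, hj, rfl⟩ := (Finset.mem_filter.mp ha).2
    rw [pow_one]
    exact h j hj
  rw [Finset.sum_const, nsmul_one] at hlt
  exact absurd hle (not_le.mpr hlt)

/-- At a `q`-element an integral value is congruent to the degree. -/
theorem dvd_sub_of_apply_eq {H : Type*} [Group H] [Finite H] {χ : H → ℂ} (hχ : IsCharacter H χ) {q : ℕ}
    [hq : Fact q.Prime] {g : H} {k n : ℕ} {c : ℤ} (hg : g ^ q ^ k = 1) (hn : χ 1 = n) (h0 : χ g = c) :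
    (q : ℤ) ∣ (n : ℤ) - c := by
  obtain ⟨d, ρ, rfl⟩ := hχ
  rw [Representation.char_one, Nat.cast_inj] at hn
  obtain ⟨b, μ, hμ, hroot⟩ := Char.exists_eigenbasis ρ g
  have hsum := Char.character_eq_sum_eigenvalues ρ g b μ hμ
  rw [h0] at hsum
  let R := integralClosure ℤ ℂ
  have hμk : ∀ i, μ i ^ q ^ k = 1 := fun i => by
    obtain ⟨a, ha⟩ := orderOf_dvd_of_pow_eq_one hg
    rw [ha, pow_mul, hroot i, one_pow]
  let m : Fin (Module.finrank ℂ (Fin d → ℂ)) → R := fun i => ⟨μ i,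
    IsIntegral.of_pow (pow_pos hq.out.pos k) (by rw [hμk i]; exact isIntegral_one)⟩
  have hnu : (q : R) ∈ nonunits R := by
    rintro ⟨v, hv⟩
    have h2 : ((v⁻¹ : Rˣ) : ℂ) = (q : ℂ)⁻¹ := by
      refine eq_inv_of_mul_eq_one_left ?_
      have h3 : ((v⁻¹ : Rˣ) : R) * (q : R) = 1 := by rw [← hv, Units.inv_mul]
      simpa using congrArg (fun z : R => (z : ℂ)) h3
    have h4 := Char.nat_dvd_of_isIntegral_div (m := 1) hq.out.ne_zero
      (by simpa using (h2 ▸ (v⁻¹ : Rˣ).val.2 : IsIntegral ℤ ((q : ℂ)⁻¹)))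
    exact hq.out.not_dvd_one h4
  haveI := CharP.quotient R q hnu
  haveI : ExpChar (R ⧸ Ideal.span ({(q : R)} : Set R)) q := ExpChar.prime hq.out
  let π := Ideal.Quotient.mk (Ideal.span ({(q : R)} : Set R))
  have h1 : ∑ i, π (m i) = (c : R ⧸ Ideal.span ({(q : R)} : Set R)) := by
    rw [← map_sum, ← map_intCast π c]
    congr 1
    refine Subtype.ext ?_
    push_cast
    exact hsum.symm
  have h2 : (∑ i, π (m i)) ^ q ^ k = ∑ i, π (m i) ^ q ^ k := sum_pow_char_pow _ _ _ _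
  have h3 : ∀ i, π (m i) ^ q ^ k = 1 := fun i => by
    rw [← map_pow, show m i ^ q ^ k = 1 from Subtype.ext (hμk i), map_one]
  rw [h1, Finset.sum_congr rfl fun i _ => h3 i, Finset.sum_const, Finset.card_univ, Fintype.card_fin,
    nsmul_one, hn] at h2
  have hc : (c : R ⧸ Ideal.span ({(q : R)} : Set R)) ^ q ^ k = c := by
    have h := iterateFrobenius_def (R := R ⧸ Ideal.span ({(q : R)} : Set R)) q k (c : _)
    rw [← h, map_intCast]
  rw [hc] at h2
  rw [← CharP.intCast_eq_zero_iff (R ⧸ Ideal.span ({(q : R)} : Set R)) q, Int.cast_sub, Int.cast_natCast,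
    ← h2, sub_self]

variable {G : Type*} [Group G] [Finite G] {p : ℕ} [Fact p.Prime] {x : G} {L : Subgroup G}
  {M : Ideal AlgInt} {hS : Setting p x L} {n u s : ℕ} {A C B D X : Finset (IrrCharacter G)} {f₀ m₀ : ℕ} {ε : ℤ}

namespace Blk

variable (h : Blk hS M n u s A C B D X f₀ m₀ ε) (hP : Par p n u s) (hM : IsPModular p M)
include h hP hM

theorem fixA {χ : IrrCharacter G} (hχ : χ ∈ A) :
    ∃ φ : L → ℂ, IsCharacter L φ ∧ φ 1 = ((n + 1 : ℕ) : ℂ) ∧ (∀ y : L, y ∉ K x L → (χ : G → ℂ) (y : G) = φ y) ∧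
      ∀ w : L, w ∈ K x L → (χ : G → ℂ) (w : G) = -((p - 1 : ℕ) : ℂ) + p * φ w := by
  obtain ⟨h1, h2, h3, -⟩ := h.memA χ hχ
  obtain ⟨φ, a, b, c, d⟩ := exists_fix hS hM h1 (m := n + 1) (by
    rw [h2, h3, ← hP.card_eq]
    have := hS.hp.one_le
    push_cast [Nat.cast_sub this]
    ring)
  exact ⟨φ, a, b, c, fun w hw => by rw [d w hw, h3]; push_cast; ring⟩

theorem fixC {χ : IrrCharacter G} (hχ : χ ∈ C) :
    ∃ φ : L → ℂ, IsCharacter L φ ∧ φ 1 = ((u + 1 : ℕ) : ℂ) ∧ (∀ y : L, y ∉ K x L → (χ : G → ℂ) (y : G) = φ y) ∧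
      ∀ w : L, w ∈ K x L → (χ : G → ℂ) (w : G) = -((p - 1 : ℕ) : ℂ) + p * φ w := by
  obtain ⟨h1, h2, h3, -⟩ := h.memC χ hχ
  obtain ⟨φ, a, b, c, d⟩ := exists_fix hS hM h1 (m := u + 1) (by
    rw [h2, h3, ← hP.u_deg]
    have := hS.hp.one_le
    push_cast [Nat.cast_sub this]
    ring)
  exact ⟨φ, a, b, c, fun w hw => by rw [d w hw, h3]; push_cast; ring⟩

theorem fixB {χ : IrrCharacter G} (hχ : χ ∈ B) :
    ∃ φ : L → ℂ, IsCharacter L φ ∧ φ 1 = ((0 : ℕ) : ℂ) ∧ (∀ y : L, y ∉ K x L → (χ : G → ℂ) (y : G) = φ y) ∧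
      ∀ w : L, w ∈ K x L → (χ : G → ℂ) (w : G) = ((p - 1 : ℕ) : ℂ) + p * φ w := by
  obtain ⟨h1, h2, h3, -⟩ := h.memB χ hχ
  obtain ⟨φ, a, b, c, d⟩ := exists_fix hS hM h1 (m := 0) (by rw [h2, h3]; push_cast; ring)
  exact ⟨φ, a, b, c, fun w hw => by rw [d w hw, h3]; push_cast; ring⟩

theorem fixD {χ : IrrCharacter G} (hχ : χ ∈ D) :
    ∃ φ : L → ℂ, IsCharacter L φ ∧ φ 1 = (s : ℂ) ∧ (∀ y : L, y ∉ K x L → (χ : G → ℂ) (y : G) = φ y) ∧
      ∀ w : L, w ∈ K x L → (χ : G → ℂ) (w : G) = ((p - 1 : ℕ) : ℂ) + p * φ w := by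
  obtain ⟨h1, h2, h3, -⟩ := h.memD χ hχ
  obtain ⟨φ, a, b, c, d⟩ := exists_fix hS hM h1 (m := s) (by rw [h2, h3, hP.p_sub]; push_cast; ring)
  exact ⟨φ, a, b, c, fun w hw => by rw [d w hw, h3]; push_cast; ring⟩

theorem fixX {χ : IrrCharacter G} (hχ : χ ∈ X) :
    ∃ φ : L → ℂ, IsCharacter L φ ∧ φ 1 = (m₀ : ℂ) ∧ (∀ y : L, y ∉ K x L → (χ : G → ℂ) (y : G) = φ y) ∧
      ∀ w : L, w ∈ K x L → (χ : G → ℂ) (w : G) = (ε : ℂ) * ((K x L).index : ℂ) + p * φ w := by
  obtain ⟨h1, h2, h3, -⟩ := h.memX χ hχ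
  obtain ⟨φ, a, b, c, d⟩ := exists_fix hS hM h1 (m := m₀) (by rw [h2, h3]; exact h.degX hP ⟨χ, hχ⟩)
  exact ⟨φ, a, b, c, fun w hw => by rw [d w hw, h3]; push_cast; ring⟩

end Blk

variable (h : Blk hS M n u s A C B D X f₀ m₀ ε) (hP : Par p n u s) (hM : IsPModular p M)
include h hP hM

/-- An element of `K` is conjugate to no element of `L` outside `K`. -/
theorem separation (hC : C.Nonempty) (hD : D.Nonempty) {w y : L} (hw : w ∈ K x L)
    (hc : IsConj (y : G) (w : G)) : y ∈ K x L := by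
  classical
  by_contra hy
  obtain ⟨χ, hχ⟩ := hC
  obtain ⟨ψ, hψ⟩ := hD
  have hp := hS.hp
  have hp5 := hP.five_le
  -- a prime power part outside `K`
  haveI := hS.normal_K
  obtain ⟨q, hq, hqd⟩ := Nat.exists_prime_and_dvd (n := orderOf (y : L ⧸ K x L)) (by
    rw [Ne, orderOf_eq_one_iff, QuotientGroup.eq_one_iff]
    exact hy)
  haveI := Fact.mk hq
  set o := orderOf y with ho
  set m := o / q ^ o.factorization q with hm
  have hom : q ^ o.factorization q * m = o := Nat.ordProj_mul_ordCompl_eq_self o q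
  have hqm : ¬ q ∣ m := Nat.not_dvd_ordCompl hq (orderOf_pos y).ne'
  have hyk : ∀ j : ℕ, j.Coprime q → y ^ (m * j) ∉ K x L := by
    intro j hj hmem
    rw [← QuotientGroup.eq_one_iff, QuotientGroup.mk_pow, ← orderOf_dvd_iff_pow_eq_one] at hmem
    rcases hq.dvd_mul.mp (hqd.trans hmem) with h' | h'
    · exact hqm h'
    · exact hq.one_lt.ne' (Nat.dvd_one.mp (hj ▸ Nat.dvd_gcd h' dvd_rfl))
  set w₀ : L := w ^ m with hw₀
  have hconj : ∀ j : ℕ, IsConj ((y ^ (m * j) : L) : G) ((w₀ ^ j : L) : G) := by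
    intro j
    rw [hw₀, ← pow_mul, SubmonoidClass.coe_pow, SubmonoidClass.coe_pow]
    obtain ⟨c, hc⟩ := isConj_iff.mp hc
    exact isConj_iff.mpr ⟨c, by rw [← conj_pow, hc]⟩
  have hw0K : w₀ ∈ K x L := Subgroup.pow_mem _ hw _
  have how : orderOf w₀ ∣ q ^ o.factorization q := by
    refine orderOf_dvd_of_pow_eq_one (Subtype.ext ?_)
    rw [hw₀, ← pow_mul, mul_comm, hom, SubmonoidClass.coe_pow, OneMemClass.coe_one]
    obtain ⟨c, hc⟩ := isConj_iff.mp hc
    rw [← hc, conj_pow, ← SubmonoidClass.coe_pow, pow_orderOf_eq_one, OneMemClass.coe_one, mul_one,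
      mul_inv_cancel]
  have hcl : ∀ (χ : IrrCharacter G) (j : ℕ),
      (χ : G → ℂ) ((w₀ ^ j : L) : G) = (χ : G → ℂ) ((y ^ (m * j) : L) : G) := by
    intro χ j
    obtain ⟨c, hc⟩ := isConj_iff.mp (hconj j)
    rw [← hc]
    exact irr_class χ _ c
  -- a fixed space value is constant
  have key : ∀ (θ : IrrCharacter G) (φ : L → ℂ) (r : ℤ) (d : ℕ), IsCharacter L φ → φ 1 = (d : ℂ) →
      (∀ y : L, y ∉ K x L → (θ : G → ℂ) (y : G) = φ y) →
      (∀ v : L, v ∈ K x L → (θ : G → ℂ) (v : G) = (r : ℂ) + p * φ v) →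
      ∀ c : ℤ, (r + p * c).natAbs + d < p → φ w₀ = (c : ℂ) := by
    intro θ φ r d hφ hd hout hin c hsmall
    have hcy : GaloisAvg.CycloValued fun v => φ v - (c : ℂ) := by
      intro v
      obtain ⟨P, hP'⟩ := GaloisAvg.cycloValued_character hφ v
      exact ⟨P - Polynomial.C c, fun k => by simp [hP' k]⟩
    have h0 := eq_zero_of_small hcy (g := w₀) fun j hj => by
      have hjq : j.Coprime q := hj.coprime_dvd_right (by
        refine hqd.trans ((orderOf_map_dvd (QuotientGroup.mk' (K x L)) y).trans (orderOf_dvd_natCard y)))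
      have h1 := hin _ (Subgroup.pow_mem _ hw0K j)
      rw [hcl θ j, hout _ (hyk j hjq)] at h1
      have h2 : (p : ℂ) * (φ (w₀ ^ j) - (c : ℂ)) = φ (y ^ (m * j)) - ((r + p * c : ℤ) : ℂ) := by
        push_cast
        linear_combination -h1
      have h3 : (p : ℝ) * ‖φ (w₀ ^ j) - (c : ℂ)‖ ≤ (d : ℝ) + ((r + p * c).natAbs : ℝ) := by
        rw [← Complex.norm_natCast p, ← norm_mul, h2]
        refine (norm_sub_le _ _).trans (add_le_add ?_ (le_of_eq ?_))
        · exact (Char.IsCharacter.norm_le hφ _).trans (le_of_eq (by rw [hd]; simp))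
        · rw [Complex.norm_intCast, Nat.cast_natAbs, Int.cast_abs]
      have h4 : (d : ℝ) + ((r + p * c).natAbs : ℝ) < (p : ℝ) := by
        exact_mod_cast (add_comm _ d ▸ hsmall : d + (r + p * c).natAbs < p)
      by_contra hge
      rw [not_lt] at hge
      have h5 : (p : ℝ) * 1 ≤ (p : ℝ) * ‖φ (w₀ ^ j) - (c : ℂ)‖ := mul_le_mul_of_nonneg_left hge (by positivity)
      linarith
    exact sub_eq_zero.mp h0
  have hus := hP.hus
  have hps := hP.p_sub
  have hsp : s + 1 + 1 < p := by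
    have h1 : 2 * s ≤ (u + 1) * s := Nat.mul_le_mul_right s (by have := hP.hu; omega)
    have := hP.two_le_s; omega
  obtain ⟨φ, hφ, hd, hout, hin⟩ := h.fixC hP hM hχ
  have hu1 := key χ φ (-((p - 1 : ℕ) : ℤ)) (u + 1) hφ hd hout (fun v hv => by rw [hin v hv]; push_cast; ring) 1 (by
    rw [show -((p - 1 : ℕ) : ℤ) + p * 1 = 1 by omega]
    simp; omega)
  obtain ⟨φ', hφ', hd', hout', hin'⟩ := h.fixD hP hM hψ
  have hs1 := key ψ φ' ((p - 1 : ℕ) : ℤ) s hφ' hd' hout' (fun v hv => by rw [hin' v hv]; push_cast; ring) (-1) (by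
    rw [show ((p - 1 : ℕ) : ℤ) + p * (-1) = -1 by omega]
    simp; omega)
  have hwq : w₀ ^ q ^ o.factorization q = 1 := orderOf_dvd_iff_pow_eq_one.mp how
  have e1 := dvd_sub_of_apply_eq hφ hwq hd hu1
  have e2 := dvd_sub_of_apply_eq hφ' hwq hd' hs1
  rw [show ((u + 1 : ℕ) : ℤ) - 1 = (u : ℤ) by push_cast; ring, Int.natCast_dvd_natCast] at e1
  rw [show (s : ℤ) - (-1) = ((s + 1 : ℕ) : ℤ) by push_cast; ring, Int.natCast_dvd_natCast] at e2
  have e3 : q ∣ (u + 1) * s := by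
    rw [← hps]
    refine hqd.trans ((orderOf_dvd_natCard _).trans ?_)
    exact index_K_dvd hS
  rcases hq.dvd_mul.mp e3 with h' | h'
  · exact hq.not_dvd_one ((Nat.dvd_add_right e1).mp h')
  · exact hq.not_dvd_one ((Nat.dvd_add_right h').mp e2)

omit h hM

/-- If `K` is separated and `e` is even, then `1 + n p` is even. -/
theorem parity (hS : Setting p x L) (hperf : commutator G = ⊤) (hn : Nat.card (Sylow p G) = 1 + n * p)
    (hsep : ∀ w y : L, w ∈ K x L → IsConj (y : G) (w : G) → y ∈ K x L) (he : 2 ∣ (K x L).index) :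
    2 ∣ 1 + n * p := by
  classical
  by_contra hodd
  have hp := hS.hp
  have hp5 := hP.five_le
  set e := (K x L).index with hedef
  haveI := Fact.mk Nat.prime_two
  have hG := card_G hS hn
  obtain ⟨T₀⟩ : Nonempty (Sylow 2 L) := inferInstance
  have hT : Nat.card ((T₀ : Subgroup L).map L.subtype) = 2 ^ (Nat.card G).factorization 2 := by
    rw [Subgroup.card_map_of_injective L.subtype_injective, T₀.card_eq_multiplicity, hG,
      Nat.factorization_mul (Nat.mul_ne_zero hp.ne_zero Nat.card_pos.ne') (by omega),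
      Nat.factorization_mul hp.ne_zero Nat.card_pos.ne', Finsupp.add_apply, Finsupp.add_apply,
      Nat.factorization_eq_zero_of_not_dvd hodd, Nat.factorization_eq_zero_of_not_dvd (n := p) (fun h2 => by
        have := (Nat.prime_dvd_prime_iff_eq Nat.prime_two hp).mp h2
        omega), zero_add, add_zero]
  let T : Sylow 2 G := Sylow.ofCard ((T₀ : Subgroup L).map L.subtype) hT
  have hTL : (T : Subgroup G) ≤ L := Subgroup.map_subtype_le _
  let θ : L →* (ZMod p)ˣ := (powMonoidHom (e / 2)).comp (CyclicDefect.alpha hS)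
  have hθ : ∀ y : L, θ y = 1 ↔ y ^ (e / 2) ∈ K x L := by
    intro y
    rw [← ker_alpha hS, MonoidHom.mem_ker, map_pow]
    rfl
  have hsq : ∀ y : L, θ y * θ y = 1 := by
    intro y
    show (CyclicDefect.alpha hS y) ^ (e / 2) * (CyclicDefect.alpha hS y) ^ (e / 2) = 1
    rw [← pow_add, show e / 2 + e / 2 = e by omega, ← map_pow, ← MonoidHom.mem_ker, ker_alpha hS]
    haveI := hS.normal_K
    exact (QuotientGroup.eq_one_iff _).mp (by rw [QuotientGroup.mk_pow]; exact pow_card_eq_one')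
  have hinv : ∀ y z : L, IsConj (y : G) (z : G) → θ y = θ z := by
    intro y z hc
    have hpow : IsConj ((y ^ (e / 2) : L) : G) ((z ^ (e / 2) : L) : G) := by
      obtain ⟨c, hc⟩ := isConj_iff.mp hc
      rw [SubmonoidClass.coe_pow, SubmonoidClass.coe_pow]
      exact isConj_iff.mpr ⟨c, by rw [← conj_pow, hc]⟩
    have hiff : θ y = 1 ↔ θ z = 1 := by
      rw [hθ, hθ]
      exact ⟨fun hy => hsep _ _ hy hpow.symm, fun hz => hsep _ _ hz hpow⟩
    have key : ∀ a : (ZMod p)ˣ, a * a = 1 → a = 1 ∨ a = -1 := fun a ha => by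
      have h2 : ((a : ZMod p)) * a = 1 := by rw [← Units.val_mul, ha, Units.val_one]
      rcases mul_self_eq_one_iff.mp h2 with h1 | h1
      · exact Or.inl (Units.ext h1)
      · exact Or.inr (Units.ext (by rw [h1, Units.val_neg, Units.val_one]))
    rcases key _ (hsq y) with h1 | h1 <;> rcases key _ (hsq z) with h2 | h2
    · rw [h1, h2]
    · exact h1.trans (hiff.mp h1).symm
    · exact ((hiff.mpr h2)).trans h2.symm
    · rw [h1, h2]
  let χ : (T : Subgroup G) →* (ZMod p)ˣ := θ.comp (Subgroup.inclusion hTL)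
  have hker := Transfer.commutator_le_ker_of_invariant T χ (fun q g hq hgq => by
    exact hinv _ _ (isConj_iff.mpr ⟨g⁻¹, by
      show g⁻¹ * (g * q * g⁻¹) * g⁻¹⁻¹ = q
      group⟩))
  rw [hperf, ← Subgroup.comap_subtype, Subgroup.comap_top, top_le_iff] at hker
  have hT1 : ∀ t ∈ (T₀ : Subgroup L), θ t = 1 := by
    intro t ht
    have h1 : χ ⟨(t : G), Subgroup.mem_map_of_mem _ ht⟩ = 1 :=
      MonoidHom.mem_ker.mp (hker ▸ Subgroup.mem_top _)
    exact h1
  -- an element generating `L / K`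
  haveI : IsCyclic (CyclicDefect.alpha hS).range := inferInstance
  obtain ⟨a, ha⟩ := IsCyclic.exists_ofOrder_eq_natCard (α := (CyclicDefect.alpha hS).range)
  obtain ⟨y, hy⟩ := a.2
  have hcard : Nat.card (CyclicDefect.alpha hS).range = e := by
    rw [← Subgroup.index_ker, ker_alpha hS]
  have hoy : orderOf (CyclicDefect.alpha hS y) = e := by rw [hy, Subgroup.orderOf_coe, ha, hcard]
  set m := orderOf y / 2 ^ (orderOf y).factorization 2 with hm
  have hmodd : ¬ 2 ∣ m := Nat.not_dvd_ordCompl Nat.prime_two (orderOf_pos y).ne'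
  have h2p : IsPGroup 2 (Subgroup.zpowers (y ^ m)) := IsPGroup.iff_orderOf.mpr fun z => by
    have hd : orderOf z ∣ 2 ^ (orderOf y).factorization 2 := by
      refine (orderOf_dvd_natCard z).trans ?_
      rw [Nat.card_zpowers]
      refine orderOf_dvd_of_pow_eq_one ?_
      rw [← pow_mul, mul_comm, hm, Nat.ordProj_mul_ordCompl_eq_self, pow_orderOf_eq_one]
    obtain ⟨i, -, hi⟩ := (Nat.dvd_prime_pow Nat.prime_two).mp hd
    exact ⟨i, hi⟩
  obtain ⟨T₁, hT₁⟩ := h2p.exists_le_sylow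
  obtain ⟨c, hc⟩ := MulAction.exists_smul_eq L T₀ T₁
  have hym : y ^ m ∈ (T₁ : Subgroup L) := hT₁ (Subgroup.mem_zpowers _)
  rw [← hc, Sylow.coe_subgroup_smul] at hym
  obtain ⟨t, ht, hty⟩ := hym
  have hθy : θ (y ^ m) = 1 := by
    rw [← hty]
    show θ (c * t * c⁻¹) = 1
    rw [map_mul, map_mul, hT1 t ht, mul_one, ← map_mul, mul_inv_cancel, map_one]
  have hdvd : e ∣ m * (e / 2) := by
    rw [← hoy]
    refine orderOf_dvd_of_pow_eq_one ?_
    rw [hθ, ← ker_alpha hS, MonoidHom.mem_ker, ← pow_mul, map_pow] at hθy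
    rw [hoy]
    exact hθy
  have he0 : 0 < e / 2 := by
    have : 0 < e := Nat.pos_of_ne_zero Subgroup.index_ne_zero_of_finite
    omega
  rw [show e = 2 * (e / 2) by omega, show 2 * (e / 2) / 2 = e / 2 by omega] at hdvd
  exact hmodd (Nat.dvd_of_mul_dvd_mul_right he0 hdvd)

end Cfsg.Agent.FewSylowClass
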