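/-
What a nontrivial `K` gives at once (namespace `Cfsg.Agent.FewSylowClass`).

Main results: `cd_arith`, `NB`, `nb_of_ne_bot`, `NB.bound`, `cover_arith`.
-/
import Cfsg.Agent.Lib.FewSylowClass.Separation
import Cfsg.Agent.S4729

set_option autoImplicit false
set_option linter.unusedSectionVars false
set_option linter.style.haveILetI false

namespace Cfsg.Agent.FewSylowClass

open Cfsg Cfsg.Agent.Blocks Cfsg.Agent.CyclicDefect Cfsg.Agent.BrauerN

/-- Without `B`, there are characters of type `C` and, unless `u = 1`, of type `D`. -/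
theorem cd_arith {p n u s e t f m : ℕ} {ε : ℤ} {a c d : ℕ} (hP : Par p n u s) (he : e * t = p - 1)
    (hC : 0 < c → u + 1 ∣ e)
    (hcase : (t = 1 ∧ ε = 0 ∧ m = 0 ∧ a + c + d = e ∧ (a : ℤ) * n + c * u = d * (s + 1) - 1) ∨
      (2 ≤ t ∧ XType p n u s e t f m ε ∧ ¬ (ε = 1 ∧ f = e) ∧ a + c + d + 1 = e ∧
        (a : ℤ) * n + c * u = d * (s + 1) + ε * m)) :
    0 < c ∧ (0 < d ∨ u = 1) := by
  have hus := hP.hus
  have hu := hP.hu
  have hn : (n : ℤ) = (u : ℤ) * s + u + 1 := by exact_mod_cast hP.hne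
  have het : (e : ℤ) * t = ((u : ℤ) + 1) * s := by exact_mod_cast he.trans hP.p_sub
  set W : ℤ := ((u : ℤ) + 1) * (s + 1) + 1 with hW
  have hW2 : 2 ≤ W := by rw [hW]; nlinarith
  have hs1 : (0 : ℤ) < (s : ℤ) + 1 := by positivity
  rcases hcase with ⟨ht, hε, hm, hsum, hid⟩ | ⟨ht, hX, hnE, hsum, hid⟩
  · subst ht
    have hsum' : (a : ℤ) + c + d = e := by exact_mod_cast hsum
    rcases Nat.eq_zero_or_pos c with rfl | hc
    · exfalso
      push_cast at hid hsum'
      set j : ℤ := (d : ℤ) - a * u with hj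
      have e1 : (a : ℤ) + 1 = j * (s + 1) := by rw [hj]; linear_combination -(a : ℤ) * hn + hid
      have e2 : j * W = ((u : ℤ) + 1) * (s + 1) := by
        rw [hW]
        push_cast at het
        linear_combination (-(u : ℤ) - 1) * e1 + hsum' + het - hj * 0 + (j - (d : ℤ) + a * u) * 1
      rcases le_or_gt j 0 with h1 | h1
      · nlinarith
      · nlinarith
    · refine ⟨hc, Or.inl (Nat.pos_of_ne_zero fun h0 => ?_)⟩
      subst h0
      push_cast at hid
      nlinarith
  · have ht0 : (0 : ℤ) < t := by exact_mod_cast (show 0 < t by omega)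
    have hsum' : (a : ℤ) + c + d + 1 = e := by exact_mod_cast hsum
    cases hX with
    | degE => exact absurd ⟨rfl, rfl⟩ hnE
    | degP g hg =>
      have hg' : (e : ℤ) = m * ((u : ℤ) + 1) := by exact_mod_cast hg
      have hms : (m : ℤ) * t = s := by
        refine mul_left_cancel₀ (show (u : ℤ) + 1 ≠ 0 by omega) ?_
        linear_combination het - (t : ℤ) * hg'
      rcases Nat.eq_zero_or_pos c with rfl | hc
      · exfalso
        push_cast at hid hsum'
        set k : ℤ := (d : ℤ) - a * u with hk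
        have e1 : (a : ℤ) - m = k * (s + 1) := by rw [hk]; linear_combination -(a : ℤ) * hn + hid
        have e2 : k * W + 1 = 0 := by
          rw [hW]
          linear_combination (-(u : ℤ) - 1) * e1 + hsum' + hg' + (k - (d : ℤ) + a * u) * 1
        rcases le_or_gt 0 k with h1 | h1
        · nlinarith
        · nlinarith
      · refine ⟨hc, ?_⟩
        rcases Nat.eq_zero_or_pos d with rfl | hd
        · refine Or.inr ?_
          push_cast at hid hsum'
          have hmn : (m : ℤ) < n := by nlinarith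
          obtain rfl : a = 0 := by
            by_contra ha
            have : (1 : ℤ) ≤ a := by exact_mod_cast Nat.pos_of_ne_zero ha
            nlinarith
          push_cast at hid hsum'
          have h1 : (c : ℤ) * ((u : ℤ) * u + u - 1) = 1 := by
            linear_combination ((u : ℤ) + 1) * hid - hsum' - hg'
          have hc1 : (1 : ℤ) ≤ c := by exact_mod_cast hc
          by_contra hu1
          have : (2 : ℤ) ≤ u := by exact_mod_cast (show 2 ≤ u by omega)
          nlinarith
        · exact Or.inl hd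
    | degN f m hf hm =>
      have hm' : (t : ℤ) * m = n + 1 := by exact_mod_cast hm
      have hm0 : (1 : ℤ) ≤ m := by
        rcases Nat.eq_zero_or_pos m with rfl | h
        · simp at hm
        · exact_mod_cast h
      rcases Nat.eq_zero_or_pos c with rfl | hc
      · exfalso
        push_cast at hid hsum'
        set k : ℤ := (d : ℤ) - a * u with hk
        have e1 : (a : ℤ) + m = k * (s + 1) := by rw [hk]; linear_combination -(a : ℤ) * hn + hid
        have e2 : (t : ℤ) * (k * W + 1) = ((u : ℤ) + 1) * W := by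
          rw [hW]
          linear_combination (t : ℤ) * ((-(u : ℤ) - 1) * e1 + hsum' + (k - (d : ℤ) + a * u) * 1) + het +
            ((u : ℤ) + 1) * hm' + ((u : ℤ) + 1) * hn
        have e3 : (t : ℤ) = W * ((u : ℤ) + 1 - t * k) := by linear_combination e2
        have ht2 : (t : ℤ) < W := by
          have he1 : (1 : ℤ) ≤ e := by
            have : 1 ≤ e := by omega
            exact_mod_cast this
          have h1 : 1 * (t : ℤ) ≤ (e : ℤ) * t := mul_le_mul_of_nonneg_right he1 ht0.le
          nlinarith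
        rcases le_or_gt ((u : ℤ) + 1 - t * k) 0 with h1 | h1
        · nlinarith
        · nlinarith
      · refine ⟨hc, Or.inl (Nat.pos_of_ne_zero fun h0 => ?_)⟩
        subst h0
        push_cast at hid
        nlinarith
    | degU g hg hge =>
      have hg' : (m : ℤ) * t = u + 1 := by exact_mod_cast hg
      have hm0 : (1 : ℤ) ≤ m := by
        rcases Nat.eq_zero_or_pos m with rfl | h
        · simp at hg
        · exact_mod_cast h
      rcases Nat.eq_zero_or_pos c with rfl | hc
      · exfalso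
        push_cast at hid hsum'
        have hes : (e : ℤ) = m * s := by
          refine mul_left_cancel₀ ht0.ne' ?_
          linear_combination het - (s : ℤ) * hg'
        set k : ℤ := (d : ℤ) - a * u with hk
        have e1 : (a : ℤ) + m = k * (s + 1) := by rw [hk]; linear_combination -(a : ℤ) * hn + hid
        have e2 : k * W + 1 = m * ((s : ℤ) + u + 1) := by
          rw [hW]
          linear_combination (-(u : ℤ) - 1) * e1 + hsum' + hes + (k - (d : ℤ) + a * u) * 1
        have ha0 : (0 : ℤ) ≤ a := by positivity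
        have hk1 : 1 ≤ k := by
          by_contra h1
          nlinarith
        have hm2 : 2 * (m : ℤ) ≤ u + 1 := by
          rw [← hg', mul_comm 2]
          exact mul_le_mul_of_nonneg_left (by exact_mod_cast ht) (by omega)
        have hus' : (u : ℤ) + 1 ≤ s := by exact_mod_cast hus
        nlinarith
      · refine ⟨hc, Or.inl (Nat.pos_of_ne_zero fun h0 => ?_)⟩
        subst h0
        push_cast at hid
        nlinarith

variable {G : Type*} [Group G] [Finite G] {p : ℕ} [Fact p.Prime] {x : G} {L : Subgroup G}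
  {M : Ideal AlgInt} {n u s : ℕ} {A C B D X : Finset (IrrCharacter G)} {f₀ m₀ : ℕ} {ε : ℤ}

/-- The facts for nontrivial `K`. -/
structure NB (hS : Setting p x L) (n u s : ℕ) (C B D : Finset (IrrCharacter G)) : Prop where
  par : Par p n u s
  two_u : 2 ≤ u
  hus : u + 2 ≤ s
  cne : C.Nonempty
  dne : D.Nonempty
  bemp : B = ∅
  dvdu : u + 1 ∣ (K x L).index
  dvds : s ∣ (K x L).index
  even : 2 ∣ (K x L).index
  sep : ∀ w y : L, w ∈ K x L → IsConj (y : G) (w : G) → y ∈ K x L
  par_us : 2 ∣ u ∨ ¬ 2 ∣ s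

theorem nb_of_ne_bot {hS : Setting p x L} (h : Blk hS M n u s A C B D X f₀ m₀ ε) (hP : Par p n u s)
    (hM : IsPModular p M) [IsSimpleGroup G] (hperf : commutator G = ⊤) (hcore : pPrimeCore p G = ⊥)
    (hn : Nat.card (Sylow p G) = 1 + n * p) (hK : K x L ≠ ⊥) : NB hS n u s C B D := by
  classical
  have hp := hS.hp
  have hB : B = ∅ := Finset.not_nonempty_iff_eq_empty.mp fun hb => hK (h.K_bot hM hcore (Or.inl hb))
  have hid := h.ident hP
  rw [hB, Finset.card_empty, Nat.cast_zero, zero_add] at hid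
  have hcd : 0 < C.card ∧ (0 < D.card ∨ u = 1) := by
    have hC' : 0 < C.card → u + 1 ∣ (K x L).index := fun hc => h.dvdC (Finset.card_pos.mp hc)
    rcases h.cases with ⟨hX, hε, hm, he, hsum⟩ | ⟨ht, het, hsum, hxt⟩
    · rw [if_pos hX, hε, zero_mul, add_zero] at hid
      rw [hB, Finset.card_empty, add_zero] at hsum
      exact cd_arith (t := 1) (f := 0) hP (by rw [he, mul_one]) hC' (Or.inl ⟨rfl, rfl, rfl, hsum, hid⟩)
    · rw [hB, Finset.card_empty, add_zero] at hsum
      have hXne : X.Nonempty := Finset.card_pos.mp (by omega)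
      rw [if_neg hXne.ne_empty, sub_zero] at hid
      exact cd_arith hP het hC' (Or.inr ⟨ht, hxt, fun hE => hK (h.K_bot hM hcore (Or.inr ⟨hXne, hE⟩)), hsum, hid⟩)
  obtain ⟨χ, hχ⟩ := Finset.card_pos.mp hcd.1
  have hu2 : 2 ≤ u := by
    by_contra hu'
    obtain rfl : u = 1 := by have := hP.hu; omega
    obtain ⟨h1, h2, -, hne, -⟩ := h.memC χ hχ
    have hdeg : charDegree (χ : G → ℂ) < 2 * p := by
      have := hP.hus
      rw [h2, hP.hpe]; norm_num; omega
    have hfaith : ∀ g : G, (χ : G → ℂ) g = (χ : G → ℂ) 1 → g = 1 := by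
      intro g hg
      haveI := Codegree.kerSub_normal χ
      rcases (‹(Codegree.kerSub χ).Normal›).eq_bot_or_eq_top with hb | hb
      · exact Subgroup.mem_bot.mp (hb ▸ Codegree.mem_kerSub.mpr hg)
      · exfalso
        obtain ⟨φ, -, -, -, hin⟩ := h.fixC hP hM hχ
        have hxk : ∀ i : ZMod p, (χ : G → ℂ) (pw x i) = (χ : G → ℂ) 1 := fun i =>
          Codegree.mem_kerSub.mp (hb ▸ Subgroup.mem_top _)
        have h3 := (h.memC χ hχ).2.2.2.2 1 one_ne_zero
        rw [hxk 1, ← charDegree_cast, Nat.cast_eq_one, h2] at h3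
        have := (mul_eq_one.mp h3).1
        omega
    let P : Sylow p G := Sylow.ofCard (Subgroup.zpowers x) (by rw [hS.card_zpowers_eq, hS.factorization_card, pow_one])
    have hpg := S4729.result p M hM hperf P χ h1 hfaith hdeg
    refine hK ((Subgroup.eq_bot_iff_forall _).mpr fun w hw => ?_)
    have hwC : (w : G) ∈ Subgroup.centralizer ((P : Subgroup G) : Set G) := by
      rw [Subgroup.mem_centralizer_iff]
      intro z hz
      obtain ⟨i, rfl⟩ := hS.exists_pw hz
      exact (hS.commute_pw i (hS.commute_K ⟨w, hw⟩)).eq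
    obtain ⟨k, hk⟩ := IsPGroup.iff_orderOf.mp hpg ⟨_, hwC⟩
    rw [← Subgroup.orderOf_coe] at hk
    rcases Nat.eq_zero_or_pos k with rfl | hk0
    · rw [pow_zero, orderOf_eq_one_iff] at hk
      exact Subtype.ext hk
    · exact absurd (hk ▸ dvd_pow_self p hk0.ne') (hS.regular_L w)
  have hd : 0 < D.card := hcd.2.resolve_right (by omega)
  have hCne : C.Nonempty := ⟨χ, hχ⟩
  have hDne := Finset.card_pos.mp hd
  have h1 := h.dvdC hCne
  have h2 := h.dvdD hDne
  have hev : 2 ∣ (K x L).index := by
    have h3 : 2 ∣ (u + 1) * s := by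
      rw [← hP.p_sub]
      have := hp.eq_two_or_odd
      have := hP.five_le
      omega
    rcases Nat.prime_two.dvd_mul.mp h3 with h4 | h4
    · exact h4.trans h1
    · exact h4.trans h2
  have hsep : ∀ w y : L, w ∈ K x L → IsConj (y : G) (w : G) → y ∈ K x L := fun w y hw hc =>
    separation h hP hM hCne hDne hw hc
  have hN := parity (n := n) (u := u) (s := s) hP hS hperf hn hsep hev
  rw [hP.card_eq] at hN
  have hpar : 2 ∣ u ∨ ¬ 2 ∣ s := by
    by_contra hc
    push Not at hc
    have hpo : p % 2 = 1 := by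
      have := hp.eq_two_or_odd
      have := hP.five_le
      omega
    rcases Nat.prime_two.dvd_mul.mp hN with h4 | h4
    · have : 2 ∣ u * s := hc.2.mul_left u
      omega
    · omega
  refine ⟨hP, hu2, ?_, hCne, hDne, hB, h1, h2, hev, hsep, hpar⟩
  have := hP.hus
  by_contra hlt
  have hs : s = u + 1 := by omega
  have h3 : 2 ∣ (u + 1) * s := by
    rw [← hP.p_sub]
    have := hp.eq_two_or_odd
    have := hP.five_le
    omega
  rcases Nat.prime_two.dvd_mul.mp h3 with h4 | h4 <;> omega

namespace NB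

variable {hS : Setting p x L} (h : NB hS n u s C B D)
include h

theorem n_le : n + 2 ≤ p := by
  have h1 := h.par.add_s
  have := h.hus
  omega

theorem n_odd : ¬ 2 ∣ n := by
  have hpo : p % 2 = 1 := by
    have := hS.hp.eq_two_or_odd
    have := h.par.five_le
    omega
  have h2 := h.par.hne
  have h3 := h.par.hpe
  rcases h.par_us with h1 | h1
  · have : 2 ∣ u * s := h1.mul_right s
    omega
  · by_cases h4 : 2 ∣ u
    · have : 2 ∣ u * s := h4.mul_right s
      omega
    · have h5 : ¬ 2 ∣ u * s := fun hh => by rcases Nat.prime_two.dvd_mul.mp hh with hh | hh <;> omega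
      omega

end NB

/-- The finitely many small cases of `cover_arith`. -/
theorem cover_small : ∀ u ∈ Finset.range 12, ∀ s ∈ Finset.range 14, 2 ≤ u → u + 2 ≤ s →
    ((u + 1) * s + 1).Prime → (2 ∣ u ∨ ¬ 2 ∣ s) → Nat.lcm (u + 1) s < 14 →
      ((u + 1) * s + 1) ^ 2 ≤ 3 ^ Nat.lcm (u + 1) s ∧
      ∀ j ∈ Finset.range 12, 0 < j → 2 ^ j % ((u + 1) * s + 1) ≠ 1 ∧ ((u + 1) * s + 1) ^ 2 ≤ 2 ^ 12 := by
  decide +kernel

/-- A power with exponent at least `e` and the order of the base is at least `p²`. -/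
theorem cover_arith {p n u s e q₀ f : ℕ} (hP : Par p n u s) (hp : p.Prime) (hu : 2 ≤ u) (hus : u + 2 ≤ s)
    (hpar : 2 ∣ u ∨ ¬ 2 ∣ s) (h1 : u + 1 ∣ e) (h2 : s ∣ e) (he : 0 < e) (hq : 2 ≤ q₀) (hf : e ≤ f)
    (hord : orderOf (q₀ : ZMod p) ≤ f) (hord0 : 0 < orderOf (q₀ : ZMod p)) : p ^ 2 ≤ q₀ ^ f := by
  set l := Nat.lcm (u + 1) s with hl
  have hle : l ≤ f := (Nat.le_of_dvd he (Nat.lcm_dvd h1 h2)).trans hf
  have hg : 2 * Nat.gcd (u + 1) s ≤ l := by
    obtain ⟨a, ha⟩ := Nat.gcd_dvd_left (u + 1) s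
    obtain ⟨b, hb⟩ := Nat.gcd_dvd_right (u + 1) s
    have hgp : 0 < Nat.gcd (u + 1) s := Nat.gcd_pos_of_pos_left _ (by omega)
    have hmul := Nat.gcd_mul_lcm (u + 1) s
    rw [← hl] at hmul
    have hl' : l = Nat.gcd (u + 1) s * (a * b) := by
      refine Nat.eq_of_mul_eq_mul_left hgp ?_
      rw [hmul]
      calc (u + 1) * s = (Nat.gcd (u + 1) s * a) * (Nat.gcd (u + 1) s * b) := congrArg₂ (· * ·) ha hb
        _ = _ := by ring
    have hab : 2 ≤ a * b := by
      rcases Nat.eq_zero_or_pos a with rfl | ha0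
      · omega
      have hb2 : 2 ≤ b := by
        by_contra hb1
        have : Nat.gcd (u + 1) s * 1 ≤ Nat.gcd (u + 1) s * a := Nat.mul_le_mul_left _ ha0
        have : Nat.gcd (u + 1) s * b ≤ Nat.gcd (u + 1) s * 1 := Nat.mul_le_mul_left _ (by omega)
        omega
      exact le_trans hb2 (Nat.le_mul_of_pos_left b ha0)
    rw [hl', mul_comm 2]
    exact Nat.mul_le_mul_left _ hab
  have hpl : 2 * p ≤ l * l + 2 := by
    have hmul := Nat.gcd_mul_lcm (u + 1) s
    rw [← hl] at hmul
    have h3 := Nat.mul_le_mul_right l hg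
    rw [mul_assoc, hmul] at h3
    have := hP.hpe
    omega
  rcases Nat.lt_or_ge l 14 with hsmall | hbig
  · have hsl : s ≤ l := Nat.le_of_dvd (Nat.pos_of_ne_zero fun h0 => by
      rcases Nat.lcm_eq_zero_iff.mp h0 with h0' | h0' <;> omega) (Nat.dvd_lcm_right _ _)
    obtain ⟨h3, h4⟩ := cover_small u (Finset.mem_range.mpr (by omega)) s (Finset.mem_range.mpr (by omega)) hu hus
      (hP.hpe ▸ hp) hpar hsmall
    rw [← hP.hpe] at h3 h4
    rcases Nat.lt_or_ge q₀ 3 with hq3 | hq3
    · obtain rfl : q₀ = 2 := by omega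
      have hf12 : 12 ≤ f := by
        by_contra hlt
        have hj := (h4 (orderOf ((2 : ℕ) : ZMod p)) (Finset.mem_range.mpr (by omega)) hord0).1
        apply hj
        have h5 := pow_orderOf_eq_one ((2 : ℕ) : ZMod p)
        rw [← Nat.cast_pow, ← Nat.cast_one, ZMod.natCast_eq_natCast_iff', Nat.mod_eq_of_lt hp.one_lt] at h5
        exact h5
      exact ((h4 1 (Finset.mem_range.mpr (by omega)) one_pos).2).trans (Nat.pow_le_pow_right two_pos hf12)
    · exact h3.trans ((Nat.pow_le_pow_left hq3 _).trans (Nat.pow_le_pow_right (by omega) hle))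
  · have key : ∀ k, 14 ≤ k → (k * k + 2) ^ 2 ≤ 4 * 2 ^ k := by
      intro k hk
      induction k, hk using Nat.le_induction with
      | base => norm_num
      | succ k hk ih =>
        have h5 : ((k + 1) * (k + 1) + 2) ^ 2 ≤ 2 * (k * k + 2) ^ 2 := by
          have hk' : 14 * k ≤ k * k := Nat.mul_le_mul_right k hk
          nlinarith
        calc _ ≤ 2 * (k * k + 2) ^ 2 := h5
          _ ≤ 2 * (4 * 2 ^ k) := Nat.mul_le_mul_left 2 ih
          _ = _ := by ring
    have h6 : (2 * p) ^ 2 ≤ 4 * q₀ ^ f :=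
      (Nat.pow_le_pow_left hpl 2).trans ((key l hbig).trans (Nat.mul_le_mul_left 4
        ((Nat.pow_le_pow_left hq l).trans (Nat.pow_le_pow_right (by omega) hle))))
    rw [mul_pow] at h6
    omega

end Cfsg.Agent.FewSylowClass
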