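/-
The conjugation action on the Sylow subgroups of order `p` (namespace `Cfsg.Agent.FewSylowClass`).

Main results: `eq_of_smul_eq`, `mem_of_orderOf`, `card_sylow_sub`, `centralizes`, `dvd_ncard_of_orbits`.
-/
import Cfsg.Agent.Lib.FewSylowClass.Nonbot

set_option autoImplicit false
set_option linter.unusedSectionVars false
set_option linter.style.haveILetI false

open scoped Pointwise

namespace Cfsg.Agent.FewSylowClass

open Cfsg Cfsg.Agent.Blocks Cfsg.Agent.CyclicDefect Cfsg.Agent.BrauerN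

/-- If all orbits inside an invariant set have length divisible by `d`, so has the set. -/
theorem dvd_ncard_of_orbits {J α : Type*} [Group J] [MulAction J α] [Finite α] {d : ℕ} (S : Set α)
    (hinv : ∀ a ∈ S, MulAction.orbit J a ⊆ S) (hd : ∀ a ∈ S, d ∣ (MulAction.orbit J a).ncard) : d ∣ S.ncard := by
  induction hk : S.ncard using Nat.strong_induction_on generalizing S with
  | _ k ih =>
    rcases S.eq_empty_or_nonempty with rfl | ⟨a, ha⟩
    · rw [Set.ncard_empty] at hk
      exact hk ▸ dvd_zero d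
    · have h1 := Set.ncard_sdiff_add_ncard_of_subset (hinv a ha) (Set.toFinite S)
      have h2 : 0 < (MulAction.orbit J a).ncard := (Set.ncard_pos (Set.toFinite _)).mpr ⟨a, MulAction.mem_orbit_self a⟩
      have h3 := ih (S \ MulAction.orbit J a).ncard (by omega) _ (fun b hb c hc => by
        refine ⟨hinv b hb.1 hc, fun hca => hb.2 ?_⟩
        have e1 := MulAction.orbit_eq_iff.mpr hc
        have e2 := MulAction.orbit_eq_iff.mpr hca
        rw [← e2, e1]
        exact MulAction.mem_orbit_self b) (fun b hb => hd b hb.1) rfl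
      rw [← hk, ← h1]
      exact Nat.dvd_add h3 (hd a ha)

variable {G : Type*} [Group G] [Finite G] {p : ℕ} [Fact p.Prime] {x : G} {L : Subgroup G}
  (hS : Setting p x L)
include hS

/-- `⟨x⟩` as a Sylow subgroup. -/
noncomputable def P0 : Sylow p G :=
  Sylow.ofCard (Subgroup.zpowers x) (by rw [hS.card_zpowers_eq, hS.factorization_card, pow_one])

theorem coe_P0 : (P0 hS : Subgroup G) = Subgroup.zpowers x := rfl

theorem x_mem_P0 : x ∈ (P0 hS : Subgroup G) := Subgroup.mem_zpowers x

theorem card_sylow_eq (Q : Sylow p G) : Nat.card (Q : Subgroup G) = p := by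
  rw [Q.card_eq_multiplicity, hS.factorization_card, pow_one]

/-- An element of order `p` normalising a Sylow subgroup lies in it. -/
theorem mem_of_orderOf {Q : Sylow p G} {g : G} (ho : orderOf g = p) (h : g • Q = Q) :
    (Q : Subgroup G) = Subgroup.zpowers g := by
  have hN : g ∈ Subgroup.normalizer ((Q : Subgroup G) : Set G) := Sylow.smul_eq_iff_mem_normalizer.mp h
  have hp' : IsPGroup p (Subgroup.zpowers g) := IsPGroup.of_card (n := 1) (by rw [Nat.card_zpowers, ho, pow_one])
  have hle : Subgroup.zpowers g ≤ (Q : Subgroup G) := by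
    intro a ha
    have : a ∈ Subgroup.zpowers g ⊓ (Q : Subgroup G) := by
      rw [← hp'.inf_normalizer_sylow]
      exact ⟨ha, Subgroup.zpowers_le.mpr hN ha⟩
    exact this.2
  exact (Subgroup.eq_of_le_of_card_ge hle (by rw [card_sylow_eq hS, Nat.card_zpowers, ho])).symm

theorem eq_of_smul_eq {Q : Sylow p G} (h : x • Q = Q) : Q = P0 hS :=
  Sylow.ext (mem_of_orderOf hS hS.hx h)

theorem orderOf_conj (g : G) : orderOf (g * x * g⁻¹) = p := by
  rw [show g * x * g⁻¹ = MulAut.conj g x from rfl, MulEquiv.orderOf_eq, hS.hx]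

theorem exists_conj (Q : Sylow p G) : ∃ g : G, g • P0 hS = Q ∧ (Q : Subgroup G) = Subgroup.zpowers (g * x * g⁻¹) := by
  obtain ⟨g, rfl⟩ := MulAction.exists_smul_eq G (P0 hS) Q
  refine ⟨g, rfl, mem_of_orderOf hS (orderOf_conj hS g) ?_⟩
  rw [Sylow.smul_eq_iff_mem_normalizer]
  refine Subgroup.le_normalizer ?_
  rw [Sylow.coe_subgroup_smul]
  exact ⟨x, x_mem_P0 hS, rfl⟩

/-- An element of order `p` of a subgroup generates one of the Sylow subgroups inside it. -/
theorem sylow_le_of_fix {J : Subgroup G} {g : G} (hg : g ∈ J) (ho : orderOf g = p) {Q : Sylow p G}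
    (h : g • Q = Q) : (Q : Subgroup G) ≤ J := by
  rw [mem_of_orderOf hS ho h]
  exact Subgroup.zpowers_le.mpr hg

/-- The Sylow subgroups of a subgroup containing `x`. -/
theorem card_sylow_sub {J : Subgroup G} (hx : x ∈ J) :
    Nat.card (Sylow p J) = Nat.card {Q : Sylow p G // (Q : Subgroup G) ≤ J} := by
  have hdvd : p ∣ Nat.card J := hS.card_zpowers_eq ▸ Subgroup.card_dvd_of_le (Subgroup.zpowers_le.mpr hx)
  have hfac : (Nat.card J).factorization p = 1 := by
    refine le_antisymm ?_ ((hS.hp.dvd_iff_one_le_factorization Nat.card_pos.ne').mp hdvd)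
    rw [← hS.factorization_card]
    exact (Nat.factorization_le_iff_dvd Nat.card_pos.ne' Nat.card_pos.ne').mpr J.card_subgroup_dvd_card _
  refine (Nat.card_eq_of_bijective (fun Q : {Q : Sylow p G // (Q : Subgroup G) ≤ J} => Q.1.subtype Q.2)
    ⟨fun Q R h => Subtype.ext (Sylow.subtype_injective h), fun S => ?_⟩).symm
  refine ⟨⟨Sylow.ofCard ((S : Subgroup J).map J.subtype) ?_, Subgroup.map_subtype_le _⟩, ?_⟩
  · rw [Subgroup.card_map_of_injective J.subtype_injective, S.card_eq_multiplicity, hfac, hS.factorization_card]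
  · refine Sylow.ext ?_
    show (((S : Subgroup J).map J.subtype).comap J.subtype) = S
    exact Subgroup.comap_map_eq_self_of_injective J.subtype_injective _

variable (hsep : ∀ w y : L, w ∈ K x L → IsConj (y : G) (w : G) → y ∈ K x L)
include hsep

/-- A conjugate of an element of `K` in the normalizer of `⟨x⟩` centralizes `x`. -/
theorem commute_of_conj {w : L} (hw : w ∈ K x L) {z : G}
    (hz : z ∈ Subgroup.normalizer (Subgroup.zpowers x : Set G)) (hc : IsConj z (w : G)) :
    ∃ l : L, l ∈ K x L ∧ z = (l : G) := by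
  obtain ⟨a, ha, l, hl, rfl⟩ := hS.hgen z hz
  obtain ⟨i, rfl⟩ := hS.exists_pw ha
  by_cases hlK : (⟨l, hl⟩ : L) ∈ K x L
  · obtain ⟨c, hc⟩ := isConj_iff.mp hc
    have hreg : ¬ p ∣ orderOf (pw x i * ((⟨⟨l, hl⟩, hlK⟩ : K x L) : L)) := by
      show ¬ p ∣ orderOf (pw x i * l)
      rw [← MulEquiv.orderOf_eq (MulAut.conj c) (pw x i * l), MulAut.conj_apply, hc]
      exact hS.regular_L w
    have hi := (hS.regular_pw_mul_iff _).mp hreg
    exact ⟨⟨l, hl⟩, hlK, by rw [hi, hS.pw_zero, one_mul]⟩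
  · exfalso
    obtain ⟨j, hj⟩ := conj_coset hS hlK i
    exact hlK (hsep w ⟨l, hl⟩ hw ((isConj_iff.mpr ⟨pw x j, hj⟩ : IsConj l (pw x i * l)).trans hc))

/-- An element of `K` fixing a Sylow subgroup centralizes it. -/
theorem centralizes {w : L} (hw : w ∈ K x L) {Q : Sylow p G} (h : (w : G) • Q = Q) :
    (Q : Subgroup G) ≤ Subgroup.centralizer ({(w : G)} : Set G) := by
  obtain ⟨g, hg, hQ⟩ := exists_conj hS Q
  have hfix : (g⁻¹ * (w : G) * g) • P0 hS = P0 hS := by rw [mul_smul, mul_smul, hg, h, inv_smul_eq_iff, hg]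
  rw [Sylow.smul_eq_iff_mem_normalizer] at hfix
  replace hfix : g⁻¹ * (w : G) * g ∈ Subgroup.normalizer (Subgroup.zpowers x : Set G) := hfix
  obtain ⟨l, hl, he⟩ := commute_of_conj hS hsep hw hfix (isConj_iff.mpr ⟨g, by group⟩)
  have hc : Commute x (g⁻¹ * (w : G) * g) := he ▸ mem_K.mp hl
  rw [hQ, Subgroup.zpowers_le, Subgroup.mem_centralizer_singleton_iff]
  calc g * x * g⁻¹ * (w : G) = g * (x * (g⁻¹ * (w : G) * g)) * g⁻¹ := by group
    _ = g * ((g⁻¹ * (w : G) * g) * x) * g⁻¹ := by rw [hc.eq]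
    _ = (w : G) * (g * x * g⁻¹) := by group

end Cfsg.Agent.FewSylowClass
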