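/-
The fixed space of `C(x)` when it acts regularly on the other Sylow subgroups
(namespace `Cfsg.Agent.FewSylowClass`).

Main results: `RegK`, `RegK.exists_mult`.
-/
import Cfsg.Agent.Lib.FewSylowClass.Omega
import Cfsg.Agent.Lib.BrauerN.Minus
import Cfsg.Agent.Lib.FewSylowClass.Values

set_option autoImplicit false
set_option linter.unusedSectionVars false
set_option linter.style.haveILetI false

open scoped ComplexConjugate Pointwise

namespace Cfsg.Agent.FewSylowClass

open Cfsg Cfsg.Agent.Blocks Cfsg.Agent.CyclicDefect Cfsg.Agent.BrauerN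

variable {G : Type*} [Group G] [Finite G] {p : ℕ} [Fact p.Prime] {x : G} {L : Subgroup G}

open scoped Classical in
/-- Counting by the fibres of `c ↦ c y c⁻¹`. -/
theorem sum_conj_fibre {N : Subgroup G} [Fintype N] {y : G} (hy : y ∈ N) (hCN : ∀ a : G, a * y * a⁻¹ ∈ N → a ∈ N) :
    ∑ g : N, (if IsConj (g : G) y then Nat.card (Subgroup.centralizer ({y} : Set G)) else 0) = Nat.card N := by
  let f : N → N := fun c => ⟨(c : G) * y * (c : G)⁻¹, mul_mem (mul_mem c.2 hy) (inv_mem c.2)⟩
  have hfib := Finset.card_eq_sum_card_fiberwise (s := (Finset.univ : Finset N)) (t := Finset.univ) (f := f)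
    (fun _ _ => Finset.mem_univ _)
  rw [Nat.card_eq_fintype_card (α := N), ← Finset.card_univ, hfib]
  refine Finset.sum_congr rfl fun g _ => ?_
  rw [← Fintype.card_subtype, ← Nat.card_eq_fintype_card]
  split_ifs with hg
  · obtain ⟨c₀, hc₀⟩ := isConj_iff.mp hg.symm
    have hc₀N : c₀ ∈ N := hCN c₀ (hc₀ ▸ g.2)
    have hcy : ∀ a ∈ Subgroup.centralizer ({y} : Set G), c₀ * a ∈ N := fun a ha => mul_mem hc₀N (hCN a (by
      rw [Subgroup.mem_centralizer_singleton_iff.mp ha, mul_inv_cancel_right]
      exact hy))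
    refine Nat.card_congr (show Subgroup.centralizer ({y} : Set G) ≃ {c : N // f c = g} from
      { toFun := fun a => ⟨⟨c₀ * a, hcy a a.2⟩, Subtype.ext (by
          show c₀ * a * y * (c₀ * a)⁻¹ = (g : G)
          rw [← hc₀]
          have := Subgroup.mem_centralizer_singleton_iff.mp a.2
          calc c₀ * a * y * (c₀ * a)⁻¹ = c₀ * (a * y) * (c₀ * a)⁻¹ := by group
            _ = c₀ * (y * a) * (c₀ * a)⁻¹ := by rw [this]
            _ = c₀ * y * c₀⁻¹ := by group)⟩
        invFun := fun c => ⟨c₀⁻¹ * ((c : N) : G), Subgroup.mem_centralizer_singleton_iff.mpr (by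
          have h2 : ((c : N) : G) * y * ((c : N) : G)⁻¹ = c₀ * y * c₀⁻¹ := (congrArg Subtype.val c.2).trans hc₀.symm
          calc c₀⁻¹ * ((c : N) : G) * y = c₀⁻¹ * (((c : N) : G) * y * ((c : N) : G)⁻¹) * ((c : N) : G) := by group
            _ = c₀⁻¹ * (c₀ * y * c₀⁻¹) * ((c : N) : G) := by rw [h2]
            _ = y * (c₀⁻¹ * ((c : N) : G)) := by group)⟩
        left_inv := fun a => Subtype.ext (inv_mul_cancel_left _ _)
        right_inv := fun c => Subtype.ext (Subtype.ext (mul_inv_cancel_left _ _)) })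
  · haveI : IsEmpty {c : N // f c = g} := ⟨fun c =>
      hg (isConj_iff.mpr ⟨((c : N) : G), (congrArg Subtype.val c.2 :)⟩).symm⟩
    exact Nat.card_of_isEmpty.symm

/-- Linear characters of `L / K` separating its elements. -/
theorem exists_lambda (hS : Setting p x L) : ∃ lam : ℕ → L →* ℂ,
    (∀ j, ∀ w ∈ K x L, lam j w = 1) ∧ ∀ l : L, (l ∉ K x L → ∑ j ∈ Finset.range (K x L).index, lam j l = 0) ∧
      (l ∈ K x L → ∑ j ∈ Finset.range (K x L).index, lam j l = ((K x L).index : ℂ)) := by
  classical
  set A := (CyclicDefect.alpha hS).range with hA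
  have hcard : Nat.card A = (K x L).index := by rw [hA, ← Subgroup.index_ker, ker_alpha hS]
  haveI : IsCyclic A := inferInstance
  obtain ⟨g, hg⟩ := IsCyclic.exists_generator (α := A)
  have hog : orderOf g = (K x L).index := by rw [orderOf_eq_card_of_forall_mem_zpowers hg, hcard]
  have he0 : (K x L).index ≠ 0 := Subgroup.index_ne_zero_of_finite
  set z := Complex.exp (2 * Real.pi * Complex.I / ((K x L).index : ℕ)) with hz
  have hprim : IsPrimitiveRoot z (K x L).index := Complex.isPrimitiveRoot_exp _ he0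
  set zu : ℂˣ := Units.mk0 z (hprim.ne_zero he0) with hzu
  have hzo : orderOf zu = (K x L).index := by rw [← orderOf_units, hzu, Units.val_mk0, ← hprim.eq_orderOf]
  let f := monoidHomOfForallMemZpowers (g' := zu) hg (by rw [hzo, hog])
  have hinj : Function.Injective f := by
    refine (injective_iff_map_eq_one f).mpr fun a ha => ?_
    obtain ⟨k, rfl⟩ := Subgroup.mem_zpowers_iff.mp (hg a)
    rw [map_zpow, monoidHomOfForallMemZpowers_apply_gen, ← orderOf_dvd_iff_zpow_eq_one, hzo, ← hog,
      orderOf_dvd_iff_zpow_eq_one] at ha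
    exact ha
  let v : L →* ℂ := (Units.coeHom ℂ).comp (f.comp (CyclicDefect.alpha hS).rangeRestrict)
  let lam : ℕ → L →* ℂ := fun j => (powMonoidHom j).comp v
  have hv : ∀ l : L, v l = 1 ↔ l ∈ K x L := by
    intro l
    show ((f ((CyclicDefect.alpha hS).rangeRestrict l) : ℂˣ) : ℂ) = 1 ↔ _
    rw [Units.val_eq_one, map_eq_one_iff f hinj, ← ker_alpha hS, MonoidHom.mem_ker]
    exact ⟨fun h => congrArg Subtype.val h, fun h => Subtype.ext h⟩
  refine ⟨lam, fun j w hw => ?_, fun l => ⟨fun hl => ?_, fun hl => ?_⟩⟩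
  · show v w ^ j = 1
    rw [(hv w).mpr hw, one_pow]
  · have hpow : v l ^ (K x L).index = 1 := by
      show ((f ((CyclicDefect.alpha hS).rangeRestrict l) : ℂˣ) : ℂ) ^ _ = 1
      rw [← Units.val_pow_eq_pow_val, ← map_pow, ← hcard, pow_card_eq_one', map_one, Units.val_one]
    show ∑ j ∈ Finset.range (K x L).index, v l ^ j = 0
    rw [geom_sum_eq (fun h1 => hl ((hv l).mp h1)), hpow, sub_self, zero_div]
  · show ∑ j ∈ Finset.range (K x L).index, v l ^ j = _
    rw [(hv l).mpr hl]
    simp

/-- `C(x)` acts regularly on the other Sylow subgroups. -/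
structure RegK (hS : Setting p x L) (n : ℕ) : Prop where
  card_sylow : Nat.card (Sylow p G) = 1 + n * p
  fix : ∀ w : L, w ∈ K x L → w ≠ 1 → ∀ Q : Sylow p G, (w : G) • Q = Q → Q = P0 hS
  cardK : Nat.card (K x L) = n

namespace RegK

variable {hS : Setting p x L} {n : ℕ} (hR : RegK hS n)
include hR

theorem fix_C {i : ZMod p} {w : K x L} (h1 : pw x i * ((w : L) : G) ≠ 1) {Q : Sylow p G}
    (hQ : (pw x i * ((w : L) : G)) • Q = Q) : Q = P0 hS := by
  by_cases hi : i = 0
  · subst hi
    rw [hS.pw_zero, one_mul] at h1 hQ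
    exact hR.fix _ w.2 (fun h => h1 (by rw [h]; rfl)) Q hQ
  · have hc : Commute (pw x i) ((w : L) : G) := hS.commute_pw i (hS.commute_K w)
    have hpow : (pw x i * ((w : L) : G)) ^ Nat.card L = pw x ((Nat.card L : ZMod p) * i) := by
      rw [hc.mul_pow, hS.pw_pow, ← SubmonoidClass.coe_pow, pow_card_eq_one', OneMemClass.coe_one, mul_one]
    have hne : (Nat.card L : ZMod p) * i ≠ 0 := mul_ne_zero (fun h0 => hS.hcop
      ((ZMod.natCast_eq_zero_iff _ _).mp h0)) hi
    have hfix : pw x ((Nat.card L : ZMod p) * i) • Q = Q := by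
      rw [← hpow]
      exact MulAction.mem_stabilizer_iff.mp (Subgroup.pow_mem _ (MulAction.mem_stabilizer_iff.mpr hQ) _)
    refine Sylow.ext ((mem_of_orderOf hS (hS.orderOf_pw hne) hfix).trans ?_)
    refine Subgroup.eq_of_le_of_card_ge (Subgroup.zpowers_le.mpr (hS.pw_mem _)) ?_
    rw [coe_P0, Nat.card_zpowers, Nat.card_zpowers, hS.orderOf_pw hne, hS.hx]

/-- Conjugators into the normalizer lie in the normalizer. -/
theorem conjugator {i : ZMod p} {w : K x L} (h1 : pw x i * ((w : L) : G) ≠ 1) {c : G}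
    (hc : c * (pw x i * ((w : L) : G)) * c⁻¹ ∈ Subgroup.normalizer (Subgroup.zpowers x : Set G)) :
    c ∈ Subgroup.normalizer (Subgroup.zpowers x : Set G) := by
  have h2 : (c * (pw x i * ((w : L) : G)) * c⁻¹) • P0 hS = P0 hS := Sylow.smul_eq_iff_mem_normalizer.mpr hc
  have h3 : (pw x i * ((w : L) : G)) • c⁻¹ • P0 hS = c⁻¹ • P0 hS := by
    have h4 := congrArg (c⁻¹ • ·) h2
    simp only [← mul_smul] at h4
    rw [show c⁻¹ * (c * (pw x i * ((w : L) : G)) * c⁻¹) = pw x i * ((w : L) : G) * c⁻¹ by group] at h4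
    rw [← mul_smul]
    exact h4
  have h5 := hR.fix_C h1 h3
  rw [inv_smul_eq_iff] at h5
  exact Sylow.smul_eq_iff_mem_normalizer.mp h5.symm

open scoped Classical in
/-- The weighted number of conjugates in the normalizer. -/
theorem count [Fintype L] {i : ZMod p} {w : K x L} (h1 : pw x i * ((w : L) : G) ≠ 1) (lam : L →* ℂ)
    (hlam : ∀ v ∈ K x L, lam v = 1) :
    ∑ l : L, ∑ j : ZMod p, conj (lam l) *
      (if IsConj (pw x j * (l : G)) (pw x i * ((w : L) : G)) then
        (Nat.card (Subgroup.centralizer ({pw x j * (l : G)} : Set G)) : ℂ) else 0) = ((p * Nat.card L : ℕ) : ℂ) := by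
  set y := pw x i * ((w : L) : G) with hy
  set N := Subgroup.normalizer (Subgroup.zpowers x : Set G) with hN
  have := Fintype.ofFinite N
  have hcx : Commute x y := by
    refine Commute.mul_right ?_ (hS.commute_K w)
    exact ((hS.commute_pw i (Commute.refl x))).symm
  have hterm : ∀ (l : L) (j : ZMod p), conj (lam l) * (if IsConj (pw x j * (l : G)) y then
      (Nat.card (Subgroup.centralizer ({pw x j * (l : G)} : Set G)) : ℂ) else 0) =
      if IsConj (pw x j * (l : G)) y then (Nat.card (Subgroup.centralizer ({y} : Set G)) : ℂ) else 0 := by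
    intro l j
    split_ifs with hc
    · obtain ⟨c, hc'⟩ := isConj_iff.mp hc.symm
      have hcN : c ∈ N := hR.conjugator h1 (by
        rw [← hy, hc']
        exact mul_mem (Subgroup.le_normalizer (hS.pw_mem j)) (hS.hL l.2))
      have hlK : l ∈ K x L := by
        obtain ⟨a, ha⟩ := hS.exists_pw ((Subgroup.mem_normalizer_iff.mp (inv_mem hcN) x).mp (Subgroup.mem_zpowers x))
        rw [inv_inv] at ha
        have h3 : Commute (c⁻¹ * x * c) y := ha ▸ hS.commute_pw a hcx
        have h4 : Commute x (pw x j * (l : G)) := by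
          rw [← hc']
          calc x * (c * y * c⁻¹) = c * ((c⁻¹ * x * c) * y) * c⁻¹ := by group
            _ = c * (y * (c⁻¹ * x * c)) * c⁻¹ := by rw [h3.eq]
            _ = c * y * c⁻¹ * x := by group
        rw [mem_K]
        have h5 := ((hS.commute_pw j (Commute.refl x)).symm.inv_right).mul_right h4
        rwa [inv_mul_cancel_left] at h5
      rw [hlam l hlK, map_one, one_mul]
      congr 1
      rw [← hc']
      exact (Nat.card_congr (show Subgroup.centralizer ({y} : Set G) ≃ Subgroup.centralizer ({c * y * c⁻¹} : Set G) from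
        { toFun := fun a => ⟨c * a * c⁻¹, Subgroup.mem_centralizer_singleton_iff.mpr (by
            have := Subgroup.mem_centralizer_singleton_iff.mp a.2
            calc c * a * c⁻¹ * (c * y * c⁻¹) = c * (a * y) * c⁻¹ := by group
              _ = c * (y * a) * c⁻¹ := by rw [this]
              _ = _ := by group)⟩
          invFun := fun a => ⟨c⁻¹ * a * c, Subgroup.mem_centralizer_singleton_iff.mpr (by
            have := Subgroup.mem_centralizer_singleton_iff.mp a.2
            calc c⁻¹ * a * c * y = c⁻¹ * (a * (c * y * c⁻¹)) * c := by group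
              _ = c⁻¹ * ((c * y * c⁻¹) * a) * c := by rw [this]
              _ = _ := by group)⟩
          left_inv := fun a => Subtype.ext (show c⁻¹ * (c * (a : G) * c⁻¹) * c = a by group)
          right_inv := fun a => Subtype.ext (show c * (c⁻¹ * (a : G) * c) * c⁻¹ = a by group) })).symm
    · rw [mul_zero]
  refine (Finset.sum_congr rfl fun l _ => Finset.sum_congr rfl fun j _ => hterm l j).trans ?_
  rw [← BrauerN.sum_normalizer hS (fun g => if IsConj g y then
    (Nat.card (Subgroup.centralizer ({y} : Set G)) : ℂ) else 0)]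
  have h2 := sum_conj_fibre (N := N) (y := y) (mul_mem (Subgroup.le_normalizer (hS.pw_mem i)) (hS.hL (w : L).2))
    fun a ha => hR.conjugator h1 ha
  rw [hS.card_normalizer] at h2
  rw [← h2, Nat.cast_sum]
  exact Finset.sum_congr rfl fun g _ => by split_ifs <;> simp

open scoped Classical in
/-- The multiplicities of the linear characters in the fixed space of `C(x)`. -/
theorem exists_mult [Fintype (IrrCharacter G)] [Fintype (K x L)] {M : Ideal AlgInt} (hM : IsPModular p M) :
    ∃ (m : ℕ → IrrCharacter G → ℕ) (f : IrrCharacter G → ℕ),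
      (∀ χ : IrrCharacter G, f χ = ∑ j ∈ Finset.range (K x L).index, m j χ) ∧
      (∀ χ : IrrCharacter G, ∀ φ : L → ℂ, IsCharacter L φ → (∀ y : L, (p : ℂ) * φ y = ∑ i : ZMod p, (χ : G → ℂ) (pw x i * (y : G))) →
        ∑ w : K x L, φ (w : L) = (n : ℂ) * (f χ : ℂ)) ∧
      (∀ j ∈ Finset.range (K x L).index, ∑ χ : IrrCharacter G, m j χ * f χ = 2) ∧
      (∀ j ∈ Finset.range (K x L).index, ∑ χ : IrrCharacter G, m j χ * charDegree (χ : G → ℂ) = 1 + n * p) ∧
      ∑ χ ∈ Finset.univ.filter (fun χ => χ ∈ principalBlock M G), (f χ : ℂ) * (χ : G → ℂ) x =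
        ((K x L).index : ℂ) := by
  have hp := hS.hp
  have := Fintype.ofFinite G
  have := Fintype.ofFinite L
  obtain ⟨lam, hlK, hlsum⟩ := exists_lambda hS
  set e := (K x L).index with hedef
  have hn0 : (n : ℂ) ≠ 0 := by
    rw [← hR.cardK]; exact Nat.cast_ne_zero.mpr Nat.card_pos.ne'
  have hp0 : (p : ℂ) ≠ 0 := Nat.cast_ne_zero.mpr hp.ne_zero
  have hL : Nat.card L = n * e := by rw [← (K x L).card_mul_index, hR.cardK]
  have he0 : (e : ℂ) ≠ 0 := Nat.cast_ne_zero.mpr Subgroup.index_ne_zero_of_finite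
  have hm : ∀ (j : ℕ) (χ : IrrCharacter G), ∃ m : ℕ, ∑ l : L, ∑ i : ZMod p,
      conj (lam j l) * (χ : G → ℂ) (pw x i * (l : G)) = ((p * (n * e) : ℕ) : ℂ) * (m : ℂ) := by
    intro j χ
    obtain ⟨φ, hφc, hφ⟩ := exists_fixed hS (Char.IsIrrCharacter.isCharacter χ.2)
    obtain ⟨m, hm⟩ := Char.IsCharacter.classInner_nat hφc (Char.isCharacter_of_hom (lam j))
    refine ⟨m, ?_⟩
    rw [← hm, classInner, ← hL, Nat.cast_mul, mul_assoc, ← mul_assoc (Nat.card L : ℂ),
      mul_inv_cancel₀ (Nat.cast_ne_zero.mpr Nat.card_pos.ne'), one_mul, Finset.mul_sum]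
    refine Finset.sum_congr rfl fun l _ => ?_
    rw [← Finset.mul_sum, ← hφ l]
    ring
  choose m hm using hm
  refine ⟨m, fun χ => ∑ j ∈ Finset.range e, m j χ, fun χ => rfl, ?_⟩
  have hf : ∀ χ : IrrCharacter G, ∑ w : K x L, ∑ i : ZMod p, (χ : G → ℂ) (pw x i * ((w : L) : G)) =
      ((p * n : ℕ) : ℂ) * ((∑ j ∈ Finset.range e, m j χ : ℕ) : ℂ) := by
    intro χ
    apply mul_left_cancel₀ he0
    rw [Nat.cast_sum, ← mul_assoc, ← Nat.cast_mul, show e * (p * n) = p * (n * e) by ring, Finset.mul_sum,
      Finset.mul_sum, Finset.sum_congr rfl (g := fun j => ∑ l : L, ∑ i : ZMod p, conj (lam j l) *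
        (χ : G → ℂ) (pw x i * (l : G))) (s₁ := Finset.range e) fun j _ => (hm j χ).symm,
      Finset.sum_comm (s := Finset.range e)]
    rw [← Finset.sum_filter_add_sum_filter_not (Finset.univ : Finset L) (fun l => l ∈ K x L),
      Finset.sum_eq_zero (s := Finset.univ.filter fun l => ¬ l ∈ K x L) fun l hl => by
        rw [Finset.sum_comm]
        refine Finset.sum_eq_zero fun i _ => ?_
        rw [← Finset.sum_mul, ← map_sum, (hlsum l).1 (Finset.mem_filter.mp hl).2, map_zero, zero_mul],
      add_zero, Finset.sum_subtype (p := (· ∈ K x L)) _ (fun l => by simp)]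
    refine Finset.sum_congr rfl fun w _ => ?_
    rw [Finset.mul_sum, Finset.sum_comm]
    refine Finset.sum_congr rfl fun i _ => ?_
    rw [← Finset.sum_mul, ← map_sum, (hlsum _).2 w.2, map_natCast]
  -- the relation with one conjugate
  have hy : ∀ (j : ℕ) (i : ZMod p) (w : K x L), pw x i * ((w : L) : G) ≠ 1 →
      ∑ χ : IrrCharacter G, (m j χ : ℂ) * conj ((χ : G → ℂ) (pw x i * ((w : L) : G))) = 1 := by
    intro j i w h1
    apply mul_left_cancel₀ (show ((p * (n * e) : ℕ) : ℂ) ≠ 0 by
      rw [← hL]; exact Nat.cast_ne_zero.mpr (Nat.mul_ne_zero hp.ne_zero Nat.card_pos.ne'))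
    rw [mul_one, Finset.mul_sum, Finset.sum_congr rfl
      (g := fun χ : IrrCharacter G => ∑ l : L, ∑ a : ZMod p,
        conj (lam j l) * (χ : G → ℂ) (pw x a * (l : G)) * conj ((χ : G → ℂ) (pw x i * ((w : L) : G))))
      fun χ _ => by rw [← mul_assoc, ← hm, Finset.sum_mul]; exact Finset.sum_congr rfl fun l _ => Finset.sum_mul _ _ _]
    rw [Finset.sum_comm]
    refine (Finset.sum_congr rfl fun l _ => ?_).trans ((hR.count h1 (lam j) (hlK j)).trans (by rw [hL]))
    rw [Finset.sum_comm]
    refine Finset.sum_congr rfl fun a _ => ?_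
    rw [← Char.column_orth, Finset.mul_sum]
    exact Finset.sum_congr rfl fun χ _ => by ring
  have hdeg : ∀ j, ∑ χ : IrrCharacter G, (m j χ : ℂ) * (χ : G → ℂ) 1 = ((1 + n * p : ℕ) : ℂ) := by
    intro j
    have hG : Nat.card G = p * (n * e) * (1 + n * p) := by rw [card_G hS hR.card_sylow, hL]
    apply mul_left_cancel₀ (show ((p * (n * e) : ℕ) : ℂ) ≠ 0 by
      rw [← hL]; exact Nat.cast_ne_zero.mpr (Nat.mul_ne_zero hp.ne_zero Nat.card_pos.ne'))
    rw [← Nat.cast_mul _ (1 + n * p), ← hG, Finset.mul_sum, Finset.sum_congr rfl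
      (g := fun χ : IrrCharacter G => ∑ l : L, ∑ a : ZMod p,
        conj (lam j l) * (χ : G → ℂ) (pw x a * (l : G)) * (χ : G → ℂ) 1)
      fun χ _ => by rw [← mul_assoc, ← hm, Finset.sum_mul]; exact Finset.sum_congr rfl fun l _ => Finset.sum_mul _ _ _]
    rw [Finset.sum_comm, Finset.sum_eq_single (1 : L), Finset.sum_comm, Finset.sum_eq_single (0 : ZMod p)]
    · rw [hS.pw_zero, OneMemClass.coe_one, mul_one, map_one, map_one]
      simp only [one_mul]
      have h := Char.column_orth (G := G) 1 1
      rw [if_pos (IsConj.refl _), show Subgroup.centralizer ({(1 : G)} : Set G) = ⊤ from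
        eq_top_iff.mpr fun a _ => Subgroup.mem_centralizer_singleton_iff.mpr (by simp), Subgroup.card_top] at h
      refine Eq.trans (Finset.sum_congr rfl fun χ _ => ?_) h
      rw [← charDegree_cast, Complex.conj_natCast]
    · intro i _ hi
      simp only [mul_assoc, ← Finset.mul_sum]
      refine mul_eq_zero_of_right _ ?_
      have h := Char.column_orth (G := G) (pw x i * ((1 : L) : G)) 1
      rw [if_neg] at h
      · refine Eq.trans (Finset.sum_congr rfl fun χ _ => ?_) h
        rw [← charDegree_cast, Complex.conj_natCast]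
      · intro hc
        rw [isConj_one_left, OneMemClass.coe_one, mul_one] at hc
        exact hi (hS.pw_inj (hc.trans hS.pw_zero.symm))
    · exact fun h => absurd (Finset.mem_univ _) h
    · intro l _ hl
      rw [Finset.sum_comm]
      refine Finset.sum_eq_zero fun i _ => ?_
      simp only [mul_assoc, ← Finset.mul_sum]
      refine mul_eq_zero_of_right _ ?_
      have h := Char.column_orth (G := G) (pw x i * (l : G)) 1
      rw [if_neg] at h
      · refine Eq.trans (Finset.sum_congr rfl fun χ _ => ?_) h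
        rw [← charDegree_cast, Complex.conj_natCast]
      · intro hc
        rw [isConj_one_left] at hc
        refine hl (Subtype.ext ?_)
        have hd : orderOf (l : G) ∣ p := by
          rw [show (l : G) = (pw x i)⁻¹ from eq_inv_of_mul_eq_one_right hc, orderOf_inv]
          exact orderOf_dvd_of_pow_eq_one (by rw [hS.pw_pow, CharP.cast_eq_zero, zero_mul, hS.pw_zero])
        rcases (Nat.dvd_prime hp).mp hd with h2 | h2
        · exact orderOf_eq_one_iff.mp h2
        · exact absurd h2.symm.dvd (hS.regular_L l)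
    · exact fun h => absurd (Finset.mem_univ _) h
  refine ⟨fun χ φ hφc hφ => ?_, fun j hj => ?_, fun j hj => ?_, ?_⟩
  · apply mul_left_cancel₀ hp0
    rw [Finset.mul_sum, Finset.sum_congr rfl fun (w : K x L) _ => hφ (w : L), hf χ]
    push_cast
    ring
  · apply Nat.cast_injective (R := ℂ)
    push_cast
    apply mul_left_cancel₀ (show ((p * n : ℕ) : ℂ) ≠ 0 by push_cast; exact mul_ne_zero hp0 hn0)
    have hsum : ∑ w : K x L, ∑ i : ZMod p, ∑ χ : IrrCharacter G,
        (m j χ : ℂ) * conj ((χ : G → ℂ) (pw x i * ((w : L) : G))) = ((p * n : ℕ) : ℂ) * 2 := by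
      rw [← Fintype.sum_prod_type', ← Finset.add_sum_erase _ _ (Finset.mem_univ ((1 : K x L), (0 : ZMod p)))]
      rw [Finset.sum_congr (s₁ := Finset.univ.erase _) rfl fun a ha => hy j a.2 a.1 (fun hc => by
        obtain ⟨h1, h2⟩ := hS.decomp_unique (i := a.2) (j := 0) (k := a.1) (k' := 1) (by
          rw [hc, hS.pw_zero, one_mul]; rfl)
        exact Finset.ne_of_mem_erase ha (Prod.ext h2 h1))]
      rw [Finset.sum_const, Finset.card_erase_of_mem (Finset.mem_univ _), Finset.card_univ, Fintype.card_prod,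
        ← Nat.card_eq_fintype_card, hR.cardK, ZMod.card, nsmul_one, hS.pw_zero, OneMemClass.coe_one,
        OneMemClass.coe_one, one_mul,
        Finset.sum_congr rfl (g := fun χ : IrrCharacter G => (m j χ : ℂ) * (χ : G → ℂ) 1) fun χ _ => by
          rw [← charDegree_cast, Complex.conj_natCast], hdeg j]
      have : 1 ≤ n * p := by
        rw [← hR.cardK]; exact Nat.mul_pos Nat.card_pos hp.pos
      rw [Nat.cast_sub this]
      push_cast
      ring
    rw [← hsum, Finset.mul_sum, eq_comm]
    calc ∑ w : K x L, ∑ i : ZMod p, ∑ χ : IrrCharacter G, (m j χ : ℂ) * conj ((χ : G → ℂ) (pw x i * ((w : L) : G)))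
        = ∑ χ : IrrCharacter G, (m j χ : ℂ) *
          conj (∑ w : K x L, ∑ i : ZMod p, (χ : G → ℂ) (pw x i * ((w : L) : G))) := by
          simp only [map_sum, Finset.mul_sum]
          rw [Finset.sum_comm (γ := IrrCharacter G)]
          refine Finset.sum_congr rfl fun w _ => ?_
          rw [Finset.sum_comm]
      _ = _ := Finset.sum_congr rfl fun (χ : IrrCharacter G) _ => by
          rw [hf χ, map_mul, Complex.conj_natCast, Complex.conj_natCast]
          push_cast
          ring
  · apply Nat.cast_injective (R := ℂ)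
    rw [← hdeg j, Nat.cast_sum]
    exact Finset.sum_congr rfl fun χ _ => by rw [Nat.cast_mul, charDegree_cast]
  · -- the values at `x`
    have hout : ∀ χ : IrrCharacter G, χ ∉ principalBlock M G →
        ∑ w : K x L, (χ : G → ℂ) (pw x (1 : ZMod p) * ((w : L) : G)) = 0 := by
      intro χ hχ
      have hnl : ¬ Lies M x L (blockOf M (χ : G → ℂ)) (oneK x L) := fun hl => hχ (by
        rw [lies_unique hS hM (principal_isPBlock (G := G) hM).1 ⟨χ, rfl⟩ (lies_principal hS hM) hl]
        exact mem_blockOf_self hM χ)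
      have h := dec_eq_zero hS hM χ hnl (one_ne_zero (α := ZMod p))
      rw [dec_eq, classInner, mul_eq_zero] at h
      rcases h with h | h
      · exact absurd (inv_eq_zero.mp h) (Nat.cast_ne_zero.mpr Nat.card_pos.ne')
      · refine Eq.trans (Finset.sum_congr rfl fun w _ => ?_) h
        show _ = _ * conj (1 : ℂ)
        rw [map_one, mul_one]
    have hj1 : ∀ j ∈ Finset.range e, ∑ χ ∈ Finset.univ.filter (fun χ => χ ∈ principalBlock M G),
        (m j χ : ℂ) * conj ((χ : G → ℂ) x) = 1 := by
      intro j hj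
      apply mul_left_cancel₀ hn0
      have hsum : ∑ w : K x L, ∑ χ : IrrCharacter G, (m j χ : ℂ) * conj ((χ : G → ℂ) (pw x (1 : ZMod p) * ((w : L) : G))) =
          (n : ℂ) := by
        rw [Finset.sum_congr rfl fun (w : K x L) _ => hy j 1 w fun hc => ?_, Finset.sum_const, Finset.card_univ,
          ← Nat.card_eq_fintype_card, hR.cardK, nsmul_one]
        exact hS.regular_L (w : L) (by
          rw [show ((w : L) : G) = (pw x (1 : ZMod p))⁻¹ from eq_inv_of_mul_eq_one_right hc, orderOf_inv,
            hS.orderOf_pw one_ne_zero])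
      rw [mul_one]
      rw [Finset.sum_comm, ← Finset.sum_filter_add_sum_filter_not Finset.univ (fun χ => χ ∈ principalBlock M G),
        Finset.sum_eq_zero (s := Finset.univ.filter fun χ => ¬ χ ∈ principalBlock M G) fun χ hχ => by
          rw [← Finset.mul_sum, ← map_sum, hout χ (Finset.mem_filter.mp hχ).2, map_zero, mul_zero], add_zero] at hsum
      refine Eq.trans ?_ hsum
      rw [Finset.mul_sum]
      refine Finset.sum_congr rfl fun χ hχ => ?_
      rw [Finset.sum_congr rfl fun (w : K x L) _ => by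
        rw [apply_pw_K hS hM (Finset.mem_filter.mp hχ).2 one_ne_zero w, hS.pw_one], Finset.sum_const,
        Finset.card_univ, ← Nat.card_eq_fintype_card, hR.cardK, nsmul_eq_mul]
    have h := congrArg conj (Finset.sum_congr rfl hj1)
    simp only [map_sum, map_mul, Complex.conj_natCast, Complex.conj_conj, map_one, Finset.sum_const,
      Finset.card_range, nsmul_one] at h
    rw [← h]
    rw [Finset.sum_comm]
    exact Finset.sum_congr rfl fun χ _ => by push_cast; rw [Finset.sum_mul]

end RegK

end Cfsg.Agent.FewSylowClass
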