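/-
The rank of `T - 1` for a linear map of prime order conjugate to many of its powers
(namespace `Cfsg.Agent.FewSylowClass`).

Main results: `card_le_finrank_range`, `pow_card_le_card_range`.
-/
import Mathlib

set_option autoImplicit false
set_option linter.unusedSectionVars false
set_option linter.style.haveILetI false

namespace Cfsg.Agent.FewSylowClass

open Polynomial Module

variable {F V : Type*} [Field F] [AddCommGroup V] [Module F V] [FiniteDimensional F V]

/-- If `T` of order `p` is conjugate to `T ^ a` for `a ∈ A`, then `T - 1` has rank at least `|A|`. -/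
theorem card_le_finrank_range {p : ℕ} [Fact p.Prime] (T : Module.End F V) (hpF : (p : F) ≠ 0) (hT : T ^ p = 1)
    (hne : T ≠ 1) (A : Subgroup (ZMod p)ˣ)
    (hA : ∀ a ∈ A, ∃ S : Module.End F V, IsUnit S ∧ S * T = T ^ ((a : ZMod p).val) * S) :
    Nat.card A ≤ finrank F (LinearMap.range (T - 1)) := by
  classical
  have hp : p.Prime := Fact.out
  let K := AlgebraicClosure F
  set g := minpoly F T with hg
  have hgp : g ∣ X ^ p - 1 := minpoly.dvd _ _ (by simp [hT])
  have hsep : g.Separable := (X_pow_sub_one_separable_iff.mpr hpF).of_dvd hgp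
  have hg0 : g ≠ 0 := minpoly.ne_zero (Algebra.IsIntegral.isIntegral T)
  have hsplit : (g.map (algebraMap F K)).Splits := IsAlgClosed.splits _
  -- a root other than `1`
  obtain ⟨z, hz, hz1⟩ : ∃ z : K, aeval z g = 0 ∧ z ≠ 1 := by
    by_contra hc
    push Not at hc
    have hsub : g.rootSet K ⊆ {1} := fun z hz => hc z (mem_rootSet.mp hz).2
    have hcard := card_rootSet_eq_natDegree (K := K) hsep hsplit
    have h1 : g.natDegree ≤ 1 := by
      rw [← hcard]
      exact (Fintype.card_le_of_injective _ (Set.inclusion_injective hsub)).trans (by simp)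
    haveI : Nontrivial V := by
      by_contra hV
      rw [not_nontrivial_iff_subsingleton] at hV
      exact hne (Subsingleton.elim _ _)
    have h0 : 0 < g.natDegree := minpoly.natDegree_pos (Algebra.IsIntegral.isIntegral T)
    have hmon : g.Monic := minpoly.monic (Algebra.IsIntegral.isIntegral T)
    have hform := hmon.eq_X_add_C (by omega)
    obtain ⟨z, hz⟩ := IsAlgClosed.exists_aeval_eq_zero (k := K) g (by
      rw [degree_eq_natDegree hg0]; exact_mod_cast h0.ne')
    have hz1 := hc z hz
    subst hz1
    rw [hform] at hz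
    simp at hz
    have hb : g.coeff 0 = -1 := by
      refine (algebraMap F K).injective ?_
      rw [map_neg, map_one]
      exact eq_neg_of_add_eq_zero_right hz
    have h2 : aeval T g = 0 := minpoly.aeval F T
    rw [hform, hb] at h2
    simp at h2
    exact hne (sub_eq_zero.mp (by rw [sub_eq_add_neg]; exact h2))
  have hzp : z ^ p = 1 := by
    obtain ⟨c, hc⟩ := hgp
    have h := congrArg (aeval z) hc
    rw [map_mul, hz, zero_mul] at h
    simp at h
    exact sub_eq_zero.mp h
  have hzo : orderOf z = p := orderOf_eq_prime hzp hz1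
  -- the roots in the characteristic polynomial on the range
  set R := LinearMap.range (T - 1) with hR
  have hinv : ∀ v ∈ R, T v ∈ R := by
    rintro _ ⟨w, rfl⟩
    exact ⟨T w, by simp⟩
  set T' : Module.End F R := T.restrict hinv with hT'
  set h := T'.charpoly with hh
  have haev : ∀ (q : F[X]) (v : R), ((aeval T' q v : R) : V) = aeval T q (v : V) := by
    intro q
    induction q using Polynomial.induction_on' with
    | add a b ha hb => intro v; simp [ha, hb]
    | monomial i a =>
      intro v
      rw [aeval_monomial, aeval_monomial]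
      simp only [Module.End.mul_apply, Module.algebraMap_end_apply, Submodule.coe_smul]
      congr 1
      induction i generalizing v with
      | zero => simp
      | succ i ih =>
        rw [pow_succ, pow_succ, Module.End.mul_apply, Module.End.mul_apply]
        exact ih (T' v)
  have hdvd : g ∣ h * (X - 1) := minpoly.dvd _ _ (by
    rw [map_mul, map_sub, aeval_X, map_one]
    refine LinearMap.ext fun v => ?_
    rw [Module.End.mul_apply, LinearMap.zero_apply]
    have h1 := haev h ⟨(T - 1) v, LinearMap.mem_range_self _ v⟩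
    rw [LinearMap.aeval_self_charpoly] at h1
    exact h1.symm.trans rfl)
  have hh0 : h ≠ 0 := (LinearMap.charpoly_monic T').ne_zero
  have hroot : ∀ w : K, aeval w g = 0 → w ≠ 1 → w ∈ h.rootSet K := by
    intro w hw hw1
    refine mem_rootSet.mpr ⟨hh0, ?_⟩
    obtain ⟨c, hc⟩ := hdvd
    have h1 := congrArg (aeval w) hc
    rw [map_mul, map_mul, hw, zero_mul] at h1
    simp at h1
    exact h1.resolve_right (sub_ne_zero.mpr hw1)
  -- the roots are moved by `A`
  have hclosed : ∀ a ∈ A, aeval (z ^ ((a : ZMod p).val)) g = 0 := by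
    intro a ha
    obtain ⟨S, hS, hST⟩ := hA a ha
    set m := (a : ZMod p).val
    have hpow : ∀ i : ℕ, (T ^ m) ^ i * S = S * T ^ i := by
      intro i
      induction i with
      | zero => simp
      | succ i ih => rw [pow_succ, pow_succ, mul_assoc, ← hST, ← mul_assoc, ih, mul_assoc]
    have hall : ∀ q : F[X], aeval (T ^ m) q * S = S * aeval T q := by
      intro q
      induction q using Polynomial.induction_on' with
      | add a b ha hb => rw [map_add, map_add, add_mul, mul_add, ha, hb]
      | monomial i a => rw [aeval_monomial, aeval_monomial, mul_assoc, hpow, ← mul_assoc, Algebra.commutes, mul_assoc]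
    have h0 : aeval (T ^ m) g = 0 := by
      have h1 := hall g
      rw [hg, minpoly.aeval, mul_zero] at h1
      exact hS.mul_left_eq_zero.mp h1
    have hd : g ∣ g.comp (X ^ m) := minpoly.dvd _ _ (by rw [aeval_comp, map_pow, aeval_X]; exact h0)
    obtain ⟨c, hc⟩ := hd
    have h1 := congrArg (aeval z) hc
    rw [aeval_comp, map_mul, hz, zero_mul, map_pow, aeval_X] at h1
    exact h1
  have hne1 : ∀ a : A, z ^ (((a : (ZMod p)ˣ) : ZMod p).val) ≠ 1 := by
    intro a h1
    rw [← orderOf_dvd_iff_pow_eq_one, hzo] at h1
    have h2 := Nat.le_of_dvd (Nat.pos_of_ne_zero fun h3 => (a : (ZMod p)ˣ).ne_zero ((ZMod.val_eq_zero _).mp h3)) h1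
    exact absurd h2 (not_le.mpr (ZMod.val_lt _))
  let f : A → h.rootSet K := fun a =>
    ⟨z ^ (((a : (ZMod p)ˣ) : ZMod p).val), hroot _ (hclosed a a.2) (hne1 a)⟩
  have hf : Function.Injective f := by
    intro a b hab
    have h1 := congrArg Subtype.val hab
    simp only [f] at h1
    rw [IsOfFinOrder.pow_eq_pow_iff_modEq (orderOf_pos_iff.mp (hzo ▸ hp.pos)), hzo] at h1
    refine Subtype.ext (Units.ext (ZMod.val_injective p ?_))
    exact Nat.ModEq.eq_of_lt_of_lt h1 (ZMod.val_lt _) (ZMod.val_lt _)
  calc Nat.card A ≤ Nat.card (h.rootSet K) := Nat.card_le_card_of_injective f hf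
    _ ≤ h.natDegree := by
      rw [Nat.card_eq_fintype_card]
      calc Fintype.card (h.rootSet K) = (h.aroots K).toFinset.card := by simp [rootSet_def]
        _ ≤ Multiset.card (h.aroots K) := Multiset.toFinset_card_le _
        _ ≤ (h.map (algebraMap F K)).natDegree := Polynomial.card_roots' _
        _ = h.natDegree := natDegree_map _
    _ = _ := LinearMap.charpoly_natDegree T'

theorem pow_card_le_card_range [Finite F] {p : ℕ} [Fact p.Prime] (T : Module.End F V) (hpF : (p : F) ≠ 0)
    (hT : T ^ p = 1) (hne : T ≠ 1) (A : Subgroup (ZMod p)ˣ)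
    (hA : ∀ a ∈ A, ∃ S : Module.End F V, IsUnit S ∧ S * T = T ^ ((a : ZMod p).val) * S) :
    Nat.card F ^ Nat.card A ≤ Nat.card (LinearMap.range (T - 1)) := by
  rw [Module.natCard_eq_pow_finrank (K := F) (V := LinearMap.range (T - 1))]
  exact Nat.pow_le_pow_right Nat.card_pos (card_le_finrank_range T hpF hT hne A hA)

end Cfsg.Agent.FewSylowClass
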