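/-
The answer for simple groups, and the subgroups of order prime to `p` of the answers
(namespace `Cfsg.Agent.FewSylowClass`).

Main results: `Classified`, `classified_of_not_form`, `Classified.card_pSubgroup_odd`, `Classified.card_pSubgroup_even`.
-/
import Cfsg.Agent.Lib.FewSylowClass.Arith
import Cfsg.Agent.Lib.BrauerN.Main
import Cfsg.Agent.Lib.PSL2.Facts

set_option autoImplicit false
set_option linter.unusedSectionVars false
set_option linter.style.haveILetI false

namespace Cfsg.Agent.FewSylowClass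

open Cfsg Cfsg.Agent.Blocks Cfsg.Agent.CyclicDefect Cfsg.Agent.BrauerN

/-- A simple group with `1 + n p` Sylow `p`-subgroups for `n < p`. -/
inductive Classified (p n : ℕ) (G : Type*) [Group G] : Prop
  | psl (F : Type) (iF : Field F) (iF' : Fintype F) (hF : Fintype.card F = p) (hp : 3 < p) (hn : n = 1)
      (e : Nonempty (G ≃* Matrix.ProjectiveSpecialLinearGroup (Fin 2) F))
  | thirteen (hp : p = 13) (hn : n = 11) (hG : Nat.card G = 5616)
  | fermat (m : ℕ) (F : Type) (iF : Field F) (iF' : Fintype F) (hF : Fintype.card F = 2 ^ m) (hm : p = 2 ^ m + 1)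
      (hp : 3 < p) (hn : 2 * n + 3 = p) (e : Nonempty (G ≃* Matrix.SpecialLinearGroup (Fin 2) F))
  | mersenne (m : ℕ) (F : Type) (iF : Field F) (iF' : Fintype F) (hF : Fintype.card F = 2 ^ m) (hm : p + 1 = 2 ^ m)
      (hp : 3 < p) (hn : 2 * n = p + 3) (e : Nonempty (G ≃* Matrix.ProjectiveSpecialLinearGroup (Fin 2) F))

variable {p n : ℕ} {G : Type*} [Group G] [Finite G] [Fact p.Prime]

/-- The groups without the form. -/
theorem classified_of_not_form (hperf : commutator G = ⊤) (hcore : pPrimeCore p G = ⊥) {x : G} {L : Subgroup G}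
    (hS : Setting p x L) (hn : Nat.card (Sylow p G) = 1 + n * p) (hF : ¬ HasForm p n) : Classified p n G := by
  classical
  obtain ⟨M, hM⟩ := CentralChar.exists_pModular p
  have := Fintype.ofFinite (IrrCharacter G)
  have he := two_le_index hS hperf
  have hn1 := one_le_of_perfect hS hperf hn
  obtain ⟨hK, h⟩ := principal_shape hS hM hn hperf hF hcore
  have hpsl : n = 1 → (K x L).index * 2 = p - 1 → Classified p n G := fun h1 h2 => by
    obtain ⟨F, i1, i2, hc, h3, e⟩ := psl_case hS hK hcore (h1 ▸ hn) h2 he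
    exact .psl F i1 i2 hc h3 h1 e
  rcases h with ⟨A, B, X, ht, hsh⟩ | ⟨A, B, X, f₀, htf, hsh⟩
  · obtain ⟨h1, h2⟩ := plus_case hS hK hM hsh ht he hn1
    exact hpsl h1 (h2 ▸ hsh.cardX)
  · have hb := minus_basic hS hK hM hsh htf he hn1 hn
    rcases minus_case hS hK hM hsh hb hn1 hn with ⟨h1, h2⟩ | h2
    · exact hpsl h1 (h2 ▸ hsh.cardX)
    · obtain ⟨m, F, i1, i2, hc, hm, h3, e⟩ := sl_case hS hK hM hsh hb hcore hn1 hn h2
      refine .fermat m F i1 i2 hc hm h3 ?_ e
      have h4 := hsh.cardX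
      rw [h2, ← hb.n_succ] at h4
      omega

/-- Subgroups of `PSL(2, p)` of order prime to `p`. -/
theorem card_le_psl_prime {F : Type*} [Field F] [Finite F] (hF : Nat.card F = p) (hp5 : 5 ≤ p)
    (Y : Subgroup (PSL2.PSL2 F)) (hY : ¬ p ∣ Nat.card Y) :
    Nat.card Y ≤ p + 1 ∨ Nat.card Y = 12 ∨ Nat.card Y = 24 ∨ Nat.card Y = 60 := by
  have hp : p.Prime := Fact.out
  haveI : CharP F p := by
    cases nonempty_fintype F
    exact charP_of_card_eq_prime (by rw [← Nat.card_eq_fintype_card, hF])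
  have hg : Nat.gcd 2 (p - 1) = 2 := Nat.gcd_eq_left (by
    rcases hp.eq_two_or_odd with h | h <;> omega)
  rcases PSL2.psl_card_bound p Y with ⟨P, hP⟩ | h | h | ⟨r, m, hr, hm, hrm, -, h⟩
  · left
    have h1 := PSL2.card_borel_mul P
    rw [hF, hg] at h1
    have h2 : Nat.card Y ∣ p * (p - 1) := (Subgroup.card_dvd_of_le hP).trans (Dvd.intro_left _ h1)
    have h3 := Nat.le_of_dvd (by omega) (((hp.coprime_iff_not_dvd.mpr hY).symm).dvd_of_dvd_mul_left h2)
    omega
  · rw [hF, hg] at h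
    exact Or.inl (by omega)
  · rcases h with h | ⟨h, -⟩ | ⟨h, -⟩ <;> tauto
  · exfalso
    rw [hF] at hrm
    obtain rfl : m = 1 := (Nat.Prime.eq_one_of_pow (hrm.symm ▸ hp :))
    rw [pow_one] at hrm
    subst hrm
    rw [hg] at h
    have h2 : r ∣ 2 * Nat.card Y := by
      rcases h with h | ⟨-, -, h⟩
      · exact ⟨_, h⟩
      · exact Dvd.dvd.mul_left ⟨_, h⟩ 2
    rcases hp.dvd_mul.mp h2 with h2 | h2
    · have := Nat.le_of_dvd two_pos h2; omega
    · exact hY h2

/-- Subgroups of `PSL(2, p + 1)` of order prime to the Mersenne prime `p`. -/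
theorem card_le_psl_mersenne {F : Type*} [Field F] [Finite F] {m : ℕ} (hF : Nat.card F = 2 ^ m)
    (hm : p + 1 = 2 ^ m) (hp13 : 13 ≤ p) (Y : Subgroup (PSL2.PSL2 F)) (hY : ¬ p ∣ Nat.card Y) :
    Nat.card Y ≤ 2 * (p + 2) := by
  have hp : p.Prime := Fact.out
  haveI : Fact (Nat.Prime 2) := ⟨Nat.prime_two⟩
  have hmp : m.Prime := by
    have h := hp
    rw [show p = 2 ^ m - 1 by omega] at h
    exact Nat.prime_of_pow_sub_one_prime (by rintro rfl; norm_num at h) h |>.2
  haveI : CharP F 2 := by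
    cases nonempty_fintype F
    exact charP_of_card_eq_prime_pow (f := m) (by rw [← Nat.card_eq_fintype_card, hF])
  have hg : Nat.gcd 2 (Nat.card F - 1) = 1 := by
    rw [hF, ← hm, Nat.add_sub_cancel]
    exact (Nat.coprime_two_left.mpr (hp.odd_of_ne_two (by omega)))
  have h32 : 32 ≤ p + 1 := by
    by_contra hlt
    have hm5 : m < 5 := (Nat.pow_lt_pow_iff_right (le_refl 2)).mp (by rw [← hm]; omega)
    interval_cases m <;> norm_num at hm <;> first
      | omega
      | (obtain rfl : p = 15 := by omega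
         norm_num at hp)
  rcases PSL2.psl_card_bound 2 Y with ⟨P, hP⟩ | h | h | ⟨r, k, hr, hk, hrk, -, h⟩
  · have h1 := PSL2.card_borel_mul P
    rw [hg, one_mul, hF, ← hm, Nat.add_sub_cancel] at h1
    have h2 : Nat.card Y ∣ (p + 1) * p := h1 ▸ Subgroup.card_dvd_of_le hP
    have h3 := Nat.le_of_dvd (by omega) (((hp.coprime_iff_not_dvd.mpr hY).symm).dvd_of_dvd_mul_right h2)
    omega
  · rw [hg, mul_one, hF, ← hm] at h
    omega
  · rcases h with h | ⟨h, -⟩ | ⟨h, -⟩ <;> omega
  · rcases h with h | ⟨h, -⟩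
    · rw [hF] at hrk
      obtain ⟨j, -, rfl⟩ := (Nat.dvd_prime_pow Nat.prime_two).mp (hrk ▸ dvd_pow_self r (show k ≠ 0 by omega))
      rw [← pow_mul] at hrk
      have hjk : j * k = m := Nat.pow_right_injective le_rfl hrk
      rcases hmp.eq_one_or_self_of_dvd j (Dvd.intro k hjk) with rfl | rfl
      · norm_num at h
        omega
      · exfalso
        rw [← hm, Nat.add_sub_cancel] at h
        have h2 : p ∣ Nat.gcd 2 p * Nat.card Y := ⟨(p + 1) * (p + 1 + 1), by rw [h]; ring⟩
        rcases hp.dvd_mul.mp h2 with h2 | h2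
        · have := Nat.le_of_dvd two_pos (h2.trans (Nat.gcd_dvd_left _ _))
          omega
        · exact hY h2
    · exact absurd rfl h

end Cfsg.Agent.FewSylowClass
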