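/-
The Sylow subgroups centralized by a subgroup `B` of `K`, and the orbits outside
(namespace `Cfsg.Agent.FewSylowClass`).

Main results: `fixSet`, `cl`, `Inside`, `Inside.card_cl`, `Inside.exists_small`, `Inside.orbit_info`.
-/
import Cfsg.Agent.Lib.FewSylowClass.Omega
import Cfsg.Agent.Lib.FewSylowClass.Classified

set_option autoImplicit false
set_option linter.unusedSectionVars false
set_option linter.style.haveILetI false

open scoped Pointwise

namespace Cfsg.Agent.FewSylowClass

open Cfsg Cfsg.Agent.Blocks Cfsg.Agent.CyclicDefect Cfsg.Agent.BrauerN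

variable {G : Type*} [Group G] [Finite G] {p : ℕ} [Fact p.Prime] {x : G} {L : Subgroup G}

/-- The Sylow subgroups fixed by `B`. -/
def fixSet (p : ℕ) {G : Type*} [Group G] (B : Subgroup G) : Set (Sylow p G) := {Q | ∀ b ∈ B, b • Q = Q}

/-- The subgroup generated by them. -/
def cl (p : ℕ) {G : Type*} [Group G] (B : Subgroup G) : Subgroup G :=
  ⨆ Q : fixSet p B, ((Q : Sylow p G) : Subgroup G)

/-- The standing assumptions on `B`. -/
structure Inside (hS : Setting p x L) (n : ℕ) (B : Subgroup G) : Prop where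
  card_sylow : Nat.card (Sylow p G) = 1 + n * p
  sep : ∀ w y : L, w ∈ K x L → IsConj (y : G) (w : G) → y ∈ K x L
  le : B ≤ (K x L).map L.subtype
  ne : B ≠ ⊥

namespace Inside

variable {hS : Setting p x L} {n : ℕ} {B : Subgroup G} (hI : Inside hS n B)
include hI

theorem le_centralizer_of_mem {Q : Sylow p G} (hQ : Q ∈ fixSet p B) :
    (Q : Subgroup G) ≤ Subgroup.centralizer (B : Set G) := by
  intro a ha
  rw [Subgroup.mem_centralizer_iff]
  intro b hb
  obtain ⟨w, hw, rfl⟩ := hI.le hb
  exact (Subgroup.mem_centralizer_singleton_iff.mp (centralizes hS hI.sep hw (hQ _ hb) ha)).symm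

omit hI in
theorem mem_of_le_centralizer {B : Subgroup G} {Q : Sylow p G}
    (h : (Q : Subgroup G) ≤ Subgroup.centralizer (B : Set G)) : Q ∈ fixSet p B := by
  intro b hb
  rw [Sylow.smul_eq_iff_mem_normalizer]
  refine Subgroup.mem_normalizer_iff.mpr ?_
  intro a
  constructor
  · intro ha
    have := Subgroup.mem_centralizer_iff.mp (h ha) b hb
    rwa [this, mul_inv_cancel_right]
  · intro ha
    have h1 := Subgroup.mem_centralizer_iff.mp (h ha) b hb
    have h2 : b * a * b⁻¹ = a := by
      apply mul_left_cancel (a := b)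
      rw [h1, inv_mul_cancel_right]
    rwa [h2] at ha

theorem cl_le : cl p B ≤ Subgroup.centralizer (B : Set G) := iSup_le fun Q => hI.le_centralizer_of_mem Q.2

theorem mem_iff {Q : Sylow p G} : Q ∈ fixSet p B ↔ (Q : Subgroup G) ≤ cl p B :=
  ⟨fun h => le_iSup_of_le (⟨Q, h⟩ : fixSet p B) le_rfl, fun h => mem_of_le_centralizer (h.trans hI.cl_le)⟩

theorem x_comm {b : G} (hb : b ∈ B) : Commute x b := by
  obtain ⟨w, hw, rfl⟩ := hI.le hb
  exact mem_K.mp hw

theorem P0_mem : P0 hS ∈ fixSet p B := mem_of_le_centralizer (by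
  rw [coe_P0, Subgroup.zpowers_le, Subgroup.mem_centralizer_iff]
  exact fun b hb => (hI.x_comm hb).eq.symm)

theorem x_mem_cl : x ∈ cl p B := hI.mem_iff.mp hI.P0_mem (x_mem_P0 hS)

theorem card_cl : Nat.card (Sylow p (cl p B)) = (fixSet p B).ncard := by
  rw [card_sylow_sub hS hI.x_mem_cl, ← Nat.card_coe_set_eq]
  exact Nat.card_congr (Equiv.subtypeEquivRight fun Q => hI.mem_iff.symm)

/-- `n' < n`. -/
theorem exists_small [IsSimpleGroup G] (hnc : ¬ IsMulCommutative G) :
    ∃ n', (fixSet p B).ncard = 1 + n' * p ∧ n' < n := by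
  obtain ⟨n', hn'⟩ := card_sylow_form p (cl p B)
  rw [hI.card_cl] at hn'
  refine ⟨n', hn', ?_⟩
  have hle : (fixSet p B).ncard ≤ Nat.card (Sylow p G) := by
    rw [← Nat.card_coe_set_eq]
    exact Nat.card_le_card_of_injective _ Subtype.val_injective
  rw [hn', hI.card_sylow] at hle
  refine lt_of_le_of_ne (Nat.le_of_mul_le_mul_right (by omega) hS.hp.pos) ?_
  rintro rfl
  have huniv : fixSet p B = Set.univ := Set.eq_of_subset_of_ncard_le (Set.subset_univ _) (by
    rw [Set.ncard_univ, hI.card_sylow, hn']) (Set.toFinite _)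
  refine hI.ne ((Subgroup.eq_bot_iff_forall _).mpr fun b hb => ?_)
  have hnc' : Subgroup.center G = ⊥ := by
    rcases (inferInstance : (Subgroup.center G).Normal).eq_bot_or_eq_top with h | h
    · exact h
    · exact absurd ⟨⟨fun a c => (Subgroup.mem_center_iff.mp (h ▸ Subgroup.mem_top a) c).symm⟩⟩ hnc
  have htop : Subgroup.normalClosure ({x} : Set G) = ⊤ :=
    (Subgroup.normalClosure_normal (s := {x})).eq_bot_or_eq_top.resolve_left fun h => by
      have hx1 : x = 1 := Subgroup.mem_bot.mp (h ▸ Subgroup.subset_normalClosure rfl)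
      exact hS.hp.ne_one (by rw [← hS.hx, hx1, orderOf_one])
  have hb' : b ∈ Subgroup.center G := by
    rw [← Subgroup.centralizer_univ, ← Subgroup.coe_top, ← htop, Subgroup.mem_centralizer_iff]
    intro a ha
    have hle : Subgroup.normalClosure ({x} : Set G) ≤ Subgroup.centralizer ({b} : Set G) := by
      refine Subgroup.closure_le _ |>.mpr ?_
      intro c hc
      obtain ⟨x', hx', hcc⟩ := Group.mem_conjugatesOfSet_iff.mp hc
      rw [Set.mem_singleton_iff] at hx'
      obtain ⟨g, rfl⟩ := isConj_iff.mp hcc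
      subst hx'
      have hQ : g • P0 hS ∈ fixSet p B := huniv ▸ Set.mem_univ _
      have hm : g * x' * g⁻¹ ∈ ((g • P0 hS : Sylow p G) : Subgroup G) := by
        rw [Sylow.coe_subgroup_smul]
        exact ⟨x', x_mem_P0 hS, rfl⟩
      rw [SetLike.mem_coe, Subgroup.mem_centralizer_singleton_iff]
      exact ((Subgroup.mem_centralizer_iff.mp (hI.le_centralizer_of_mem hQ hm)) b hb).symm
    exact Subgroup.mem_centralizer_singleton_iff.mp (hle ha)
  exact Subgroup.mem_bot.mp (hnc' ▸ hb')

/-- Conjugation by elements normalizing `B` preserves `cl`. -/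
theorem conj_mem_cl {y : G} (hy : y ∈ Subgroup.normalizer (B : Set G)) {a : G} (ha : a ∈ cl p B) :
    y * a * y⁻¹ ∈ cl p B := by
  have hle : cl p B ≤ (cl p B).comap (MulAut.conj y).toMonoidHom := by
    refine iSup_le fun Q => ?_
    intro c hc
    have hQ : y • (Q : Sylow p G) ∈ fixSet p B := by
      intro b hb
      have hb' := (Subgroup.mem_normalizer_iff.mp (inv_mem hy) b).mp hb
      rw [inv_inv] at hb'
      rw [← mul_smul, show b * y = y * (y⁻¹ * b * y) by group, mul_smul, Q.2 _ hb']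
    refine hI.mem_iff.mp hQ ?_
    show y * c * y⁻¹ ∈ ((y • (Q : Sylow p G) : Sylow p G) : Subgroup G)
    rw [Sylow.coe_subgroup_smul]
    exact ⟨c, hc, rfl⟩
  exact hle ha

omit hI

/-- The action of `T × B` for `T` centralizing `B`. -/
noncomputable def prodHom {T B : Subgroup G} (hT : T ≤ Subgroup.centralizer (B : Set G)) : T × B →* G :=
  MonoidHom.noncommCoprod T.subtype B.subtype fun t b => (Subgroup.mem_centralizer_iff.mp (hT t.2) b b.2).symm

theorem prodHom_apply {T B : Subgroup G} (hT : T ≤ Subgroup.centralizer (B : Set G)) (a : T × B) :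
    prodHom hT a = (a.1 : G) * (a.2 : G) := rfl

/-- The orbit of `T × B`. -/
noncomputable def len {T B : Subgroup G} (hT : T ≤ Subgroup.centralizer (B : Set G)) (Q : Sylow p G) : ℕ :=
  (Set.range fun a : T × B => prodHom hT a • Q).ncard

include hI

/-- The orbits of `T × B` outside the fixed set. -/
theorem orbit_info {T : Subgroup G} (hT : T ≤ Subgroup.centralizer (B : Set G)) {n' : ℕ}
    (hn' : (fixSet p B).ncard = 1 + n' * p) :
    (∀ Q ∉ fixSet p B, len hT Q ≤ (n - n') * p ∧ ∃ Y : Subgroup T, ¬ p ∣ Nat.card Y ∧ Y.index ∣ len hT Q ∧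
      2 * Y.index ≤ len hT Q ∧ ∀ y ∈ Y, ∃ b ∈ B, ((y : G) * b) • Q = Q) ∧
    ∀ d : ℕ, (∀ Q ∉ fixSet p B, d ∣ len hT Q) → d ∣ (n - n') * p := by
  classical
  letI : MulAction (T × B) (Sylow p G) := MulAction.compHom _ (prodHom hT)
  have hsm : ∀ (a : T × B) (Q : Sylow p G), a • Q = ((a.1 : G) * (a.2 : G)) • Q := fun _ _ => rfl
  have hlen : ∀ Q : Sylow p G, len hT Q = (MulAction.orbit (T × B) Q).ncard := fun Q => rfl
  have hinv : ∀ Q ∈ (fixSet p B)ᶜ, MulAction.orbit (T × B) Q ⊆ (fixSet p B)ᶜ := by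
    rintro Q hQ _ ⟨a, rfl⟩ hmem
    refine hQ fun b hb => ?_
    have hcomm : (a.1 : G) * ((a.2 : G) * b * (a.2 : G)⁻¹) = ((a.2 : G) * b * (a.2 : G)⁻¹) * (a.1 : G) :=
      (Subgroup.mem_centralizer_iff.mp (hT a.1.2) _ (mul_mem (mul_mem a.2.2 hb) (inv_mem a.2.2))).symm
    have h1 : ((a.1 : G) * (a.2 : G)) • b • Q = ((a.1 : G) * (a.2 : G)) • Q := by
      rw [← mul_smul, show (a.1 : G) * (a.2 : G) * b = (a.1 : G) * ((a.2 : G) * b * (a.2 : G)⁻¹) * (a.2 : G) by group,
        hcomm, mul_assoc, mul_smul]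
      exact hmem _ (mul_mem (mul_mem a.2.2 hb) (inv_mem a.2.2))
    exact MulAction.injective _ h1
  have hcompl : ((fixSet p B)ᶜ).ncard = (n - n') * p := by
    have h1 := Set.ncard_add_ncard_compl (fixSet p B) (Set.toFinite _) (Set.toFinite _)
    rw [hn', hI.card_sylow] at h1
    rw [Nat.sub_mul]
    omega
  refine ⟨fun Q hQ => ⟨?_, ?_⟩, fun d hd => ?_⟩
  · rw [hlen, ← hcompl]
    exact Set.ncard_le_ncard (hinv Q hQ) (Set.toFinite _)
  · set W := MulAction.stabilizer (T × B) Q with hW
    have hidx : W.index = len hT Q := by rw [hlen, hW, MulAction.index_stabilizer]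
    have hYi : (W.map (MonoidHom.fst T B)).index ∣ W.index :=
      Subgroup.index_map_dvd _ (fun t => ⟨(t, 1), rfl⟩)
    refine ⟨W.map (MonoidHom.fst T B), ?_, hidx ▸ hYi, ?_, ?_⟩
    · intro hdiv
      obtain ⟨⟨a, haW⟩, ha⟩ := exists_prime_orderOf_dvd_card' (G := W) p (hdiv.trans (W.card_map_dvd _))
      rw [Subgroup.orderOf_mk] at ha
      have hb1 : a.2 = 1 := by
        obtain ⟨w, hw, hwb⟩ := hI.le a.2.2
        have h1 : orderOf a.2 ∣ p := by
          rw [← ha]; exact orderOf_map_dvd (MonoidHom.snd T B) a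
        rcases (Nat.dvd_prime hS.hp).mp h1 with h2 | h2
        · exact orderOf_eq_one_iff.mp h2
        · exfalso
          refine hS.regular_L w ?_
          rw [show ((w : L) : G) = (a.2 : G) from hwb, Subgroup.orderOf_coe, h2]
      have hao : orderOf (a.1 : G) = p := by
        rw [Subgroup.orderOf_coe, ← ha, Prod.orderOf, hb1, orderOf_one, Nat.lcm_one_right]
      have hfix : (a.1 : G) • Q = Q := by
        have h1 := MulAction.mem_stabilizer_iff.mp haW
        rwa [hsm, hb1, OneMemClass.coe_one, mul_one] at h1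
      exact hQ (mem_of_le_centralizer ((sylow_le_of_fix hS a.1.2 hao hfix).trans hT))
    · have hne : (W.map (MonoidHom.fst T B)).index ≠ W.index := by
        intro he
        obtain ⟨b, hb, hbQ⟩ : ∃ b ∈ B, b • Q ≠ Q := by
          by_contra hc
          push Not at hc
          exact hQ hc
        have hker : (MonoidHom.fst T B).ker ≤ W := by
          rw [Subgroup.index_map, MonoidHom.range_eq_top.mpr (fun t => ⟨(t, 1), rfl⟩), Subgroup.index_top,
            mul_one] at he
          have hmul := Subgroup.relIndex_mul_index (le_sup_left : W ≤ W ⊔ (MonoidHom.fst T B).ker)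
          rw [he] at hmul
          have h1 : W.relIndex (W ⊔ (MonoidHom.fst T B).ker) = 1 :=
            Nat.eq_of_mul_eq_mul_right (Nat.pos_of_ne_zero Subgroup.index_ne_zero_of_finite) (by rw [hmul, one_mul])
          exact le_sup_right.trans (Subgroup.relIndex_eq_one.mp h1)
        have h2 := hker (x := ((1 : T), (⟨b, hb⟩ : B))) (MonoidHom.mem_ker.mpr rfl)
        rw [hW, MulAction.mem_stabilizer_iff, hsm, OneMemClass.coe_one, one_mul] at h2
        exact hbQ h2
      rw [← hidx]
      obtain ⟨k, hk⟩ := hYi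
      have hk2 : 2 ≤ k := by
        by_contra hlt
        rcases k with _ | _ | k
        · rw [Nat.mul_zero] at hk; exact Subgroup.index_ne_zero_of_finite hk
        · rw [Nat.mul_one] at hk; exact hne hk.symm
        · omega
      rw [hk, mul_comm 2]
      exact Nat.mul_le_mul_left _ hk2
    · rintro y ⟨a, ha, rfl⟩
      exact ⟨a.2, a.2.2, MulAction.mem_stabilizer_iff.mp ha⟩
  · rw [← hcompl]
    exact dvd_ncard_of_orbits (J := T × B) _ hinv fun Q hQ => hlen Q ▸ hd Q hQ

end Inside

end Cfsg.Agent.FewSylowClass
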