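/-
The group generated by the fixed Sylow subgroups has no classified simple quotient with as many of them
(namespace `Cfsg.Agent.FewSylowClass`).

Main result: `no_classified_quotient`.
-/
import Cfsg.Agent.Lib.FewSylowClass.Local

set_option autoImplicit false
set_option linter.unusedSectionVars false
set_option linter.style.haveILetI false

open scoped Pointwise

namespace Cfsg.Agent.FewSylowClass

open Cfsg Cfsg.Agent.Blocks Cfsg.Agent.CyclicDefect Cfsg.Agent.BrauerN

/-- The finitely many small cases. -/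
theorem psl_small : ∀ u ∈ Finset.range 8, ∀ s ∈ Finset.range 20, 2 ≤ u → u + 2 ≤ s →
    ((u + 1) * s + 1).Prime → (2 ∣ u ∨ ¬ 2 ∣ s) → ∀ y ∈ ({12, 24, 60} : Finset ℕ),
      ((u + 1) * s + 1) * (((u + 1) * s + 1 + 1) * ((u + 1) * s + 1 - 1)) % (2 * y) = 0 →
      (u * s + u + 1 - 1) * y < ((u + 1) * s + 1 + 1) * ((u + 1) * s + 1 - 1) ∨
      (y = 60 ∧ (u * s + u + 1 - 1) * 120 % (((u + 1) * s + 1 + 1) * ((u + 1) * s + 1 - 1)) ≠ 0) := by
  decide +kernel

variable {G : Type*} [Group G] [Finite G] {p : ℕ} [Fact p.Prime] {x : G} {L : Subgroup G}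
  {hS : Setting p x L} {n u s : ℕ} {B : Subgroup G} {C Bf D : Finset (IrrCharacter G)}

theorem no_classified_quotient (hI : Inside hS n B) (h : NB hS n u s C Bf D) {n' : ℕ} (hlt : n' < n)
    (hn' : (fixSet p B).ncard = 1 + n' * p) {E : Type*} [Group E] [Finite E] (π : cl p B →* E)
    (hπ : Function.Surjective π) (hE : Classified p n' E) : False := by
  classical
  have hp := hS.hp
  have hnp := h.n_le
  have hp5 := h.par.five_le
  have hpe := h.par.hpe
  have hne := h.par.hne
  have hu := h.two_u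
  have hus := h.hus
  have hp13 : 13 ≤ p := by
    have : (2 + 1) * 4 ≤ (u + 1) * s := Nat.mul_le_mul (by omega) (by omega)
    omega
  have hlt2 : n - n' < n + 1 := by omega
  obtain ⟨horb, htot⟩ := hI.orbit_info hI.cl_le hn'
  -- the bound through a surjection
  have key : ∀ {E' : Type} [Group E'] [Finite E'] (φ : cl p B →* E'), Function.Surjective φ →
      ∀ Q ∉ fixSet p B, ∃ Y : Subgroup E', ¬ p ∣ Nat.card Y ∧ Y.index ∣ Inside.len hI.cl_le Q ∧
        2 * Y.index ≤ (n - n') * p ∧ Y.index * Nat.card Y = Nat.card E' := by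
    intro E' _ _ φ hφ Q hQ
    obtain ⟨h1, Y, h2, h3, h4, -⟩ := horb Q hQ
    have h5 := Subgroup.index_map_dvd Y hφ
    refine ⟨Y.map φ, fun hd => h2 (hd.trans (Y.card_map_dvd φ)), h5.trans h3, le_trans ?_ (h4.trans h1),
      Subgroup.index_mul_card _⟩
    exact Nat.mul_le_mul_left 2 (Nat.le_of_dvd (Nat.pos_of_ne_zero Subgroup.index_ne_zero_of_finite) h5)
  rcases hE with ⟨F, iF, iF', hF, -, hn1, ⟨e⟩⟩ | ⟨hp', hn11, -⟩ | ⟨m, F, iF, iF', hF, hm, -, -, -⟩ |
    ⟨m, F, iF, iF', hF, hm, -, -, ⟨e⟩⟩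
  · -- `PSL(2, p)`
    have hFn : Nat.card F = p := by rw [Nat.card_eq_fintype_card, hF]
    have hg : Nat.gcd 2 (p - 1) = 2 := Nat.gcd_eq_left (by
      rcases hp.eq_two_or_odd with h' | h' <;> omega)
    have hcard : 2 * Nat.card (PSL2.PSL2 F) = p * ((p + 1) * (p - 1)) := by
      have h1 := PSL2.card_psl_mul (F := F)
      rwa [hFn, hg] at h1
    let φ : cl p B →* PSL2.PSL2 F := e.toMonoidHom.comp π
    have hφ : Function.Surjective φ := e.surjective.comp hπ
    subst hn1
    have hall : ∀ Q ∉ fixSet p B, p * ((p + 1) * (p - 1)) ∣ Inside.len hI.cl_le Q * 120 ∧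
        (u * s + u + 1 - 1) * 120 % (((u + 1) * s + 1 + 1) * ((u + 1) * s + 1 - 1)) ≠ 0 := by
      intro Q hQ
      obtain ⟨Y, hY, hd, hle, hmul⟩ := key φ hφ Q hQ
      set y := Nat.card Y with hy
      have e1 : p * ((p + 1) * (p - 1)) = 2 * Y.index * y := by rw [← hcard, ← hmul, mul_assoc]
      have e2 : (p + 1) * (p - 1) ≤ (n - 1) * y := by
        refine Nat.le_of_mul_le_mul_left ?_ hp.pos
        rw [e1, ← mul_assoc, mul_comm p]
        exact Nat.mul_le_mul_right y hle
      rcases card_le_psl_prime hFn hp5 Y hY with hb | hb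
      · exfalso
        rw [← hy] at hb
        have h6 := e2.trans (Nat.mul_le_mul_left _ hb)
        rw [mul_comm (n - 1)] at h6
        have := Nat.le_of_mul_le_mul_left h6 (by omega)
        omega
      · have hy60 : y ≤ 60 := by omega
        have hp60 : p < 60 := by
          by_contra hge
          have h6 : (n - 1) * y ≤ (p - 3) * 60 := Nat.mul_le_mul (by omega) hy60
          have h7 : (p + 1) * (p - 1) ≥ 61 * (p - 1) := Nat.mul_le_mul_right _ (by omega)
          omega
        have hu8 : u < 8 := by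
          by_contra hge
          have : 9 * 10 ≤ (u + 1) * s := Nat.mul_le_mul (by omega) (by omega)
          omega
        have hs20 : s < 20 := by
          by_contra hge
          have : 3 * 20 ≤ (u + 1) * s := Nat.mul_le_mul (by omega) (by omega)
          omega
        have hmod : ((u + 1) * s + 1) * (((u + 1) * s + 1 + 1) * ((u + 1) * s + 1 - 1)) % (2 * y) = 0 := by
          rw [← hpe, e1, mul_comm 2 Y.index, mul_assoc, Nat.mul_mod_left]
        have hsm := psl_small u (Finset.mem_range.mpr hu8) s (Finset.mem_range.mpr hs20) hu hus (hpe ▸ hp)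
          h.par_us y (by simp only [Finset.mem_insert, Finset.mem_singleton]; exact hb) hmod
        rcases hsm with h6 | ⟨h6, h7⟩
        · rw [← hpe, ← hne] at h6
          exact absurd e2 (not_le.mpr h6)
        · refine ⟨?_, h7⟩
          rw [e1, h6, show 2 * Y.index * 60 = Y.index * 120 by ring]
          exact Nat.mul_dvd_mul_right hd 120
    obtain ⟨Q, hQ⟩ : ∃ Q, Q ∉ fixSet p B := by
      by_contra hc
      push Not at hc
      have h1 := htot ((n - 1) * p + 1) fun Q hQ => absurd (hc Q) hQ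
      rcases Nat.eq_zero_or_pos ((n - 1) * p) with h2 | h2
      · rcases Nat.mul_eq_zero.mp h2 with h3 | h3 <;> omega
      · have := Nat.le_of_dvd h2 h1
        omega
    obtain ⟨hdvd, hne0⟩ := hall Q hQ
    have hD : ∃ D, p * ((p + 1) * (p - 1)) = Nat.gcd (p * ((p + 1) * (p - 1))) 120 * D := Nat.gcd_dvd_left _ _
    obtain ⟨D, hD⟩ := hD
    have hD' : ∀ N, p * ((p + 1) * (p - 1)) ∣ N * 120 ↔ D ∣ N := by
      intro N
      set g := Nat.gcd (p * ((p + 1) * (p - 1))) 120 with hgdef
      have hg0 : 0 < g := Nat.gcd_pos_of_pos_right _ (by norm_num)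
      obtain ⟨k, hk⟩ : g ∣ 120 := Nat.gcd_dvd_right _ _
      have hcop : D.Coprime k := by
        have hgg : g = g * Nat.gcd D k := by
          rw [← Nat.gcd_mul_left, ← hD, ← hk]
        exact (Nat.eq_of_mul_eq_mul_left hg0 ((mul_one g).trans hgg)).symm
      rw [hD, hk, show N * (g * k) = g * (N * k) by ring, Nat.mul_dvd_mul_iff_left hg0]
      exact hcop.dvd_mul_right
    have h8 := (hD' _).mpr (htot D fun Q hQ => (hD' _).mp (hall Q hQ).1)
    rw [mul_comm (n - 1) p, mul_assoc] at h8
    have h9 := Nat.dvd_of_mul_dvd_mul_left hp.pos h8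
    rw [← hpe, ← hne] at hne0
    exact hne0 (Nat.mod_eq_zero_of_dvd h9)
  · -- `p = 13`
    have h1 : (u + 1) * s = 12 := by omega
    have hu4 : u < 4 := by
      by_contra hge
      have : 5 * 6 ≤ (u + 1) * s := Nat.mul_le_mul (by omega) (by omega)
      omega
    interval_cases u <;> omega
  · -- `p` a Fermat prime
    have h1 : (u + 1) * s = 2 ^ m := by omega
    have h2 : u + 1 ∣ 2 ^ m := Dvd.intro s h1
    have h3 : s ∣ 2 ^ m := Dvd.intro_left (u + 1) h1
    have hev : ∀ d, d ∣ 2 ^ m → 2 ≤ d → 2 ∣ d := by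
      intro d hd h2d
      obtain ⟨j, -, rfl⟩ := (Nat.dvd_prime_pow Nat.prime_two).mp hd
      exact dvd_pow_self 2 (by rintro rfl; simp at h2d)
    have h4 := hev _ h2 (by omega)
    have h5 := hev _ h3 (by omega)
    rcases h.par_us with h6 | h6
    · omega
    · exact h6 h5
  · -- `p` a Mersenne prime
    have hFn : Nat.card F = 2 ^ m := by rw [Nat.card_eq_fintype_card, hF]
    have hg : Nat.gcd 2 (Nat.card F - 1) = 1 := by
      rw [hFn, ← hm, Nat.add_sub_cancel]
      exact Nat.coprime_two_left.mpr (hp.odd_of_ne_two (by omega))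
    have hcard : Nat.card (PSL2.PSL2 F) = (p + 1) * ((p + 2) * p) := by
      have h1 := PSL2.card_psl_mul (F := F)
      rwa [hg, one_mul, hFn, ← hm, Nat.add_sub_cancel] at h1
    obtain ⟨Q, hQ⟩ : ∃ Q, Q ∉ fixSet p B := by
      by_contra hc
      push Not at hc
      have h1 := htot ((n - n') * p + 1) fun Q hQ => absurd (hc Q) hQ
      rcases Nat.eq_zero_or_pos ((n - n') * p) with h2 | h2
      · rcases Nat.mul_eq_zero.mp h2 with h3 | h3 <;> omega
      · have := Nat.le_of_dvd h2 h1
        omega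
    obtain ⟨Y, hY, -, hle, hmul⟩ := key (e.toMonoidHom.comp π) (e.surjective.comp hπ) Q hQ
    have hb := card_le_psl_mersenne hFn hm hp13 Y hY
    have h1 : 2 * ((p + 1) * ((p + 2) * p)) ≤ (n - n') * p * (2 * (p + 2)) := by
      rw [← hcard, ← hmul, ← mul_assoc]
      exact Nat.mul_le_mul hle hb
    have h2 : (p + 1) * (2 * ((p + 2) * p)) ≤ (n - n') * (2 * ((p + 2) * p)) := by
      calc (p + 1) * (2 * ((p + 2) * p)) = 2 * ((p + 1) * ((p + 2) * p)) := by ring
        _ ≤ (n - n') * p * (2 * (p + 2)) := h1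
        _ = (n - n') * (2 * ((p + 2) * p)) := by ring
    have := Nat.le_of_mul_le_mul_right h2 (by positivity)
    omega

end Cfsg.Agent.FewSylowClass
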