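/-
A subgroup of `C(B)` of prime power order moved by `x` (namespace `Cfsg.Agent.FewSylowClass`).

Main results: `Rec`, `Wit`, `exists_wit`.
-/
import Cfsg.Agent.Lib.FewSylowClass.NoSimple
import Cfsg.Agent.Lib.FewSylowPrimePow.Basic

set_option autoImplicit false
set_option linter.unusedSectionVars false
set_option linter.style.haveILetI false

open scoped Pointwise

namespace Cfsg.Agent.FewSylowClass

open Cfsg Cfsg.Agent.Blocks Cfsg.Agent.CyclicDefect Cfsg.Agent.BrauerN

universe v

/-- The simple groups of smaller order are classified. -/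
def Rec (p : ℕ) (G : Type v) [Group G] : Prop :=
  ∀ (H : Type v) [Group H] [Finite H], IsSimpleGroup H → ¬ IsMulCommutative H → Nat.card H < Nat.card G →
    p ∣ Nat.card H → ∀ n', Nat.card (Sylow p H) = 1 + n' * p → n' < p → Classified p n' H

variable {G : Type v} [Group G] [Finite G] {p : ℕ} [Fact p.Prime] {x : G} {L : Subgroup G}
  {hS : Setting p x L} {n u s : ℕ} {B : Subgroup G} {C Bf D : Finset (IrrCharacter G)}

/-- A subgroup of prime power order in `C(B)`, invariant under `x` and not centralized by it. -/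
structure Wit (p : ℕ) (x : G) (L : Subgroup G) (n : ℕ) (B : Subgroup G) (q₀ : ℕ) (Q : Subgroup G) : Prop where
  prime : q₀.Prime
  card : ∃ a, Nat.card Q = q₀ ^ a
  regular : ¬ p ∣ Nat.card Q
  le : Q ≤ Subgroup.centralizer (B : Set G)
  norm : Subgroup.zpowers x ≤ Subgroup.normalizer (Q : Set G)
  moved : (Q ⊓ Subgroup.centralizer ({x} : Set G)).relIndex Q ≠ 1
  small : (Q ⊓ Subgroup.centralizer ({x} : Set G)).relIndex Q ≤ 1 + n * p
  modEq : (Q ⊓ Subgroup.centralizer ({x} : Set G)).relIndex Q % p = 1
  transport : ∀ y : L, (y : G) ∈ Subgroup.normalizer (B : Set G) →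
    ∃ c : G, Commute x c ∧ c * (y : G) ∈ Subgroup.normalizer (Q : Set G)

theorem exists_wit [IsSimpleGroup G] (hI : Inside hS n B) (h : NB hS n u s C Bf D) (hrec : Rec p G)
    (hnc : ¬ IsMulCommutative G) (hex : ∃ Q ∈ fixSet p B, Q ≠ P0 hS) : ∃ q₀ Q, Wit p x L n B q₀ Q := by
  classical
  have hp := hS.hp
  obtain ⟨n', hn', hlt⟩ := hI.exists_small hnc
  have hn1 : 1 ≤ n' := by
    by_contra h0
    obtain ⟨Q, hQ, hne⟩ := hex
    have h1 : ({P0 hS, Q} : Set (Sylow p G)).ncard ≤ (fixSet p B).ncard :=
      Set.ncard_le_ncard (Set.insert_subset hI.P0_mem (Set.singleton_subset_iff.mpr hQ)) (Set.toFinite _)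
    rw [Set.ncard_pair (Ne.symm hne), hn', show n' = 0 by omega] at h1
    omega
  set E := cl p B with hEdef
  set Mc := Cfsg.pPrimeCore p E with hMc
  set M := Mc.map E.subtype with hMdef
  have hME : M ≤ E := Subgroup.map_subtype_le _
  have hMcard : Nat.card M = Nat.card Mc := Subgroup.card_map_of_injective E.subtype_injective
  have hMp : ¬ p ∣ Nat.card M := hMcard ▸ Cores.not_dvd_card_pPrimeCore
  have hnormM : ∀ y : G, y ∈ Subgroup.normalizer (E : Set G) → ∀ m ∈ M, y * m * y⁻¹ ∈ M := by
    rintro y hy _ ⟨m, hm, rfl⟩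
    refine ⟨(E.normalizerMonoidHom ⟨y, hy⟩) m, ?_, rfl⟩
    have h1 := Subgroup.characteristic_iff_map_eq.mp (Cores.pPrimeCore_characteristic p E)
      (E.normalizerMonoidHom ⟨y, hy⟩)
    exact h1.le ⟨m, hm, rfl⟩
  have hxn : Subgroup.zpowers x ≤ Subgroup.normalizer (M : Set G) := by
    intro a ha
    have haE : a ∈ Subgroup.normalizer (E : Set G) := Subgroup.le_normalizer (Subgroup.zpowers_le.mpr hI.x_mem_cl ha)
    refine Subgroup.mem_normalizer_iff.mpr fun m => ⟨hnormM a haE m, fun hm => ?_⟩
    have h1 := hnormM a⁻¹ (inv_mem haE) _ hm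
    simpa [mul_assoc] using h1
  by_cases hcent : M ≤ Subgroup.centralizer ({x} : Set G)
  · -- then `E / M` is a classified simple group
    exfalso
    have hEp : p ∣ Nat.card E := hS.card_zpowers_eq ▸ Subgroup.card_dvd_of_le (Subgroup.zpowers_le.mpr hI.x_mem_cl)
    have hcentral : ∀ S : Sylow p E, Mc ≤ Subgroup.normalizer ((S : Subgroup E) : Set E) := by
      intro S m hm
      obtain ⟨g, rfl⟩ := MulAction.exists_smul_eq E ((P0 hS).subtype (hI.mem_iff.mp hI.P0_mem)) S
      refine Sylow.smul_eq_iff_mem_normalizer.mp ?_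
      rw [← mul_smul, show m * g = g * (g⁻¹ * m * g) by group, mul_smul]
      congr 1
      rw [Sylow.smul_eq_iff_mem_normalizer]
      have hm' : g⁻¹ * m * g ∈ Mc := by
        have := (Cores.pPrimeCore_normal p E).conj_mem m hm g⁻¹
        rwa [inv_inv] at this
      have hxm : Commute x ((g⁻¹ * m * g : E) : G) :=
        (Subgroup.mem_centralizer_singleton_iff.mp (hcent ⟨_, hm', rfl⟩)).symm
      refine Subgroup.centralizer_le_normalizer _ ?_
      rw [Subgroup.mem_centralizer_iff]
      intro a ha
      have ha' : (a : G) ∈ Subgroup.zpowers x := ha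
      obtain ⟨j, hj⟩ := Subgroup.mem_zpowers_iff.mp ha'
      refine Subtype.ext ?_
      show (a : G) * ((g⁻¹ * m * g : E) : G) = ((g⁻¹ * m * g : E) : G) * (a : G)
      rw [← hj]
      exact (hxm.zpow_left j).eq
    have hQsyl : Nat.card (Sylow p (E ⧸ Mc)) = 1 + n' * p := by
      rw [SylowCount.card_sylow_quotient_eq Mc hcentral, hEdef, hI.card_cl, hn']
    have hqcard : Nat.card (E ⧸ Mc) * Nat.card Mc = Nat.card E :=
      (Subgroup.card_eq_card_quotient_mul_card_subgroup Mc).symm
    have hqp : p ∣ Nat.card (E ⧸ Mc) := by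
      rcases hp.dvd_mul.mp (hqcard ▸ hEp) with h1 | h1
      · exact h1
      · exact absurd h1 Cores.not_dvd_card_pPrimeCore
    have hqsq : ¬ p ^ 2 ∣ Nat.card (E ⧸ Mc) := fun h1 =>
      hS.hsq ((h1.trans (Subgroup.card_quotient_dvd_card Mc)).trans E.card_subgroup_dvd_card)
    have hnt : Nontrivial (E ⧸ Mc) := Finite.one_lt_card_iff_nontrivial.mp
      (hp.one_lt.trans_le (Nat.le_of_dvd Nat.card_pos hqp))
    have hsimple : IsSimpleGroup (E ⧸ Mc) := by
      refine ⟨fun N hN => or_iff_not_imp_left.mpr fun hne => ?_⟩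
      have hNp : p ∣ Nat.card N := by
        by_contra hd
        exact hne (Cores.pPrimeCore_eq_bot_iff.mp (Cores.pPrimeCore_quotient_self p) N hN
          (hp.coprime_iff_not_dvd.mpr hd).symm)
      obtain ⟨a, ha⟩ := exists_prime_orderOf_dvd_card' (G := N) p hNp
      rw [← Subgroup.orderOf_coe] at ha
      let S : Sylow p (E ⧸ Mc) := Sylow.ofCard (Subgroup.zpowers (a : E ⧸ Mc)) (by
        rw [Nat.card_zpowers, ha]
        have h1 := (hp.dvd_iff_one_le_factorization Nat.card_pos.ne').mp hqp
        have h2 : (Nat.card (E ⧸ Mc)).factorization p < 2 := by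
          by_contra h3
          exact hqsq ((hp.pow_dvd_iff_le_factorization Nat.card_pos.ne').mpr (not_lt.mp h3))
        rw [show (Nat.card (E ⧸ Mc)).factorization p = 1 by omega, pow_one])
      have hall := SylowCount.sylow_le_of_le_normal S N (Subgroup.zpowers_le.mpr a.2)
      rw [eq_top_iff]
      have key : ∀ e : E, QuotientGroup.mk' Mc e ∈ N := by
        have hle : E ≤ (N.comap (QuotientGroup.mk' Mc)).map E.subtype := iSup_le fun Q => by
          intro q hq
          have hQE : ((Q : Sylow p G) : Subgroup G) ≤ E := hI.mem_iff.mp Q.2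
          refine ⟨⟨q, hQE hq⟩, ?_, rfl⟩
          exact hall (((Q : Sylow p G).subtype hQE).mapSurjective (QuotientGroup.mk'_surjective Mc))
            ⟨⟨q, hQE hq⟩, hq, rfl⟩
        intro e
        obtain ⟨e', he', hee⟩ := hle e.2
        exact (Subtype.ext hee : e' = e) ▸ he'
      intro a _
      obtain ⟨e, rfl⟩ := QuotientGroup.mk'_surjective Mc a
      exact key e
    have hncq : ¬ IsMulCommutative (E ⧸ Mc) := by
      intro hc
      have hsub : Subsingleton (Sylow p (E ⧸ Mc)) := by
        refine ⟨fun a b => ?_⟩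
        refine SylowCount.sylow_le_normalizer_eq (P := b) (Q := a) ?_
        intro c _
        refine Subgroup.mem_normalizer_iff.mpr fun d => ?_
        rw [hc.is_comm.comm c d, mul_inv_cancel_right]
      have := Finite.card_le_one_iff_subsingleton.mpr hsub
      rw [hQsyl] at this
      have := Nat.mul_pos hn1 hp.pos
      omega
    have hsmall : Nat.card (E ⧸ Mc) < Nat.card G := by
      have hEG : Nat.card E < Nat.card G := by
        refine lt_of_le_of_ne (Subgroup.card_le_card_group _) fun heq => ?_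
        have htop := E.eq_top_of_card_eq heq
        have huniv : fixSet p B = Set.univ := Set.eq_univ_of_forall fun Q => hI.mem_iff.mpr (by
          rw [← hEdef, htop]; exact le_top)
        rw [huniv, Set.ncard_univ, hI.card_sylow] at hn'
        have := Nat.eq_of_mul_eq_mul_right hp.pos (Nat.add_left_cancel hn')
        omega
      exact (Nat.le_of_dvd Nat.card_pos (Subgroup.card_quotient_dvd_card Mc)).trans_lt hEG
    exact no_classified_quotient hI h hlt hn' (QuotientGroup.mk' Mc) (QuotientGroup.mk'_surjective Mc)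
      (hrec _ hsimple hncq hsmall hqp n' hQsyl (by have := h.n_le; omega))
  · -- a prime part of `|M : C_M(x)|`
    have hcx : Subgroup.centralizer (Subgroup.zpowers x : Set G) = Subgroup.centralizer ({x} : Set G) := by
      rw [Subgroup.zpowers_eq_closure, Subgroup.centralizer_closure]
    set X := M ⊓ Subgroup.centralizer ({x} : Set G) with hXdef
    set r := X.relIndex M with hrdef
    have hr1 : r ≠ 1 := fun h1 => hcent ((Subgroup.relIndex_eq_one.mp h1).trans inf_le_right)
    have hr0 : r ≠ 0 := Subgroup.index_ne_zero_of_finite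
    have hrle : r ≤ 1 + n' * p := by
      have hstab : MulAction.stabilizer M (P0 hS) = X.subgroupOf M := by
        ext m
        rw [MulAction.mem_stabilizer_iff, Subgroup.smul_def, Subgroup.mem_subgroupOf,
          Sylow.smul_eq_iff_mem_normalizer]
        constructor
        · intro hm
          refine ⟨m.2, ?_⟩
          have hmx : (m : G) * x * (m : G)⁻¹ * x⁻¹ ∈ Subgroup.zpowers x ⊓ M := by
            have hm' : (m : G) ∈ Subgroup.normalizer (Subgroup.zpowers x : Set G) := hm
            refine ⟨(Subgroup.zpowers x).mul_mem ((Subgroup.mem_normalizer_iff.mp hm' x).mp (Subgroup.mem_zpowers x))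
              ((Subgroup.zpowers x).inv_mem (Subgroup.mem_zpowers x)), ?_⟩
            have h1 := (Subgroup.mem_normalizer_iff.mp (hxn (Subgroup.mem_zpowers x)) _).mp (M.inv_mem m.2)
            rw [show (m : G) * x * (m : G)⁻¹ * x⁻¹ = (m : G) * (x * (m : G)⁻¹ * x⁻¹) by group]
            exact M.mul_mem m.2 h1
          have hbot : Subgroup.zpowers x ⊓ M = ⊥ := (Subgroup.disjoint_of_coprime_natCard (by
            rw [hS.card_zpowers_eq]
            exact hp.coprime_iff_not_dvd.mpr hMp)).eq_bot
          rw [hbot, Subgroup.mem_bot, mul_inv_eq_one, mul_inv_eq_iff_eq_mul] at hmx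
          exact Subgroup.mem_centralizer_singleton_iff.mpr hmx
        · intro hm
          exact Subgroup.centralizer_le_normalizer _ (hcx.symm ▸ hm.2)
      have horb : MulAction.orbit M (P0 hS) ⊆ fixSet p B := by
        rintro _ ⟨m, rfl⟩
        intro b hb
        have hcm := Subgroup.mem_centralizer_iff.mp (hI.cl_le (hME m.2)) b hb
        show b • (m : G) • P0 hS = (m : G) • P0 hS
        rw [← mul_smul, hcm, mul_smul, hI.P0_mem b hb]
      have h1 := Set.ncard_le_ncard horb (Set.toFinite _)
      rw [← MulAction.index_stabilizer, hstab, hn'] at h1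
      exact h1
    set q₀ := r.minFac with hq₀
    have hq₀p : q₀.Prime := Nat.minFac_prime hr1
    haveI := Fact.mk hq₀p
    have hcop : (Nat.card (Subgroup.zpowers x)).Coprime (Nat.card M) := by
      rw [hS.card_zpowers_eq]; exact hp.coprime_iff_not_dvd.mpr hMp
    have hsolv : Group.IsSolvable (Subgroup.zpowers x) ∨ Group.IsSolvable M :=
      Or.inl (Group.isSolvable_of_comm fun a b => mul_comm' a b)
    obtain ⟨Q, -, hQM, hQn, hQc⟩ := Coprime.exists_invariant_card (A := Subgroup.zpowers x) hxn hcop hsolv q₀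
      (U := ⊥) bot_le IsPGroup.of_bot (by
        intro a _
        refine Subgroup.mem_normalizer_iff.mpr fun b => ?_
        rw [Subgroup.mem_bot, Subgroup.mem_bot]
        exact ⟨fun hb => by rw [hb]; group, fun hb => by
          rw [mul_inv_eq_one] at hb; exact mul_eq_left.mp hb⟩)
    have hQX : Nat.card (Q ⊓ Subgroup.centralizer ({x} : Set G) : Subgroup G) =
        q₀ ^ (Nat.card X).factorization q₀ :=
      Coprime.card_inf_centralizer_eq hxn hcop hQM hQn hQc (Subgroup.mem_zpowers x)
    have hmul : Nat.card X * r = Nat.card M := by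
      rw [← Subgroup.relIndex_bot_left, ← Subgroup.relIndex_bot_left]
      exact Subgroup.relIndex_mul_relIndex ⊥ X M bot_le inf_le_left
    have hfac : (Nat.card M).factorization q₀ = (Nat.card X).factorization q₀ + r.factorization q₀ := by
      rw [← hmul, Nat.factorization_mul Nat.card_pos.ne' hr0]
      rfl
    have hrel : (Q ⊓ Subgroup.centralizer ({x} : Set G)).relIndex Q = q₀ ^ r.factorization q₀ := by
      refine Nat.eq_of_mul_eq_mul_left (Nat.pow_pos (n := (Nat.card X).factorization q₀) hq₀p.pos) ?_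
      rw [← pow_add, ← hfac, ← hQX, ← Subgroup.relIndex_bot_left, Subgroup.relIndex_mul_relIndex ⊥ _ Q bot_le inf_le_left,
        Subgroup.relIndex_bot_left, hQc]
    refine ⟨q₀, Q, hq₀p, ⟨_, hQc⟩, fun hd => hMp (hd.trans (Subgroup.card_dvd_of_le hQM)),
      hQM.trans (hME.trans hI.cl_le), hQn, ?_, ?_, ?_, fun y hy => ?_⟩
    · rw [hrel]
      exact (Nat.one_lt_pow (hq₀p.factorization_pos_of_dvd hr0 (Nat.minFac_dvd r)).ne' hq₀p.one_lt).ne'
    · rw [hrel]
      exact ((Nat.le_of_dvd (Nat.pos_of_ne_zero hr0) (Nat.ordProj_dvd r q₀)).trans hrle).trans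
        (Nat.add_le_add_left (Nat.mul_le_mul_right p hlt.le) 1)
    · rw [hrel, hrdef, hXdef, ← hcx]
      exact FewSylowPrimePow.ordProj_modEq (P := Subgroup.zpowers x)
        (IsPGroup.of_card (n := 1) (by rw [hS.card_zpowers_eq, pow_one])) hxn hMp q₀
    · have hyE : ∀ z ∈ Subgroup.normalizer (B : Set G), z ∈ Subgroup.normalizer (E : Set G) := fun z hz =>
        Subgroup.mem_normalizer_iff.mpr fun a => ⟨fun ha => hI.conj_mem_cl hz ha, fun ha => by
          have h1 := hI.conj_mem_cl (inv_mem hz) ha
          simpa [mul_assoc, hEdef] using h1⟩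
      set R := Q.map (MulAut.conj (y : G)).toMonoidHom with hR
      have hRM : R ≤ M := by
        rintro _ ⟨a, ha, rfl⟩
        exact hnormM _ (hyE _ hy) a (hQM ha)
      have hRn : Subgroup.zpowers x ≤ Subgroup.normalizer (R : Set G) := by
        rw [Subgroup.zpowers_le, hR, ← Subgroup.map_equiv_normalizer_eq]
        have h2 : (y : G)⁻¹ * x * (y : G) ∈ Subgroup.zpowers x := by
          have h2 := (Subgroup.mem_normalizer_iff.mp (inv_mem (hS.hL y.2)) x).mp (Subgroup.mem_zpowers x)
          rwa [inv_inv] at h2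
        refine ⟨(y : G)⁻¹ * x * (y : G), hQn h2, ?_⟩
        show (y : G) * ((y : G)⁻¹ * x * (y : G)) * (y : G)⁻¹ = x
        group
      obtain ⟨c, hc, hcR⟩ := Coprime.exists_mem_centralizer_conj_of_card hxn hcop hsolv hQM hRM hQn hRn hQc
        (by rw [hR, Subgroup.card_map_of_injective (MulAut.conj (y : G)).injective, hQc])
      refine ⟨c, (Subgroup.mem_centralizer_singleton_iff.mp (hcx ▸ hc.2)).symm, ?_⟩
      refine Subgroup.mem_normalizer_fintype ?_
      intro a ha
      have h1 : MulAut.conj c ((y : G) * a * (y : G)⁻¹) ∈ MulAut.conj c • R :=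
        Subgroup.smul_mem_pointwise_smul _ _ _ ⟨a, ha, rfl⟩
      rw [hcR, MulAut.conj_apply] at h1
      rw [show c * (y : G) * a * (c * (y : G))⁻¹ = c * ((y : G) * a * (y : G)⁻¹) * c⁻¹ by group]
      exact h1

end Cfsg.Agent.FewSylowClass
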