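/-
A subgroup of `K` whose normalizer covers `L / K` fixes only one Sylow subgroup
(namespace `Cfsg.Agent.FewSylowClass`).

Main results: `no_wit_of_covering`, `fixSet_eq_of_covering`, `fixSet_sylow_K`.
-/
import Cfsg.Agent.Lib.FewSylowClass.Witness
import Cfsg.Agent.Lib.FewSylowClass.Spectrum
import Cfsg.Agent.Lib.HallHigman.FrattiniModule
import Cfsg.Agent.Lib.Coprime.Frattini

set_option autoImplicit false
set_option linter.unusedSectionVars false
set_option linter.style.haveILetI false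

open scoped Pointwise commutatorElement

namespace Cfsg.Agent.FewSylowClass

open Cfsg Cfsg.Agent.Blocks Cfsg.Agent.CyclicDefect Cfsg.Agent.BrauerN

universe v

variable {G : Type v} [Group G] [Finite G] {p : ℕ} [Fact p.Prime] {x : G} {L : Subgroup G}
  {hS : Setting p x L} {n u s : ℕ} {B : Subgroup G} {C Bf D : Finset (IrrCharacter G)}

set_option maxHeartbeats 1600000 in
theorem no_wit_of_covering (h : NB hS n u s C Bf D)
    (hcov : ∀ y : L, ∃ y' : L, (y' : G) ∈ Subgroup.normalizer (B : Set G) ∧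
      CyclicDefect.alpha hS y' = CyclicDefect.alpha hS y)
    {q₀ : ℕ} {Q : Subgroup G} (hw : Wit p x L n B q₀ Q) : False := by
  classical
  have hp := hS.hp
  haveI := Fact.mk hw.prime
  obtain ⟨a, ha⟩ := hw.card
  have hQp : IsPGroup q₀ Q := IsPGroup.of_card ha
  haveI : Group.IsNilpotent Q := hQp.isNilpotent
  set X := Q ⊓ Subgroup.centralizer ({x} : Set G) with hX
  have hXQ : X.relIndex Q ∣ q₀ ^ a := ha ▸ Subgroup.relIndex_dvd_card _ _
  obtain ⟨i, -, hi⟩ := (Nat.dvd_prime_pow hw.prime).mp hXQ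
  have hne : q₀ ≠ p := by
    rintro rfl
    rcases Nat.eq_zero_or_pos i with rfl | hi0
    · exact hw.moved (by rw [hi, pow_zero])
    · refine hw.regular ?_
      rw [ha]
      exact (dvd_pow_self q₀ hi0.ne').trans (hi ▸ hXQ)
  have hi0 : 0 < i := Nat.pos_of_ne_zero fun h0 => hw.moved (by rw [hi, h0, pow_zero])
  -- the module
  set Φ := frattini Q
  have hcomm : ∀ a b : Q ⧸ Φ, a * b = b * a := fun a b => by
    induction a using QuotientGroup.induction_on with | _ a => ?_
    induction b using QuotientGroup.induction_on with | _ b => ?_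
    rw [← QuotientGroup.mk_mul, ← QuotientGroup.mk_mul, QuotientGroup.eq]
    refine Cores.commutator_le_frattini ?_
    rw [commutator_def, show (a * b)⁻¹ * (b * a) = ⁅b⁻¹, a⁻¹⁆ by rw [commutatorElement_def]; group]
    exact Subgroup.commutator_mem_commutator trivial trivial
  let instC : CommGroup (Q ⧸ Φ) := { (inferInstance : Group (Q ⧸ Φ)) with mul_comm := hcomm }
  have hexp : ∀ v : Q ⧸ Φ, v ^ q₀ = 1 := fun v => by
    induction v using QuotientGroup.induction_on with | _ v => ?_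
    rw [← QuotientGroup.mk_pow, (QuotientGroup.eq_one_iff _).mpr (Cores.pow_mem_frattini hQp v)]
  set N := Subgroup.normalizer (Q : Set G) with hN
  have hmap : ∀ g : N, Φ.map (Q.normalizerMonoidHom g).toMonoidHom = Φ :=
    fun g => Subgroup.characteristic_iff_map_eq.mp inferInstance _
  let c : N →* MulAut (Q ⧸ Φ) :=
    { toFun := fun g => QuotientGroup.congr _ _ (Q.normalizerMonoidHom g) (hmap g)
      map_one' := MulEquiv.ext fun v => by
        induction v using QuotientGroup.induction_on with | _ v => ?_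
        show ((Q.normalizerMonoidHom (1 : N) v : Q) : Q ⧸ Φ) = (v : Q ⧸ Φ)
        rw [map_one, MulAut.one_apply]
      map_mul' := fun g g' => MulEquiv.ext fun v => by
        induction v using QuotientGroup.induction_on with | _ v => ?_
        show ((Q.normalizerMonoidHom (g * g') v : Q) : Q ⧸ Φ) =
          ((Q.normalizerMonoidHom g (Q.normalizerMonoidHom g' v) : Q) : Q ⧸ Φ)
        rw [map_mul, MulAut.mul_apply] }
  obtain ⟨instM, σ, hσ⟩ := HallHigman.exists_linear_rep hexp c
  haveI : Finite (Additive (Q ⧸ Φ)) := inferInstanceAs (Finite (Q ⧸ Φ))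
  haveI : FiniteDimensional (ZMod q₀) (Additive (Q ⧸ Φ)) := Module.Finite.of_finite
  have hxN : x ∈ N := hw.norm (Subgroup.mem_zpowers x)
  set xN : N := ⟨x, hxN⟩ with hxNdef
  set T := σ xN with hTdef
  have hxp : xN ^ p = 1 := Subtype.ext (by rw [SubmonoidClass.coe_pow]; exact hS.pow_eq_one)
  have hTp : T ^ p = 1 := by rw [hTdef, ← map_pow, hxp, map_one]
  have hpz : ((p : ℕ) : ZMod q₀) ≠ 0 := fun h0 =>
    hne ((Nat.prime_dvd_prime_iff_eq hw.prime hp).mp ((ZMod.natCast_eq_zero_iff _ _).mp h0))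
  have hdiff : ∀ v : Q, (T - 1) (Additive.ofMul (v : Q ⧸ Φ)) =
      Additive.ofMul ((((Q.normalizerMonoidHom xN v) * v⁻¹ : Q)) : Q ⧸ Φ) := by
    intro v
    rw [LinearMap.sub_apply, Module.End.one_apply, hTdef, hσ, QuotientGroup.mk_mul, ofMul_mul, QuotientGroup.mk_inv,
      ofMul_inv, sub_eq_add_neg]
    rfl
  have hT1 : T ≠ 1 := by
    intro h1
    refine hw.moved (Subgroup.relIndex_eq_one.mpr (le_inf le_rfl ?_))
    have hcent := Coprime.le_centralizer_of_forall_mem_frattini (A := Subgroup.zpowers x) (K := Q) hw.norm (by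
      rw [hS.card_zpowers_eq]
      exact hp.coprime_iff_not_dvd.mpr fun hd => hw.regular (hd.trans (Subgroup.card_subgroup_dvd_card _)))
      (fun b hb k hk => by
        obtain ⟨j, rfl⟩ := Subgroup.mem_zpowers_iff.mp hb
        have hz : σ (xN ^ j) = 1 := by
          obtain ⟨j', hj'⟩ : ∃ j' : ℕ, xN ^ j' = xN ^ j :=
            (mem_powers_iff_mem_zpowers.mpr ⟨j, rfl⟩)
          rw [← hj', map_pow, ← hTdef, h1, one_pow]
        have h2 : (σ (xN ^ j) - 1) (Additive.ofMul (((⟨k, hk⟩ : Q)) : Q ⧸ Φ)) = 0 := by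
          rw [hz, sub_self, LinearMap.zero_apply]
        rw [LinearMap.sub_apply, Module.End.one_apply, hσ, sub_eq_zero] at h2
        have h3 : ((Q.normalizerMonoidHom (xN ^ j) ⟨k, hk⟩ : Q) : Q ⧸ Φ) = ((⟨k, hk⟩ : Q) : Q ⧸ Φ) :=
          Additive.ofMul.injective h2
        refine ⟨Q.normalizerMonoidHom (xN ^ j) ⟨k, hk⟩ * (⟨k, hk⟩ : Q)⁻¹, ?_, ?_⟩
        · rw [SetLike.mem_coe, ← QuotientGroup.eq_one_iff, QuotientGroup.mk_mul, QuotientGroup.mk_inv, h3,
            mul_inv_cancel]
        · show ((xN ^ j : N) : G) * k * ((xN ^ j : N) : G)⁻¹ * k⁻¹ = x ^ j * k * (x ^ j)⁻¹ * k⁻¹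
          rw [SubgroupClass.coe_zpow])
    intro k hk
    rw [Subgroup.mem_centralizer_singleton_iff]
    exact Subgroup.mem_centralizer_iff.mp (hcent (Subgroup.mem_zpowers x)) k hk
  -- `|range (T - 1)| ≤ |Q : C_Q(x)|`
  have hrange : Nat.card (LinearMap.range (T - 1)) ≤ X.relIndex Q := by
    let f : Q ⧸ X.subgroupOf Q → LinearMap.range (T - 1) := Quotient.lift
      (fun v : Q => (⟨(T - 1) (Additive.ofMul (v : Q ⧸ Φ)), LinearMap.mem_range_self _ _⟩ : LinearMap.range (T - 1)))
      (fun v w hvw => by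
        replace hvw : v⁻¹ * w ∈ X.subgroupOf Q := QuotientGroup.leftRel_apply.mp hvw
        refine Subtype.ext ?_
        show (T - 1) _ = (T - 1) _
        obtain ⟨d, hd⟩ : ∃ d : Q, d = v⁻¹ * w := ⟨_, rfl⟩
        have hdx : Q.normalizerMonoidHom xN d = d := by
          refine Subtype.ext ?_
          show x * (d : G) * x⁻¹ = (d : G)
          have h2 : (d : G) ∈ X := by rw [hd]; exact Subgroup.mem_subgroupOf.mp hvw
          rw [← Subgroup.mem_centralizer_singleton_iff.mp h2.2, mul_inv_cancel_right]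
        rw [show w = v * d by rw [hd, mul_inv_cancel_left], QuotientGroup.mk_mul, ofMul_mul, map_add, hdiff d, hdx,
          mul_inv_cancel, QuotientGroup.mk_one, ofMul_one, add_zero])
    have hf : Function.Surjective f := by
      rintro ⟨_, v, rfl⟩
      induction v using Additive.rec with | _ v => ?_
      induction v using QuotientGroup.induction_on with | _ v => exact ⟨(v : Q ⧸ X.subgroupOf Q), rfl⟩
    exact Nat.card_le_card_of_surjective f hf
  -- `T` is conjugate to all its powers by the image of `L`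
  have hA : ∀ b ∈ (CyclicDefect.alpha hS).range, ∃ S : Module.End (ZMod q₀) (Additive (Q ⧸ Φ)),
      IsUnit S ∧ S * T = T ^ ((b : ZMod p).val) * S := by
    rintro _ ⟨y, rfl⟩
    obtain ⟨y', hy', hal⟩ := hcov y
    obtain ⟨d, hd, hdN⟩ := hw.transport y' hy'
    rw [← hal]
    set z : N := ⟨d * (y' : G), hdN⟩
    refine ⟨σ z, (Group.isUnit z).map σ, ?_⟩
    rw [hTdef, ← map_pow, ← map_mul, ← map_mul]
    congr 1
    refine Subtype.ext ?_
    show d * (y' : G) * x = ((xN ^ ((CyclicDefect.alpha hS y' : ZMod p).val) : N) : G) * (d * (y' : G))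
    rw [SubmonoidClass.coe_pow]
    have h1 := alpha_spec hS y' 1
    rw [hS.pw_one, mul_one, mul_inv_eq_iff_eq_mul] at h1
    show d * (y' : G) * x = x ^ _ * (d * (y' : G))
    rw [mul_assoc, h1, ← mul_assoc, ← mul_assoc]
    exact congrArg (· * (y' : G)) ((hd.pow_left _).symm.eq)
  have hbound := pow_card_le_card_range T hpz hTp hT1 _ hA
  rw [Nat.card_zmod, ← Subgroup.index_ker, ker_alpha hS] at hbound
  -- the arithmetic
  have hle := hbound.trans hrange
  rw [hi] at hle
  have hei : (K x L).index ≤ i := (Nat.pow_le_pow_iff_right hw.prime.two_le).mp hle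
  have hmod : ((q₀ : ZMod p)) ^ i = 1 := by
    have h1 := hw.modEq
    rw [← hX, hi] at h1
    rw [← Nat.cast_pow, ← Nat.cast_one, ZMod.natCast_eq_natCast_iff', Nat.mod_eq_of_lt hp.one_lt, h1]
  have hord := Nat.le_of_dvd hi0 (orderOf_dvd_of_pow_eq_one hmod)
  have hord0 : 0 < orderOf (q₀ : ZMod p) := orderOf_pos_iff.mpr (isOfFinOrder_iff_pow_eq_one.mpr ⟨i, hi0, hmod⟩)
  have hbig := cover_arith h.par hp h.two_u h.hus h.par_us h.dvdu h.dvds
    (Nat.pos_of_ne_zero Subgroup.index_ne_zero_of_finite) hw.prime.two_le hei hord hord0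
  have hsm := hw.small
  rw [← hX, hi] at hsm
  have h5 : p ^ 2 ≤ 1 + n * p := hbig.trans hsm
  have h6 : (n + 2) * p ≤ p ^ 2 := by rw [sq]; exact Nat.mul_le_mul_right p h.n_le
  rw [add_mul] at h6
  have := hp.two_le
  omega

theorem fixSet_eq_of_covering [IsSimpleGroup G] (hI : Inside hS n B) (h : NB hS n u s C Bf D) (hrec : Rec p G)
    (hnc : ¬ IsMulCommutative G)
    (hcov : ∀ y : L, ∃ y' : L, (y' : G) ∈ Subgroup.normalizer (B : Set G) ∧
      CyclicDefect.alpha hS y' = CyclicDefect.alpha hS y) : fixSet p B = {P0 hS} := by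
  refine Set.eq_singleton_iff_unique_mem.mpr ⟨hI.P0_mem, fun Q hQ => ?_⟩
  by_contra hne
  obtain ⟨q₀, Q', hw⟩ := exists_wit hI h hrec hnc ⟨Q, hQ, hne⟩
  exact no_wit_of_covering h hcov hw

/-- A nontrivial Sylow subgroup of `K` fixes only `⟨x⟩`. -/
theorem fixSet_sylow_K [IsSimpleGroup G] (h : NB hS n u s C Bf D) (hrec : Rec p G) (hnc : ¬ IsMulCommutative G)
    (hn : Nat.card (Sylow p G) = 1 + n * p) {q : ℕ} [Fact q.Prime] (hq : q ∣ Nat.card (K x L))
    (R : Sylow q (K x L)) :
    fixSet p (((R : Subgroup (K x L)).map (K x L).subtype).map L.subtype) = {P0 hS} := by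
  haveI := hS.normal_K
  set R' := (R : Subgroup (K x L)).map (K x L).subtype
  have hR : R' ≤ K x L := Subgroup.map_subtype_le _
  refine fixSet_eq_of_covering ⟨hn, h.sep, Subgroup.map_mono hR, ?_⟩ h hrec hnc fun y => ?_
  · rw [Ne, Subgroup.map_eq_bot_iff_of_injective _ L.subtype_injective,
      Subgroup.map_eq_bot_iff_of_injective _ (K x L).subtype_injective]
    exact R.ne_bot_of_dvd_card hq
  · have htop := Sylow.normalizer_sup_eq_top R
    have hy : y ∈ Subgroup.normalizer (R' : Set L) ⊔ K x L := by rw [htop]; trivial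
    obtain ⟨a, ha, b, hb, rfl⟩ := Subgroup.mem_sup_of_normal_right.mp hy
    refine ⟨a, Subgroup.le_normalizer_map L.subtype ⟨a, ha, rfl⟩, ?_⟩
    rw [← ker_alpha hS, MonoidHom.mem_ker] at hb
    rw [map_mul, hb, mul_one]

end Cfsg.Agent.FewSylowClass
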