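/-
`K` acts semiregularly outside `⟨x⟩` and its order is prime to `e` (namespace `Cfsg.Agent.FewSylowClass`).

Main results: `prime_dvd_n`, `not_prime_dvd_index`, `fix_of_mem_K`.
-/
import Cfsg.Agent.Lib.FewSylowClass.Cover
import Cfsg.Agent.S4216

set_option autoImplicit false
set_option linter.unusedSectionVars false
set_option linter.style.haveILetI false

open scoped Pointwise commutatorElement

namespace Cfsg.Agent.FewSylowClass

open Cfsg Cfsg.Agent.Blocks Cfsg.Agent.CyclicDefect Cfsg.Agent.BrauerN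

universe v

variable {G : Type v} [Group G] [Finite G] {p : ℕ} [Fact p.Prime] {x : G} {L : Subgroup G}
  {hS : Setting p x L} {n u s : ℕ} {C Bf D : Finset (IrrCharacter G)}

/-- An invariant set without the fixed point of a Sylow subgroup has size divisible by `p`. -/
theorem dvd_ncard_of_smul_invariant (hS : Setting p x L) (Q : Sylow p G) (S : Set (Sylow p G))
    (hinv : ∀ g ∈ (Q : Subgroup G), ∀ R ∈ S, g • R ∈ S) (hQ : Q ∉ S) : p ∣ S.ncard := by
  refine dvd_ncard_of_orbits (J := (Q : Subgroup G)) S (fun R hR R' hR' => ?_) fun R hR => ?_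
  · obtain ⟨g, rfl⟩ := hR'
    exact hinv g g.2 R hR
  · rw [← MulAction.index_stabilizer]
    have h1 := (MulAction.stabilizer (Q : Subgroup G) R).index_dvd_card
    rw [card_sylow_eq hS] at h1
    rcases (Nat.dvd_prime hS.hp).mp h1 with h2 | h2
    · exfalso
      rw [Subgroup.index_eq_one] at h2
      obtain ⟨g, hg, hQg⟩ := exists_conj hS Q
      have hm : g * x * g⁻¹ ∈ (Q : Subgroup G) := hQg ▸ Subgroup.mem_zpowers _
      have hstab : (⟨_, hm⟩ : (Q : Subgroup G)) ∈ MulAction.stabilizer (Q : Subgroup G) R := by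
        rw [h2]; trivial
      have hfix : (g * x * g⁻¹) • R = R := MulAction.mem_stabilizer_iff.mp hstab
      exact hQ ((Sylow.ext ((mem_of_orderOf hS (orderOf_conj hS g) hfix).trans hQg.symm) : R = Q) ▸ hR)
    · rw [h2]

/-- Commutators in the normalizer of `⟨x⟩` centralize `x`. -/
theorem commute_of_mem_commutator (hS : Setting p x L) {z : G}
    (hz : z ∈ ⁅Subgroup.normalizer (Subgroup.zpowers x : Set G), Subgroup.normalizer (Subgroup.zpowers x : Set G)⁆) :
    Commute x z := by
  suffices h : ⁅Subgroup.normalizer (Subgroup.zpowers x : Set G), Subgroup.normalizer (Subgroup.zpowers x : Set G)⁆ ≤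
      Subgroup.centralizer ({x} : Set G) from (Subgroup.mem_centralizer_singleton_iff.mp (h hz)).symm
  rw [Subgroup.commutator_le]
  have key : ∀ a ∈ Subgroup.normalizer (Subgroup.zpowers x : Set G), ∃ c : ZMod p, ∀ i, a * pw x i * a⁻¹ = pw x (c * i) := by
    intro a ha
    obtain ⟨c, hc⟩ := hS.exists_pw ((Subgroup.mem_normalizer_iff.mp ha x).mp (Subgroup.mem_zpowers x))
    exact ⟨c, fun i => hS.conj_pw hc i⟩
  intro a ha b hb
  obtain ⟨c, hc⟩ := key a ha
  obtain ⟨c', hc'⟩ := key a⁻¹ (inv_mem ha)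
  obtain ⟨d, hd⟩ := key b hb
  obtain ⟨d', hd'⟩ := key b⁻¹ (inv_mem hb)
  have hcc : c * c' = 1 := by
    refine hS.pw_inj ?_
    rw [← mul_one (c * c'), mul_assoc, ← hc, ← hc']
    group
  have hdd : d * d' = 1 := by
    refine hS.pw_inj ?_
    rw [← mul_one (d * d'), mul_assoc, ← hd, ← hd']
    group
  rw [Subgroup.mem_centralizer_singleton_iff]
  have h1 : ⁅a, b⁆ * pw (p := p) x 1 * ⁅a, b⁆⁻¹ = pw (p := p) x 1 := by
    rw [commutatorElement_def, show a * b * a⁻¹ * b⁻¹ * pw (p := p) x 1 * (a * b * a⁻¹ * b⁻¹)⁻¹ =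
      a * (b * (a⁻¹ * (b⁻¹ * pw (p := p) x 1 * b⁻¹⁻¹) * a⁻¹⁻¹) * b⁻¹) * a⁻¹ by group, hd', hc', hd, hc]
    congr 1
    rw [show c * (d * (c' * (d' * 1))) = (c * c') * (d * d') by ring, hcc, hdd, one_mul]
  rw [hS.pw_one, mul_inv_eq_iff_eq_mul] at h1
  exact h1

theorem prime_ne (hS : Setting p x L) {q : ℕ} (hq : q ∣ Nat.card (K x L)) : q ≠ p :=
  fun h => hS.not_dvd_card_K (h ▸ hq)

variable [IsSimpleGroup G] (h : NB hS n u s C Bf D) (hrec : Rec p G) (hnc : ¬ IsMulCommutative G)
  (hn : Nat.card (Sylow p G) = 1 + n * p)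
include h hrec hnc hn

theorem prime_dvd_n {q : ℕ} (hq : q.Prime) (hd : q ∣ Nat.card (K x L)) : q ∣ n := by
  haveI := Fact.mk hq
  obtain ⟨R⟩ : Nonempty (Sylow q (K x L)) := inferInstance
  set B := ((R : Subgroup (K x L)).map (K x L).subtype).map L.subtype
  have hB : IsPGroup q B := (R.isPGroup'.map _).map _
  have h1 := hB.card_modEq_card_fixedPoints (Sylow p G)
  have hfix : MulAction.fixedPoints B (Sylow p G) = fixSet p B := by
    ext Q
    exact ⟨fun hQ b hb => hQ ⟨b, hb⟩, fun hQ b => hQ b b.2⟩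
  have h3 : fixSet p B = {P0 hS} := fixSet_sylow_K h hrec hnc hn hd R
  rw [Nat.card_coe_set_eq, hfix, h3, Set.ncard_singleton, hn] at h1
  have h2 : q ∣ n * p := by
    have := (Nat.modEq_iff_dvd' (by omega)).mp h1.symm
    rwa [Nat.add_sub_cancel_left] at this
  exact (hq.dvd_mul.mp h2).resolve_right fun h2 =>
    prime_ne hS hd ((Nat.prime_dvd_prime_iff_eq hq hS.hp).mp h2)

theorem not_prime_dvd_index (hperf : commutator G = ⊤) {q : ℕ} (hq : q.Prime) (hd : q ∣ Nat.card (K x L)) :
    ¬ q ∣ (K x L).index := by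
  classical
  intro hde
  haveI := Fact.mk hq
  haveI := hS.normal_K
  obtain ⟨R⟩ : Nonempty (Sylow q (K x L)) := inferInstance
  obtain ⟨R₁, hR₁⟩ := (R.isPGroup'.map (K x L).subtype).exists_le_sylow
  have hqn := prime_dvd_n h hrec hnc hn hq hd
  have hcard : Nat.card ((R₁ : Subgroup L).map L.subtype) = q ^ (Nat.card G).factorization q := by
    rw [Subgroup.card_map_of_injective L.subtype_injective, R₁.card_eq_multiplicity, card_G hS hn,
      Nat.factorization_mul (Nat.mul_ne_zero hS.hp.ne_zero Nat.card_pos.ne') (by omega),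
      Nat.factorization_mul hS.hp.ne_zero Nat.card_pos.ne', Finsupp.add_apply, Finsupp.add_apply,
      Nat.factorization_eq_zero_of_not_dvd (n := p) (fun h2 =>
        prime_ne hS hd ((Nat.prime_dvd_prime_iff_eq hq hS.hp).mp h2)),
      Nat.factorization_eq_zero_of_not_dvd (n := 1 + n * p) (fun h2 => hq.not_dvd_one
        ((Nat.dvd_add_left (hqn.mul_right p)).mp h2)), zero_add, add_zero]
  let T : Sylow q G := Sylow.ofCard ((R₁ : Subgroup L).map L.subtype) hcard
  have hTL : (T : Subgroup G) ≤ L := Subgroup.map_subtype_le _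
  have hnorm : Subgroup.normalizer ((T : Subgroup G) : Set G) ≤ Subgroup.normalizer (Subgroup.zpowers x : Set G) := by
    intro g hg
    have hP : P0 hS ∈ fixSet p (T : Subgroup G) := fun b hb =>
      Sylow.smul_eq_iff_mem_normalizer.mpr (hS.hL (hTL hb))
    have hgP : g • P0 hS ∈ fixSet p (((R : Subgroup (K x L)).map (K x L).subtype).map L.subtype) := by
      intro b hb
      have hbT : b ∈ (T : Subgroup G) := Subgroup.map_mono hR₁ hb
      have h1 := (Subgroup.mem_normalizer_iff.mp (inv_mem hg) b).mp hbT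
      rw [inv_inv] at h1
      rw [← mul_smul, show b * g = g * (g⁻¹ * b * g) by group, mul_smul, hP _ h1]
    rw [fixSet_sylow_K h hrec hnc hn hd R, Set.mem_singleton_iff] at hgP
    exact Sylow.smul_eq_iff_mem_normalizer.mp hgP
  have hcom : ∀ z ∈ (T : Subgroup G),
      z ∈ ⁅Subgroup.normalizer (Subgroup.zpowers x : Set G), Subgroup.normalizer (Subgroup.zpowers x : Set G)⁆ →
      z ∈ (K x L).map L.subtype := fun z hz hzc =>
    ⟨⟨z, hTL hz⟩, mem_K.mpr (commute_of_mem_commutator hS hzc), rfl⟩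
  have hle : (T : Subgroup G) ≤ (K x L).map L.subtype := by
    have h1 := S4216.inf_commutator_le_gruen T
    rw [hperf, inf_top_eq] at h1
    refine h1.trans (sup_le ?_ (iSup_le fun g => ?_))
    · intro z hz
      exact hcom z hz.1 (Subgroup.commutator_mono hnorm hnorm hz.2)
    · rintro z ⟨hzT, w, hw, rfl⟩
      have hTT : ⁅(T : Subgroup G), (T : Subgroup G)⁆ ≤ (T : Subgroup G) := Subgroup.commutator_le.mpr
        fun a ha b hb => by
          rw [commutatorElement_def]
          exact mul_mem (mul_mem (mul_mem ha hb) (inv_mem ha)) (inv_mem hb)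
      have hwT : w ∈ (T : Subgroup G) := hTT hw
      obtain ⟨w', hw', hww⟩ := hcom w hwT (Subgroup.commutator_mono
        (Subgroup.le_normalizer.trans hnorm) (Subgroup.le_normalizer.trans hnorm) hw)
      exact ⟨⟨_, hTL hzT⟩, h.sep w' ⟨_, hTL hzT⟩ hw' (isConj_iff.mpr ⟨g⁻¹, by
        show g⁻¹ * (g * w * g⁻¹) * g⁻¹⁻¹ = ((w' : L) : G)
        rw [show ((w' : L) : G) = w from hww]
        group⟩), rfl⟩
  have hle' : (R₁ : Subgroup L) ≤ K x L := (Subgroup.map_le_map_iff_of_injective L.subtype_injective).mp hle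
  have h2 : q ∣ (R₁ : Subgroup L).index := hde.trans (Subgroup.index_dvd_of_le hle')
  exact Sylow.not_dvd_index' R₁ Subgroup.index_ne_zero_of_finite h2

set_option maxHeartbeats 800000 in
theorem fix_of_prime (hperf : commutator G = ⊤) {q : ℕ} (hq : q.Prime) {w : L} (hw : w ∈ K x L)
    (ho : orderOf (w : G) = q) : fixSet p (Subgroup.zpowers (w : G)) = {P0 hS} := by
  classical
  have hp := hS.hp
  haveI := hS.normal_K
  set B := Subgroup.zpowers (w : G) with hBdef
  have hI : Inside hS n B := ⟨hn, h.sep, Subgroup.zpowers_le.mpr ⟨w, hw, rfl⟩, fun hb =>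
    hq.ne_one (by rw [← ho, orderOf_eq_one_iff]; exact Subgroup.zpowers_eq_bot.mp hb)⟩
  refine Set.eq_singleton_iff_unique_mem.mpr ⟨hI.P0_mem, fun Q₀ hQ₀ => ?_⟩
  by_contra hne
  obtain ⟨n', hn', hlt⟩ := hI.exists_small hnc
  obtain ⟨q₀, Q, hwit⟩ := exists_wit hI h hrec hnc ⟨Q₀, hQ₀, hne⟩
  haveI := Fact.mk hwit.prime
  obtain ⟨a, ha⟩ := hwit.card
  have hQp : IsPGroup q₀ Q := IsPGroup.of_card ha
  have hnp := h.n_le
  have hqK : q ∣ Nat.card (K x L) := by
    rw [← ho, Subgroup.orderOf_coe]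
    exact Subgroup.orderOf_dvd_natCard _ hw
  have ha0 : a ≠ 0 := fun h0 => hwit.moved (by
    have hd : (Q ⊓ Subgroup.centralizer ({x} : Set G)).relIndex Q ∣ Nat.card Q := Subgroup.relIndex_dvd_card _ _
    rw [ha, h0, pow_zero, Nat.dvd_one] at hd
    exact hd)
  have hq0p : q₀ ≠ p := fun he => hwit.regular (by rw [ha, he]; exact dvd_pow_self p ha0)
  by_cases hk : q₀ ∣ Nat.card (K x L)
  · -- `Q` centralizes some Sylow subgroup
    obtain ⟨R⟩ : Nonempty (Sylow q₀ (K x L)) := inferInstance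
    set R' := ((R : Subgroup (K x L)).map (K x L).subtype).map L.subtype with hR'
    have hqn := prime_dvd_n h hrec hnc hn hwit.prime hk
    have hqe := not_prime_dvd_index h hrec hnc hn hperf hwit.prime hk
    have hcard : Nat.card R' = q₀ ^ (Nat.card G).factorization q₀ := by
      rw [Subgroup.card_map_of_injective L.subtype_injective,
        Subgroup.card_map_of_injective (K x L).subtype_injective, R.card_eq_multiplicity, card_G hS hn,
        ← (K x L).card_mul_index, Nat.factorization_mul (Nat.mul_ne_zero hS.hp.ne_zero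
          (Nat.mul_ne_zero Nat.card_pos.ne' Subgroup.index_ne_zero_of_finite)) (by omega),
        Nat.factorization_mul hS.hp.ne_zero (Nat.mul_ne_zero Nat.card_pos.ne' Subgroup.index_ne_zero_of_finite),
        Nat.factorization_mul Nat.card_pos.ne' Subgroup.index_ne_zero_of_finite, Finsupp.add_apply, Finsupp.add_apply,
        Finsupp.add_apply,
        Nat.factorization_eq_zero_of_not_dvd (n := p) (fun h2 =>
          hq0p ((Nat.prime_dvd_prime_iff_eq hwit.prime hp).mp h2)),
        Nat.factorization_eq_zero_of_not_dvd (n := 1 + n * p) (fun h2 => hwit.prime.not_dvd_one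
          ((Nat.dvd_add_left (hqn.mul_right p)).mp h2)),
        Nat.factorization_eq_zero_of_not_dvd hqe, zero_add, add_zero, add_zero]
    let T : Sylow q₀ G := Sylow.ofCard R' hcard
    obtain ⟨T', hT'⟩ := hQp.exists_le_sylow
    obtain ⟨g, hg⟩ := MulAction.exists_smul_eq G T T'
    have hcent : ∀ c ∈ Q, c • (g • P0 hS) = g • P0 hS := by
      intro c hc
      have hc' : c ∈ ((g • T : Sylow q₀ G) : Subgroup G) := hg ▸ hT' hc
      rw [Sylow.coe_subgroup_smul, Subgroup.mem_pointwise_smul_iff_inv_smul_mem, ← map_inv, MulAut.smul_def,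
        MulAut.conj_apply, inv_inv] at hc'
      obtain ⟨l, ⟨l', -, rfl⟩, hl⟩ := hc'
      rw [← mul_smul, show c * g = g * (g⁻¹ * c * g) by group, mul_smul]
      congr 1
      rw [Sylow.smul_eq_iff_mem_normalizer, ← hl]
      exact hS.hL ((l' : K x L) : L).2
    set S : Set (Sylow p G) := fixSet p Q with hSdef
    have hgS : g • P0 hS ∈ S := hcent
    have hP0 : P0 hS ∉ S := by
      intro hmem
      refine hwit.moved (Subgroup.relIndex_eq_one.mpr (le_inf le_rfl fun c hc => ?_))
      have hcn : c ∈ Subgroup.normalizer (Subgroup.zpowers x : Set G) := Sylow.smul_eq_iff_mem_normalizer.mp (hmem c hc)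
      have hb : c * x * c⁻¹ * x⁻¹ ∈ Subgroup.zpowers x ⊓ Q := by
        refine ⟨(Subgroup.zpowers x).mul_mem ((Subgroup.mem_normalizer_iff.mp hcn x).mp (Subgroup.mem_zpowers x))
          ((Subgroup.zpowers x).inv_mem (Subgroup.mem_zpowers x)), ?_⟩
        rw [show c * x * c⁻¹ * x⁻¹ = c * (x * c⁻¹ * x⁻¹) by group]
        exact Q.mul_mem hc ((Subgroup.mem_normalizer_iff.mp (hwit.norm (Subgroup.mem_zpowers x)) _).mp (Q.inv_mem hc))
      have hbot : Subgroup.zpowers x ⊓ Q = ⊥ := (Subgroup.disjoint_of_coprime_natCard (by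
        rw [hS.card_zpowers_eq]
        exact hp.coprime_iff_not_dvd.mpr hwit.regular)).eq_bot
      rw [hbot, Subgroup.mem_bot, mul_inv_eq_one, mul_inv_eq_iff_eq_mul] at hb
      exact Subgroup.mem_centralizer_singleton_iff.mpr hb
    have h1 : p ∣ S.ncard := by
      refine dvd_ncard_of_smul_invariant hS (P0 hS) S (fun b hb R hR c hc => ?_) hP0
      have h2 := (Subgroup.mem_normalizer_iff.mp (inv_mem (hwit.norm hb)) c).mp hc
      rw [inv_inv] at h2
      rw [← mul_smul, show c * b = b * (b⁻¹ * c * b) by group, mul_smul, hR _ h2]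
    have h2 : p ∣ (S \ {g • P0 hS}).ncard := by
      refine dvd_ncard_of_smul_invariant hS (g • P0 hS) _ (fun b hb R hR => ⟨fun c hc => ?_, ?_⟩)
        (fun hh => hh.2 rfl)
      · have hcb : Commute c b := by
          have hb' : g⁻¹ * b * g ∈ Subgroup.zpowers x := by
            rw [Sylow.coe_subgroup_smul, Subgroup.mem_pointwise_smul_iff_inv_smul_mem, ← map_inv, MulAut.smul_def,
              MulAut.conj_apply, inv_inv] at hb
            exact hb
          have hc' : c ∈ ((g • T : Sylow q₀ G) : Subgroup G) := hg ▸ hT' hc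
          rw [Sylow.coe_subgroup_smul, Subgroup.mem_pointwise_smul_iff_inv_smul_mem, ← map_inv, MulAut.smul_def,
            MulAut.conj_apply, inv_inv] at hc'
          obtain ⟨l, ⟨l', -, rfl⟩, hl⟩ := hc'
          obtain ⟨j, hj⟩ := Subgroup.mem_zpowers_iff.mp hb'
          have h3 : Commute (g⁻¹ * b * g) (g⁻¹ * c * g) := by
            rw [← hj, ← hl]
            exact (hS.commute_K l').zpow_left j
          calc c * b = g * ((g⁻¹ * c * g) * (g⁻¹ * b * g)) * g⁻¹ := by group
            _ = g * ((g⁻¹ * b * g) * (g⁻¹ * c * g)) * g⁻¹ := by rw [h3.eq]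
            _ = b * c := by group
        rw [← mul_smul, hcb.eq, mul_smul, hR.1 c hc]
      · intro hb'
        refine hR.2 (Set.mem_singleton_iff.mpr (MulAction.injective b ?_))
        show b • R = b • (g • P0 hS)
        rw [Set.mem_singleton_iff.mp hb']
        exact (Sylow.smul_eq_iff_mem_normalizer.mpr (Subgroup.le_normalizer hb)).symm
    have h3 := Set.ncard_diff_singleton_add_one hgS (Set.toFinite _)
    rw [← h3] at h1
    exact hp.not_dvd_one ((Nat.dvd_add_right h2).mp h1)
  · -- the orbits of `⟨w⟩ × Q ⟨x⟩` are too long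
    have hbot : Q ⊓ Subgroup.centralizer ({x} : Set G) = ⊥ := by
      rw [Subgroup.eq_bot_iff_forall]
      rintro c ⟨hcQ, hcx⟩
      obtain ⟨j, hj⟩ := IsPGroup.iff_orderOf.mp hQp ⟨c, hcQ⟩
      rw [← Subgroup.orderOf_coe] at hj
      replace hj : orderOf c = q₀ ^ j := hj
      obtain ⟨k, hkc⟩ := hS.exists_K_of_regular (Subgroup.mem_centralizer_singleton_iff.mp hcx).symm (fun hd => hwit.regular
        (hd.trans (Subgroup.orderOf_dvd_natCard Q hcQ)))
      rcases Nat.eq_zero_or_pos j with rfl | hj0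
      · rw [pow_zero, orderOf_eq_one_iff] at hj
        exact hj
      · refine absurd ?_ hk
        refine (dvd_pow_self q₀ hj0.ne').trans ?_
        rw [← hj, hkc, Subgroup.orderOf_coe, Subgroup.orderOf_coe]
        exact orderOf_dvd_natCard k
    have hrel := hwit.modEq
    rw [hbot, Subgroup.relIndex_bot_left] at hrel
    obtain ⟨j, hj⟩ : ∃ j, Nat.card Q = 1 + j * p := ⟨Nat.card Q / p, by
      have := Nat.mod_add_div (Nat.card Q) p
      rw [hrel, mul_comm p] at this
      exact this.symm⟩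
    have hj1 : 1 ≤ j := by
      by_contra h0
      obtain rfl : j = 0 := by omega
      refine hwit.moved ?_
      rw [hbot, Subgroup.relIndex_bot_left, hj, zero_mul, add_zero]
    set T := Q ⊔ Subgroup.zpowers x with hT
    have hTle : T ≤ Subgroup.centralizer (B : Set G) := by
      refine sup_le hwit.le (Subgroup.zpowers_le.mpr ?_)
      rw [Subgroup.mem_centralizer_iff]
      exact fun b hb => (hI.x_comm hb).eq.symm
    have hTN : T ≤ Subgroup.normalizer (Q : Set G) := sup_le Subgroup.le_normalizer hwit.norm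
    haveI hQn : (Q.subgroupOf T).Normal := Subgroup.normal_subgroupOf_of_le_normalizer hTN
    have hdisj : Q ⊓ Subgroup.zpowers x = ⊥ := (Subgroup.disjoint_of_coprime_natCard (by
      rw [hS.card_zpowers_eq]
      exact (hp.coprime_iff_not_dvd.mpr hwit.regular).symm)).eq_bot
    have hcardT : Nat.card T = Nat.card Q * p := by
      have h1 := Coprime.card_mul_inf Q (Subgroup.zpowers x)
      rw [hdisj, Subgroup.card_bot, mul_one, hS.card_zpowers_eq,
        ← Subgroup.coe_mul_of_right_le_normalizer_left _ _ hwit.norm] at h1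
      exact h1
    obtain ⟨Q₁, hQ₁⟩ : ∃ Q₁, Q₁ ∉ fixSet p B := by
      by_contra hc
      push Not at hc
      rw [Set.eq_univ_of_forall hc, Set.ncard_univ, hn] at hn'
      have := Nat.eq_of_mul_eq_mul_right hp.pos (Nat.add_left_cancel hn')
      omega
    obtain ⟨hlen, Y, hYp, -, hY2, hYb⟩ := (hI.orbit_info hTle hn').1 Q₁ hQ₁
    -- `Y ≤ Q`
    have hYQ : ∀ y ∈ Y, (y : G) ∈ Q := by
      intro y hy
      have hidx : (Q.subgroupOf T).index = p := by
        refine Nat.eq_of_mul_eq_mul_left (Nat.card_pos (α := Q.subgroupOf T)) ?_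
        rw [(Q.subgroupOf T).card_mul_index, hcardT,
          Nat.card_congr (Subgroup.subgroupOfEquivOfLe (le_sup_left : Q ≤ T)).toEquiv]
      have h1 : orderOf ((y : T) : T ⧸ Q.subgroupOf T) ∣ p := hidx ▸ orderOf_dvd_natCard _
      have h2 : orderOf ((y : T) : T ⧸ Q.subgroupOf T) ∣ Nat.card Y :=
        (orderOf_map_dvd (QuotientGroup.mk' _) y).trans (Subgroup.orderOf_dvd_natCard Y hy)
      have h3 := Nat.eq_one_of_dvd_coprimes (hp.coprime_iff_not_dvd.mpr hYp) h1 h2
      rw [orderOf_eq_one_iff, QuotientGroup.eq_one_iff, Subgroup.mem_subgroupOf] at h3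
      exact h3
    set D₀ := Q ⊓ MulAction.stabilizer G Q₁ with hD₀
    have hYD : Nat.card Y ≤ Nat.card D₀ := by
      rw [← Subgroup.card_map_of_injective T.subtype_injective]
      refine Subgroup.card_le_of_le ?_
      rintro _ ⟨y, hy, rfl⟩
      obtain ⟨b, hb, hbQ⟩ := hYb y hy
      refine ⟨hYQ y hy, ?_⟩
      have hcom : Commute (y : G) b := (Subgroup.mem_centralizer_iff.mp (hTle y.2) b hb).symm
      have hbq : b ^ q = 1 := by
        rw [← ho, ← Nat.card_zpowers]
        have := pow_card_eq_one' (x := (⟨b, hb⟩ : B))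
        exact congrArg Subtype.val this
      have hfix : (y : G) ^ q ∈ MulAction.stabilizer G Q₁ := by
        have h4 : ((y : G) * b) ^ q ∈ MulAction.stabilizer G Q₁ := Subgroup.pow_mem _ hbQ _
        rwa [hcom.mul_pow, hbq, mul_one] at h4
      have hcopq : (orderOf (y : G)).Coprime q := by
        obtain ⟨i, hi⟩ := IsPGroup.iff_orderOf.mp hQp ⟨(y : G), hYQ y hy⟩
        rw [← Subgroup.orderOf_coe] at hi
        rw [hi]
        exact Nat.Coprime.pow_left _ ((Nat.coprime_primes hwit.prime hq).mpr fun he => hk (he ▸ hqK))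
      obtain ⟨i, hi⟩ := exists_pow_eq_self_of_coprime (Nat.Coprime.symm hcopq)
      have h5 := Subgroup.pow_mem _ hfix i
      rwa [hi] at h5
    have hDe : Nat.card D₀ ∣ (K x L).index := by
      obtain ⟨g, hg, -⟩ := exists_conj hS Q₁
      have h1 : Nat.card D₀ ∣ p * Nat.card L := by
        rw [← hS.card_normalizer]
        refine (Subgroup.card_dvd_of_le inf_le_right).trans (dvd_of_eq ?_)
        rw [← hg, MulAction.stabilizer_smul_eq_stabilizer_map_conj,
          Subgroup.card_map_of_injective (MulAut.conj g).injective]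
        congr 1
        exact Sylow.stabilizer_eq_normalizer (P0 hS) ▸ rfl
      obtain ⟨i, hi⟩ := IsPGroup.iff_card.mp (hQp.to_le (inf_le_left : D₀ ≤ Q))
      rw [hi] at h1 ⊢
      rw [← (K x L).card_mul_index, ← mul_assoc] at h1
      refine (Nat.Coprime.pow_left i ?_).dvd_of_dvd_mul_left h1
      exact Nat.Coprime.mul_right ((Nat.coprime_primes hwit.prime hp).mpr hq0p)
        (hwit.prime.coprime_iff_not_dvd.mpr hk)
    have hDj : Nat.card D₀ ∣ j + 1 := by
      have h1 : Nat.card D₀ ∣ 1 + j * p := hj ▸ Subgroup.card_dvd_of_le inf_le_left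
      have h2 : Nat.card D₀ ∣ j * (p - 1) := (hDe.trans (index_K_dvd hS)).mul_left j
      have h3 : 1 + j * p = j * (p - 1) + (j + 1) := by
        rw [Nat.mul_sub, mul_one]
        have := Nat.mul_le_mul_left j hp.one_le
        omega
      exact (Nat.dvd_add_right h2).mp (h3 ▸ h1)
    have hYj := hYD.trans (Nat.le_of_dvd (by omega) hDj)
    have hmul : Y.index * Nat.card Y = Nat.card Q * p := by rw [Y.index_mul_card, hcardT]
    have e1 : 2 * (1 + j * p) * p ≤ (n - n') * p * (j + 1) := by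
      rw [← hj, mul_assoc, ← hmul, ← mul_assoc]
      exact Nat.mul_le_mul (hY2.trans hlen) hYj
    have e2 : 2 * (1 + j * p) ≤ (p - 2) * (j + 1) := by
      refine le_trans (Nat.le_of_mul_le_mul_right ?_ hp.pos) (Nat.mul_le_mul_right (j + 1) (show n - n' ≤ p - 2 by omega))
      rw [show (n - n') * (j + 1) * p = (n - n') * p * (j + 1) by ring]
      exact e1
    obtain ⟨p', rfl⟩ : ∃ p', p = p' + 2 := ⟨p - 2, by omega⟩
    rw [Nat.add_sub_cancel] at e2
    nlinarith

/-- Every nontrivial element of `K` fixes only `⟨x⟩`. -/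
theorem fix_of_mem_K (hperf : commutator G = ⊤) {w : L} (hw : w ∈ K x L) (hw1 : w ≠ 1) {Q : Sylow p G}
    (hQ : (w : G) • Q = Q) : Q = P0 hS := by
  have ho : orderOf (w : G) ≠ 1 := fun h1 => hw1 (Subtype.ext (orderOf_eq_one_iff.mp h1))
  obtain ⟨q, hq, hd⟩ := Nat.exists_prime_and_dvd ho
  obtain ⟨i, hi⟩ := hd
  have hwi : (w ^ i : L) ∈ K x L := Subgroup.pow_mem _ hw i
  have horder : orderOf ((w ^ i : L) : G) = q := by
    rw [SubmonoidClass.coe_pow, orderOf_pow' _ (by rintro rfl; rw [Nat.mul_zero] at hi; exact (orderOf_pos (w : G)).ne' hi), hi,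
      Nat.gcd_eq_right (dvd_mul_left _ _), Nat.mul_div_cancel _ (Nat.pos_of_ne_zero fun h0 => by
        rw [h0, mul_zero] at hi; exact (orderOf_pos (w : G)).ne' hi)]
  have hfix := fix_of_prime h hrec hnc hn hperf hq hwi horder
  have hmem : Q ∈ fixSet p (Subgroup.zpowers ((w ^ i : L) : G)) := by
    intro b hb
    obtain ⟨j, rfl⟩ := Subgroup.mem_zpowers_iff.mp hb
    have h1 : (w : G) ∈ MulAction.stabilizer G Q := hQ
    exact MulAction.mem_stabilizer_iff.mp (Subgroup.zpow_mem _ (by
      rw [SubmonoidClass.coe_pow]; exact Subgroup.pow_mem _ h1 i) j)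
  rw [hfix] at hmem
  exact hmem

end Cfsg.Agent.FewSylowClass
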