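/-
The order of `K` when it acts semiregularly (namespace `Cfsg.Agent.FewSylowClass`).

Main results: `sum_sq_le`, `card_K_dvd`, `card_K_eq`.
-/
import Cfsg.Agent.Lib.FewSylowClass.Semiregular

set_option autoImplicit false
set_option linter.unusedSectionVars false
set_option linter.style.haveILetI false

open scoped ComplexConjugate Pointwise

namespace Cfsg.Agent.FewSylowClass

open Cfsg Cfsg.Agent.Blocks Cfsg.Agent.CyclicDefect Cfsg.Agent.BrauerN

variable {G : Type*} [Group G] [Finite G] {p : ℕ} [Fact p.Prime] {x : G} {L : Subgroup G}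
  {M : Ideal AlgInt} {hS : Setting p x L} {n u s : ℕ} {A C B D X : Finset (IrrCharacter G)} {f₀ m₀ : ℕ} {ε : ℤ}

open scoped Classical in
/-- A value `±1 + p ν` with `ν` a nonzero integral value is large on the average. -/
theorem sum_sq_ge (hS : Setting p x L) {φ : L → ℂ} (hφ : IsCharacter L φ) {d : ℕ} (hd : φ 1 = (d : ℂ)) (c : ℤ)
    {q : ℕ} [hq : Fact q.Prime] {w : L} (ho : orderOf w = q) (hqd : ¬ (q : ℤ) ∣ (d : ℤ) - c)
    {χ : G → ℂ} {δ : ℤ} (hδ : δ = 1 ∨ δ = -1) [Fintype L]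
    (hval : ∀ v : L, v ∈ Subgroup.zpowers w → χ (v : G) = (δ : ℂ) + p * (φ v - (c : ℂ))) :
    (((Finset.univ.filter fun v : L => v ∈ Subgroup.zpowers w ∧ v ≠ 1).card : ℝ)) * ((p : ℝ) - 1) ^ 2 ≤
      ∑ v ∈ Finset.univ.filter (fun v : L => v ∈ Subgroup.zpowers w ∧ v ≠ 1), ‖χ (v : G)‖ ^ 2 := by
  classical
  set S := Finset.univ.filter (fun v : L => v ∈ Subgroup.zpowers w ∧ v ≠ 1) with hSdef
  have hS' : ∀ v ∈ S, v ∈ Subgroup.zpowers w ∧ v ≠ 1 := fun v hv => (Finset.mem_filter.mp hv).2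
  have hcy : GaloisAvg.CycloValued fun v : L => φ v - (c : ℂ) := by
    intro v
    obtain ⟨P, hP'⟩ := GaloisAvg.cycloValued_character hφ v
    exact ⟨P - Polynomial.C c, fun k => by simp [hP' k]⟩
  have hclosed : ∀ v ∈ S, ∀ k : ℕ, k.Coprime (Nat.card L) → v ^ k ∈ S := by
    intro v hv k hk
    refine Finset.mem_filter.mpr ⟨Finset.mem_univ _, Subgroup.pow_mem _ (hS' v hv).1 _, fun h1 => (hS' v hv).2 ?_⟩
    have h2 : orderOf v ∣ k := orderOf_dvd_of_pow_eq_one h1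
    exact orderOf_eq_one_iff.mp (Nat.eq_one_of_dvd_coprimes hk h2 (orderOf_dvd_natCard v))
  have hne : ∀ v ∈ S, φ v - (c : ℂ) ≠ 0 := by
    intro v hv h0
    refine hqd (dvd_sub_of_apply_eq hφ (g := v) (k := 1) ?_ hd (sub_eq_zero.mp h0))
    rw [pow_one, ← orderOf_dvd_iff_pow_eq_one, ← ho]
    exact (Subgroup.orderOf_dvd_natCard _ (hS' v hv).1).trans (Nat.card_zpowers w).dvd
  have h1 := GaloisAvg.card_le_sum_norm_pow hcy S hclosed hne 2
  have hp1 : (1 : ℝ) ≤ (p : ℝ) := by exact_mod_cast hS.hp.one_le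
  have hterm : ∀ v ∈ S, ((p : ℝ) ^ 2 - p) * ‖φ v - (c : ℂ)‖ ^ 2 + (1 - p) ≤ ‖χ (v : G)‖ ^ 2 := by
    intro v hv
    rw [hval v (hS' v hv).1]
    set ν := φ v - (c : ℂ)
    have h2 : (p : ℝ) * ‖ν‖ - 1 ≤ ‖(δ : ℂ) + (p : ℂ) * ν‖ := by
      have h3 := norm_sub_le ((δ : ℂ) + (p : ℂ) * ν) (δ : ℂ)
      rw [add_sub_cancel_left, norm_mul, Complex.norm_natCast] at h3
      have h4 : ‖(δ : ℂ)‖ = 1 := by rcases hδ with rfl | rfl <;> simp
      rw [h4] at h3
      linarith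
    have h5 : (0 : ℝ) ≤ ‖ν‖ := norm_nonneg _
    have h6 : (0 : ℝ) ≤ ‖(δ : ℂ) + (p : ℂ) * ν‖ := norm_nonneg _
    rcases le_or_gt ((p : ℝ) * ‖ν‖) 1 with hle | hgt
    · have hνν : (p : ℝ) * ‖ν‖ * ((p : ℝ) * ‖ν‖) ≤ 1 := mul_le_one₀ hle (by positivity) hle
      nlinarith
    · have h7 : ((p : ℝ) * ‖ν‖ - 1) ^ 2 ≤ ‖(δ : ℂ) + (p : ℂ) * ν‖ ^ 2 := pow_le_pow_left₀ (by linarith) h2 2
      nlinarith [mul_nonneg (by linarith : (0 : ℝ) ≤ p) (sq_nonneg (‖ν‖ - 1))]
  refine le_trans ?_ (Finset.sum_le_sum hterm)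
  rw [Finset.sum_add_distrib, ← Finset.mul_sum, Finset.sum_const, nsmul_eq_mul]
  have h8 := mul_le_mul_of_nonneg_left h1 (show (0 : ℝ) ≤ (p : ℝ) ^ 2 - p by nlinarith)
  nlinarith

/-- The square of the norm through column orthogonality. -/
theorem sum_norm_sq (T : Finset (IrrCharacter G)) (g : G) :
    ∑ χ ∈ T, ‖(χ : G → ℂ) g‖ ^ 2 ≤ (Nat.card (Subgroup.centralizer ({g} : Set G)) : ℝ) := by
  classical
  have := Fintype.ofFinite (IrrCharacter G)
  refine le_trans (Finset.sum_le_univ_sum_of_nonneg fun χ => by positivity) (le_of_eq ?_)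
  apply Complex.ofReal_injective
  push_cast
  have h := Char.column_orth (G := G) g g
  rw [if_pos (IsConj.refl _)] at h
  rw [← h]
  exact Finset.sum_congr rfl fun χ _ => (Complex.mul_conj' _).symm

variable [IsSimpleGroup G] (h : Blk hS M n u s A C B D X f₀ m₀ ε) (hP : Par p n u s) (hM : IsPModular p M)
  (hnb : NB hS n u s C B D) (hn : Nat.card (Sylow p G) = 1 + n * p)
  (hfix : ∀ w : L, w ∈ K x L → w ≠ 1 → ∀ Q : Sylow p G, (w : G) • Q = Q → Q = P0 hS)
include h hP hM hnb hn hfix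

omit h hP hM hnb in
/-- `K` divides `n`. -/
theorem card_K_dvd : Nat.card (K x L) ∣ n := by
  set B' := (K x L).map L.subtype
  have hcard : Nat.card B' = Nat.card (K x L) := Subgroup.card_map_of_injective L.subtype_injective
  have hd : Nat.card B' ∣ ({P0 hS}ᶜ : Set (Sylow p G)).ncard := by
    refine dvd_ncard_of_orbits (J := B') _ (fun Q hQ Q' hQ' hmem => hQ ?_) fun Q hQ => ?_
    · obtain ⟨b, rfl⟩ := hQ'
      rw [Set.mem_singleton_iff] at hmem ⊢
      obtain ⟨w, hw, hwb⟩ := b.2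
      have hb0 : (b : G) • P0 hS = P0 hS := by
        rw [Sylow.smul_eq_iff_mem_normalizer, ← hwb]
        exact hS.hL w.2
      exact MulAction.injective (b : G) (hmem.trans hb0.symm)
    · rw [← MulAction.index_stabilizer]
      have hbot : MulAction.stabilizer B' Q = ⊥ := by
        rw [Subgroup.eq_bot_iff_forall]
        intro b hb
        obtain ⟨w, hw, hwb⟩ := b.2
        by_contra hne
        have hw1 : w ≠ 1 := fun h1 => hne (Subtype.ext (by rw [← hwb, h1]; rfl))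
        refine hQ (Set.mem_singleton_iff.mpr (hfix w hw hw1 Q ?_))
        rw [show ((w : L) : G) = (b : G) from hwb]
        exact MulAction.mem_stabilizer_iff.mp hb
      rw [hbot, Subgroup.index_bot]
  rw [hcard, Set.ncard_compl, Set.ncard_singleton, hn, Nat.add_sub_cancel_left] at hd
  exact (hS.hp.coprime_iff_not_dvd.mpr hS.not_dvd_card_K).symm.dvd_of_dvd_mul_right hd

theorem card_K_eq (hK : K x L ≠ ⊥) : Nat.card (K x L) = n := by
  classical
  have := Fintype.ofFinite L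
  have := Fintype.ofFinite (IrrCharacter G)
  have hp := hS.hp
  have hnp := hnb.n_le
  obtain ⟨r, hr⟩ := card_K_dvd hn hfix
  set k := Nat.card (K x L) with hk
  set e := (K x L).index with he
  have hk1 : k ≠ 1 := fun h1 => hK ((K x L).card_eq_one.mp h1)
  obtain ⟨q, hq, hqk⟩ := Nat.exists_prime_and_dvd hk1
  haveI := Fact.mk hq
  obtain ⟨⟨w, hw⟩, ho⟩ := exists_prime_orderOf_dvd_card' (G := K x L) q hqk
  rw [Subgroup.orderOf_mk] at ho
  have hqn : q ∣ n := hqk.trans ⟨r, hr⟩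
  have hne := hP.hne
  have hqu : ¬ (q : ℤ) ∣ ((u + 1 : ℕ) : ℤ) - 1 := by
    rw [show ((u + 1 : ℕ) : ℤ) - 1 = (u : ℤ) by push_cast; ring, Int.natCast_dvd_natCast]
    intro hd
    have h1 : q ∣ u * s + u := Nat.dvd_add (hd.mul_right s) hd
    rw [hne] at hqn
    exact hq.not_dvd_one ((Nat.dvd_add_right h1).mp hqn)
  have hqs : ¬ (q : ℤ) ∣ (s : ℤ) - (-1) := by
    rw [show (s : ℤ) - (-1) = ((s + 1 : ℕ) : ℤ) by push_cast; ring, Int.natCast_dvd_natCast]
    intro hd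
    have h1 : q ∣ u * (s + 1) := hd.mul_left u
    rw [hne, show u * s + u + 1 = u * (s + 1) + 1 by ring] at hqn
    exact hq.not_dvd_one ((Nat.dvd_add_right h1).mp hqn)
  set S := Finset.univ.filter (fun v : L => v ∈ Subgroup.zpowers w ∧ v ≠ 1) with hSdef
  have hwS : w ∈ S := Finset.mem_filter.mpr ⟨Finset.mem_univ _, Subgroup.mem_zpowers w, fun h1 =>
    hq.ne_one (by rw [← ho, h1, orderOf_one])⟩
  have hSK : ∀ v : L, v ∈ Subgroup.zpowers w → v ∈ K x L := fun v hv => Subgroup.zpowers_le.mpr hw hv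
  have hTge : ∀ χ ∈ C ∪ D, (S.card : ℝ) * ((p : ℝ) - 1) ^ 2 ≤ ∑ v ∈ S, ‖(χ : G → ℂ) (v : G)‖ ^ 2 := by
    intro χ hχ
    have hp1 : ((p - 1 : ℕ) : ℂ) = (p : ℂ) - 1 := by rw [Nat.cast_sub hp.one_le, Nat.cast_one]
    rcases Finset.mem_union.mp hχ with hχ' | hχ'
    · obtain ⟨φ, hφc, hφ1, -, hφ⟩ := h.fixC hP hM hχ'
      refine sum_sq_ge hS hφc hφ1 1 ho hqu (δ := 1) (Or.inl rfl) fun v hv => ?_
      rw [hφ v (hSK v hv), hp1]
      push_cast
      ring
    · obtain ⟨φ, hφc, hφ1, -, hφ⟩ := h.fixD hP hM hχ'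
      refine sum_sq_ge hS hφc hφ1 (-1) ho hqs (δ := -1) (Or.inr rfl) fun v hv => ?_
      rw [hφ v (hSK v hv), hp1]
      push_cast
      ring
  have hcent : ∀ v ∈ S, (Nat.card (Subgroup.centralizer ({(v : G)} : Set G)) : ℝ) ≤ ((p * (k * e) : ℕ) : ℝ) := by
    intro v hv
    obtain ⟨hvz, hv1⟩ := (Finset.mem_filter.mp hv).2
    rw [Nat.cast_le, hk, he, (K x L).card_mul_index, ← hS.card_normalizer]
    refine Subgroup.card_le_of_le fun c hc => ?_
    have h1 : (v : G) • c • P0 hS = c • P0 hS := by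
      rw [← mul_smul, (Subgroup.mem_centralizer_singleton_iff.mp hc).symm, mul_smul]
      congr 1
      exact Sylow.smul_eq_iff_mem_normalizer.mpr (hS.hL v.2)
    exact Sylow.smul_eq_iff_mem_normalizer.mp (hfix v (hSK v hvz) hv1 _ h1)
  have hCD : (((C ∪ D).card : ℝ)) * ((p : ℝ) - 1) ^ 2 ≤ ((p * (k * e) : ℕ) : ℝ) := by
    refine le_of_mul_le_mul_left ?_ (show (0 : ℝ) < (S.card : ℝ) by exact_mod_cast Finset.card_pos.mpr ⟨w, hwS⟩)
    calc (S.card : ℝ) * ((((C ∪ D).card : ℝ)) * ((p : ℝ) - 1) ^ 2)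
        = ∑ _χ ∈ C ∪ D, (S.card : ℝ) * ((p : ℝ) - 1) ^ 2 := by rw [Finset.sum_const, nsmul_eq_mul]; ring
      _ ≤ ∑ χ ∈ C ∪ D, ∑ v ∈ S, ‖(χ : G → ℂ) (v : G)‖ ^ 2 := Finset.sum_le_sum hTge
      _ = ∑ v ∈ S, ∑ χ ∈ C ∪ D, ‖(χ : G → ℂ) (v : G)‖ ^ 2 := Finset.sum_comm
      _ ≤ ∑ _v ∈ S, ((p * (k * e) : ℕ) : ℝ) :=
          Finset.sum_le_sum fun v hv => (sum_norm_sq _ _).trans (hcent v hv)
      _ = _ := by rw [Finset.sum_const, nsmul_eq_mul]
  have hdisj : Disjoint C D := by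
    rw [Finset.disjoint_left]
    intro χ hc hd
    have h1 := (h.memC χ hc).2.2.1
    rw [(h.memD χ hd).2.2.1] at h1
    have := hP.five_le
    omega
  rw [Finset.card_union_of_disjoint hdisj] at hCD
  have hA : A.card * (n * p) ≤ p * (k * e) := by
    have h1 := sum_norm_sq A (1 : G)
    rw [Finset.sum_congr rfl fun χ hχ => by
      rw [← charDegree_cast, Complex.norm_natCast, (h.memA χ hχ).2.1, ← hP.card_eq], Finset.sum_const,
      nsmul_eq_mul, show Subgroup.centralizer ({(1 : G)} : Set G) = ⊤ from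
        eq_top_iff.mpr fun a _ => Subgroup.mem_centralizer_singleton_iff.mpr (by simp), Subgroup.card_top,
      card_G hS hn, ← (K x L).card_mul_index, ← hk, ← he] at h1
    have h2 : A.card * (1 + n * p) ^ 2 ≤ p * (k * e) * (1 + n * p) := by exact_mod_cast h1
    rw [sq, ← mul_assoc] at h2
    exact le_trans (Nat.mul_le_mul_left _ (Nat.le_add_left _ _)) (Nat.le_of_mul_le_mul_right h2 (by omega))
  have hCD' : (C.card + D.card) * ((p - 1) * (p - 1)) ≤ p * (k * e) := by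
    obtain ⟨p', hp'⟩ : ∃ p', p = p' + 1 := ⟨p - 1, by have := hp.one_le; omega⟩
    rw [hp'] at hCD ⊢
    rw [Nat.add_sub_cancel]
    push_cast at hCD
    have h1 : (((C.card + D.card) * (p' * p') : ℕ) : ℝ) ≤ (((p' + 1) * (k * e) : ℕ) : ℝ) := by
      push_cast
      linarith
    exact_mod_cast h1
  have hsq : n * p + 1 ≤ (p - 1) * (p - 1) := by
    obtain ⟨p', hp'⟩ : ∃ p', p = p' + 2 := ⟨p - 2, by omega⟩
    subst hp'
    have h1 : n * (p' + 2) ≤ p' * (p' + 2) := Nat.mul_le_mul_right _ (by omega)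
    rw [show p' + 2 - 1 = p' + 1 by omega]
    nlinarith
  have hcount : e ≤ A.card + C.card + D.card + 1 := by
    have hB : B.card = 0 := by rw [hnb.bemp, Finset.card_empty]
    rcases h.cases with ⟨-, -, -, -, h1⟩ | ⟨-, -, h1, -⟩ <;> omega
  have hc1 : 1 ≤ C.card := Finset.card_pos.mpr hnb.cne
  have he3 : 3 ≤ e := le_trans (by have := hnb.two_u; omega)
    (Nat.le_of_dvd (Nat.pos_of_ne_zero Subgroup.index_ne_zero_of_finite) hnb.dvdu)
  have hr3 : r = 1 := by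
    have hodd := hnb.n_odd
    by_contra hr1
    have hr3 : 3 ≤ r := by
      rcases r with _ | _ | _ | r
      · rw [Nat.mul_zero] at hr; omega
      · omega
      · exact absurd (by rw [hr]; exact dvd_mul_left 2 k : 2 ∣ n) hodd
      · omega
    have e1 : A.card * n * p + (C.card + D.card) * (n * p + 1) ≤ 2 * (p * (k * e)) := by
      have := Nat.mul_le_mul_left (C.card + D.card) hsq
      rw [mul_assoc]
      omega
    have e2 : (e - 1) * (n * p) + 1 ≤ 2 * (p * (k * e)) := by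
      refine le_trans ?_ e1
      have h2 : (e - 1) * (n * p) ≤ (A.card + (C.card + D.card)) * (n * p) := Nat.mul_le_mul_right _ (by omega)
      have h3 : (C.card + D.card) * (n * p + 1) = (C.card + D.card) * (n * p) + (C.card + D.card) := by ring
      rw [add_mul] at h2
      rw [h3, mul_assoc A.card]
      omega
    have e3 : (e - 1) * r < 2 * e := by
      refine Nat.lt_of_mul_lt_mul_right (a := k * p) ?_
      calc (e - 1) * r * (k * p) = (e - 1) * (n * p) := by rw [hr]; ring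
        _ < 2 * (p * (k * e)) := e2
        _ = 2 * e * (k * p) := by ring
    have := Nat.mul_le_mul_left (e - 1) hr3
    omega
  rw [hr, hr3, Nat.mul_one]

end Cfsg.Agent.FewSylowClass
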