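/-
`C(x) = ⟨x⟩` (namespace `Cfsg.Agent.FewSylowClass`).

Main results: `Blk.sum_PB`, `false_of_regular`, `K_eq_bot`.
-/
import Cfsg.Agent.Lib.FewSylowClass.RegularCount
import Cfsg.Agent.Lib.FewSylowClass.Fibre

set_option autoImplicit false
set_option linter.unusedSectionVars false
set_option linter.style.haveILetI false

open scoped ComplexConjugate Pointwise

namespace Cfsg.Agent.FewSylowClass

open Cfsg Cfsg.Agent.Blocks Cfsg.Agent.CyclicDefect Cfsg.Agent.BrauerN

universe v

variable {G : Type v} [Group G] [Finite G] {p : ℕ} [Fact p.Prime] {x : G} {L : Subgroup G}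
  {M : Ideal AlgInt} {hS : Setting p x L} {n u s : ℕ} {A C B D X : Finset (IrrCharacter G)} {f₀ m₀ : ℕ} {ε : ℤ}

open scoped Classical in
/-- Sums over the principal block by families. -/
theorem Blk.sum_PB (h : Blk hS M n u s A C B D X f₀ m₀ ε) (hP : Par p n u s) (hM : IsPModular p M)
    [Fintype (IrrCharacter G)] {R : Type*} [AddCommMonoid R] (F : IrrCharacter G → R) :
    ∑ χ ∈ Finset.univ.filter (fun χ => χ ∈ principalBlock M G), F χ =
      F (oneG G) + ∑ a ∈ A, F a + ∑ c ∈ C, F c + ∑ b ∈ B, F b + ∑ d ∈ D, F d + ∑ c ∈ X, F c := by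
  have hp5 := hP.five_le
  have hus := hP.hus
  have hu := hP.hu
  have hset : Finset.univ.filter (fun χ => χ ∈ principalBlock M G) = {oneG G} ∪ A ∪ C ∪ B ∪ D ∪ X := by
    ext χ
    simp only [Finset.mem_filter, Finset.mem_univ, true_and, Finset.mem_union, Finset.mem_singleton]
    constructor
    · intro hχ
      have := h.cover χ hχ
      tauto
    · rintro (((((rfl | h1) | h1) | h1) | h1) | h1)
      · exact (principal_isPBlock (G := G) hM).2
      · exact (h.memA χ h1).1
      · exact (h.memC χ h1).1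
      · exact (h.memB χ h1).1
      · exact (h.memD χ h1).1
      · exact (h.memX χ h1).1
  have hNU : (u * s + 1) * (p + u + 1) ≠ (u + 1) * (u * s + 1) := by
    rw [mul_comm (u + 1)]
    exact fun h => by have := Nat.eq_of_mul_eq_mul_left (by omega) h; omega
  have hBD : p - 1 ≠ s * (p + u + 1) := by
    have := Nat.le_mul_of_pos_left (p + u + 1) (show 0 < s by omega)
    omega
  have hp1 : ((p - 1 : ℕ) : ℤ) ≠ -((p - 1 : ℕ) : ℤ) := by omega
  have hX1 : ∀ χ ∈ X, rowSum hS χ ≠ ((p - 1 : ℕ) : ℤ) ∧ rowSum hS χ ≠ -((p - 1 : ℕ) : ℤ) := by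
    intro χ hχ
    rcases h.cases with h1 | ⟨ht, het, -, hxt⟩
    · simp [h1.1] at hχ
    rw [(h.memX χ hχ).2.2.1]
    have he0 : 0 < (K x L).index := Nat.pos_of_ne_zero Subgroup.index_ne_zero_of_finite
    have hlt : (K x L).index < p - 1 := by
      rw [← het]
      exact lt_mul_of_one_lt_right he0 ht
    cases hxt <;> constructor <;> omega
  have d0 : ∀ {S : Finset (IrrCharacter G)}, (∀ χ ∈ S, χ ≠ oneG G) → Disjoint {oneG G} S := fun {S} hS' =>
    Finset.disjoint_singleton_left.mpr fun h1 => hS' _ h1 rfl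
  have dAC : Disjoint A C := Finset.disjoint_left.mpr fun χ h1 h2 =>
    hNU ((h.memA χ h1).2.1.symm.trans (h.memC χ h2).2.1)
  have dBD : Disjoint B D := Finset.disjoint_left.mpr fun χ h1 h2 =>
    hBD ((h.memB χ h1).2.1.symm.trans (h.memD χ h2).2.1)
  have dsign : ∀ {S T : Finset (IrrCharacter G)}, (∀ χ ∈ S, rowSum hS χ = -((p - 1 : ℕ) : ℤ)) →
      (∀ χ ∈ T, rowSum hS χ = ((p - 1 : ℕ) : ℤ)) → Disjoint S T := fun {S T} h1 h2 =>
    Finset.disjoint_left.mpr fun χ a b => hp1 ((h2 χ b).symm.trans (h1 χ a))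
  have dX : ∀ {S : Finset (IrrCharacter G)}, (∀ χ ∈ S, rowSum hS χ = ((p - 1 : ℕ) : ℤ) ∨
      rowSum hS χ = -((p - 1 : ℕ) : ℤ)) → Disjoint S X := fun {S} h1 =>
    Finset.disjoint_left.mpr fun χ a b => (h1 χ a).elim (hX1 χ b).1 (hX1 χ b).2
  rw [hset, Finset.sum_union, Finset.sum_union, Finset.sum_union, Finset.sum_union, Finset.sum_union,
    Finset.sum_singleton]
  · exact d0 fun χ hχ => (h.memA χ hχ).2.2.2.1
  · exact Finset.disjoint_union_left.mpr ⟨d0 fun χ hχ => (h.memC χ hχ).2.2.2.1, dAC⟩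
  · exact Finset.disjoint_union_left.mpr ⟨Finset.disjoint_union_left.mpr
      ⟨d0 fun χ hχ => (h.memB χ hχ).2.2.2.1, dsign (fun χ hχ => (h.memA χ hχ).2.2.1) fun χ hχ => (h.memB χ hχ).2.2.1⟩,
      dsign (fun χ hχ => (h.memC χ hχ).2.2.1) fun χ hχ => (h.memB χ hχ).2.2.1⟩
  · exact Finset.disjoint_union_left.mpr ⟨Finset.disjoint_union_left.mpr ⟨Finset.disjoint_union_left.mpr
      ⟨d0 fun χ hχ => (h.memD χ hχ).2.2.2.1, dsign (fun χ hχ => (h.memA χ hχ).2.2.1) fun χ hχ => (h.memD χ hχ).2.2.1⟩,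
      dsign (fun χ hχ => (h.memC χ hχ).2.2.1) fun χ hχ => (h.memD χ hχ).2.2.1⟩, dBD⟩
  · exact Finset.disjoint_union_left.mpr ⟨Finset.disjoint_union_left.mpr ⟨Finset.disjoint_union_left.mpr
      ⟨Finset.disjoint_union_left.mpr
        ⟨d0 fun χ hχ => (h.memX χ hχ).2.2.2, dX fun χ hχ => Or.inr (h.memA χ hχ).2.2.1⟩,
        dX fun χ hχ => Or.inr (h.memC χ hχ).2.2.1⟩,
      dX fun χ hχ => Or.inl (h.memB χ hχ).2.2.1⟩, dX fun χ hχ => Or.inl (h.memD χ hχ).2.2.1⟩

set_option maxHeartbeats 1600000 in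
/-- A nontrivial regular `K` contradicts the relation at `x`. -/
theorem false_of_regular (h : Blk hS M n u s A C B D X f₀ m₀ ε) (hP : Par p n u s) (hM : IsPModular p M)
    [IsSimpleGroup G] (hnb : NB hS n u s C B D) (hcore : pPrimeCore p G = ⊥) (hK : K x L ≠ ⊥)
    (hR : RegK hS n) : False := by
  classical
  have := Fintype.ofFinite (IrrCharacter G)
  have := Fintype.ofFinite (K x L)
  have hp := hS.hp
  have hus := hnb.hus
  have hu2 := hnb.two_u
  have hn := hP.hne
  obtain ⟨m, f, hf, hfix, hmf, hmd, hsum⟩ := hR.exists_mult hM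
  set e := (K x L).index with hedef
  -- `f ≤ 2`, with equality only in degree `1 + n p`
  have hf2 : ∀ χ : IrrCharacter G, f χ ≤ 2 ∧ (charDegree (χ : G → ℂ) ≠ 1 + n * p → f χ ≤ 1) := by
    intro χ
    rcases Nat.eq_zero_or_pos (f χ) with h0 | h0
    · omega
    obtain ⟨j, hj, hjm⟩ : ∃ j ∈ Finset.range e, m j χ ≠ 0 := by
      by_contra hc
      push Not at hc
      rw [hf χ, Finset.sum_eq_zero hc] at h0
      omega
    have h1 := hmf j hj
    rw [← Finset.add_sum_erase _ _ (Finset.mem_univ χ)] at h1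
    have h2 : 1 * f χ ≤ m j χ * f χ := Nat.mul_le_mul_right _ (Nat.pos_of_ne_zero hjm)
    refine ⟨by omega, fun hdeg => ?_⟩
    by_contra hgt
    have h3 : m j χ = 1 := by
      by_contra h4
      have := Nat.mul_le_mul_right (f χ) (show 2 ≤ m j χ by omega)
      omega
    rw [h3, one_mul] at h1
    have h4 : ∀ χ' ∈ Finset.univ.erase χ, m j χ' = 0 := by
      intro χ' hχ'
      by_contra h5
      have h6 : m j χ' ≤ f χ' := by
        rw [hf χ']; exact Finset.single_le_sum (fun i _ => Nat.zero_le (m i χ')) hj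
      have h7 := Finset.single_le_sum (f := fun ψ => m j ψ * f ψ) (fun i _ => Nat.zero_le _) hχ'
      have h8 := Nat.mul_pos (Nat.pos_of_ne_zero h5) (show 0 < f χ' by omega)
      omega
    have h5 := hmd j hj
    rw [← Finset.add_sum_erase _ _ (Finset.mem_univ χ), h3, one_mul,
      Finset.sum_eq_zero fun χ' hχ' => by rw [h4 χ' hχ', zero_mul], add_zero] at h5
    exact hdeg h5
  -- `f` in the principal block
  have hPB : ∀ χ ∈ principalBlock M G, (p : ℂ) * ((n : ℂ) * (f χ : ℂ)) =
      ∑ w : K x L, ((χ : G → ℂ) ((w : L) : G) - (rowSum hS χ : ℂ)) := by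
    intro χ hχ
    obtain ⟨φ, hφc, hφ⟩ := exists_fixed hS (Char.IsIrrCharacter.isCharacter χ.2)
    rw [← hfix χ φ hφc hφ, Finset.mul_sum]
    refine Finset.sum_congr rfl fun w _ => ?_
    rw [hφ, ← Finset.add_sum_erase _ _ (Finset.mem_univ (0 : ZMod p)), hS.pw_zero, one_mul,
      Finset.sum_congr rfl (g := fun i => (χ : G → ℂ) (pw x i)) fun i hi => by
        exact apply_pw_K hS hM hχ (Finset.ne_of_mem_erase hi) w,
      show ∑ i ∈ Finset.univ.erase (0 : ZMod p), (χ : G → ℂ) (pw x i) = -(rowSum hS χ : ℂ) from ?_, sub_eq_add_neg]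
    rw [← sum_pw_ne_zero hS hM hχ]
    exact (Finset.sum_bij (fun (v : (ZMod p)ˣ) _ => (v : ZMod p))
      (fun v _ => Finset.mem_erase.mpr ⟨v.ne_zero, Finset.mem_univ _⟩)
      (fun a _ b _ h => Units.ext h) (fun j hj => ⟨Units.mk0 j (Finset.ne_of_mem_erase hj), Finset.mem_univ _, rfl⟩)
      fun v _ => rfl).symm
  have hone : f (oneG G) = 1 := by
    have h1 := hPB (oneG G) (principal_isPBlock (G := G) hM).2
    rw [show rowSum hS (oneG G) = -((p - 1 : ℕ) : ℤ) from rowSum_one hS hM] at h1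
    simp only [oneG_apply, Finset.sum_const, Finset.card_univ, nsmul_eq_mul] at h1
    rw [← Nat.card_eq_fintype_card, hR.cardK, Int.cast_neg, Int.cast_natCast, Nat.cast_sub hp.one_le, Nat.cast_one,
      sub_neg_eq_add, add_sub_cancel] at h1
    have h2 : ((f (oneG G) : ℕ) : ℂ) = ((1 : ℕ) : ℂ) := by
      have hn0 : ((p : ℂ) * n) ≠ 0 := mul_ne_zero (Nat.cast_ne_zero.mpr hp.ne_zero) (Nat.cast_ne_zero.mpr (by omega))
      apply mul_left_cancel₀ hn0
      push_cast
      linear_combination h1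
    exact_mod_cast h2
  have hXeq : ∀ χ ∈ X, ∀ χ' ∈ X, f χ = f χ' := by
    intro χ hχ χ' hχ'
    have hε : ε ≠ 0 := by
      rcases h.cases with h1 | ⟨-, -, -, hxt⟩
      · simp [h1.1] at hχ
      · cases hxt <;> simp
    have h1 := hPB χ (h.memX χ hχ).1
    have h2 := hPB χ' (h.memX χ' hχ').1
    have h3 : ∀ w : K x L, (χ : G → ℂ) ((w : L) : G) = (χ' : G → ℂ) ((w : L) : G) := by
      intro w
      have e1 := h.rel _ (hS.regular_K w) χ hχ
      have e2 := h.rel _ (hS.regular_K w) χ' hχ'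
      refine mul_left_cancel₀ (Int.cast_ne_zero.mpr hε : (ε : ℂ) ≠ 0) ?_
      linear_combination e1 - e2
    simp only [h3, (h.memX χ hχ).2.2.1, ← (h.memX χ' hχ').2.2.1] at h1
    rw [← h2] at h1
    have hn0 : ((p : ℂ) * n) ≠ 0 := mul_ne_zero (Nat.cast_ne_zero.mpr hp.ne_zero) (Nat.cast_ne_zero.mpr (by omega))
    have h4 : ((f χ : ℕ) : ℂ) = (f χ' : ℂ) := mul_left_cancel₀ hn0 (by linear_combination h1)
    exact_mod_cast h4
  -- the relation at `x`
  rw [h.sum_PB hP hM, hone, oneG_apply, hnb.bemp, Finset.sum_empty, add_zero,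
    Finset.sum_congr (s₁ := A) rfl fun a ha => by rw [← hS.pw_one, (h.memA a ha).2.2.2.2 1 one_ne_zero, mul_one],
    Finset.sum_congr (s₁ := C) rfl fun a ha => by rw [← hS.pw_one, (h.memC a ha).2.2.2.2 1 one_ne_zero, mul_one],
    Finset.sum_congr (s₁ := D) rfl fun a ha => by rw [← hS.pw_one, (h.memD a ha).2.2.2.2 1 one_ne_zero, mul_neg,
      mul_one], Finset.sum_neg_distrib, Nat.cast_one, one_mul] at hsum
  have hA : ∑ a ∈ A, f a ≤ 2 * A.card := by
    rw [mul_comm]; exact le_trans (Finset.sum_le_card_nsmul A f 2 fun a _ => (hf2 a).1) (le_of_eq (smul_eq_mul _ _))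
  have hdegC : ∀ χ ∈ C, f χ ≤ 1 := by
    intro χ hχ
    refine (hf2 χ).2 ?_
    rw [(h.memC χ hχ).2.1, hP.card_eq, mul_comm (u + 1)]
    exact fun h1 => by have := Nat.eq_of_mul_eq_mul_left (by omega) h1; have := hp.pos; omega
  have hC : ∑ a ∈ C, f a ≤ C.card := le_trans (Finset.sum_le_card_nsmul C f 1 hdegC) (le_of_eq (by simp))
  have hid := h.ident hP
  have hdne : 1 ≤ D.card := Finset.card_pos.mpr hnb.dne
  have hB : B.card = 0 := by rw [hnb.bemp, Finset.card_empty]
  rw [hB, Nat.cast_zero, zero_add] at hid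
  have hn' : (n : ℤ) = (u : ℤ) * s + u + 1 := by exact_mod_cast hn
  have hu2' : (2 : ℤ) ≤ u := by exact_mod_cast hu2
  have hus' : (u : ℤ) + 2 ≤ s := by exact_mod_cast hus
  have hppos := hp.pos
  have hns : (2 : ℤ) * (s + 1) + 1 ≤ n := by rw [hn']; nlinarith
  rcases h.cases with ⟨hX, hε, -, he, hcount⟩ | ⟨ht, het, hcount, hxt⟩
  · -- no exceptional characters
    rw [hX, Finset.sum_empty, add_zero] at hsum
    rw [if_pos hX, hε, zero_mul, add_zero] at hid
    have hD : D.card ≤ A.card + 1 := by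
      have h1 : e + ∑ a ∈ D, f a = 1 + ∑ a ∈ A, f a + ∑ a ∈ C, f a := by
        apply Nat.cast_injective (R := ℂ)
        push_cast
        linear_combination -hsum
      omega
    rcases Nat.eq_zero_or_pos A.card with ha | ha
    · have hd : D.card = 1 := by omega
      rw [ha, hd] at hid
      push_cast at hid
      have hc : (C.card : ℤ) = ((u : ℤ) + 1) * s - 1 := by
        have h1 : C.card + 1 = (u + 1) * s := by
          rw [← hP.p_sub, ← he]; omega
        have h2 : (C.card : ℤ) + 1 = ((u : ℤ) + 1) * s := by exact_mod_cast h1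
        linarith
      rw [hc] at hid
      nlinarith
    · have h1 : (1 : ℤ) ≤ A.card := by exact_mod_cast ha
      have h2 : (D.card : ℤ) ≤ A.card + 1 := by exact_mod_cast hD
      have h3 := mul_le_mul_of_nonneg_right h2 (show (0 : ℤ) ≤ s + 1 by positivity)
      nlinarith
  · -- exceptional characters
    obtain ⟨χ₀, hχ₀⟩ : X.Nonempty := Finset.card_pos.mp (by omega)
    have hXne : X ≠ ∅ := Finset.nonempty_iff_ne_empty.mp ⟨χ₀, hχ₀⟩
    rw [if_neg hXne, sub_zero] at hid
    rw [Finset.sum_congr (s₁ := X) rfl fun c hc => by rw [hXeq c hc χ₀ hχ₀], ← Finset.mul_sum] at hsum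
    have hX1 := h.sumX 1 one_ne_zero
    simp only [hS.pw_one] at hX1
    rw [hX1] at hsum
    have hfX : f χ₀ ≤ 1 := by
      refine (hf2 χ₀).2 ?_
      rw [(h.memX χ₀ hχ₀).2.1]
      have hNbig : 1 + n * p = (u * s + 1) * (p + u + 1) := hP.card_eq
      cases hxt with
      | degE => exact fun h1 => hK (h.K_bot hM hcore (Or.inr ⟨⟨χ₀, hχ₀⟩, rfl, rfl⟩))
      | degP g hg =>
        rw [hNbig]
        intro h1
        have h2 := Nat.eq_of_mul_eq_mul_right (by omega) h1
        have h3 : m₀ * 1 ≤ m₀ * (u + 1) := Nat.mul_le_mul_left _ (by omega)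
        have h4 : e ≤ (u + 1) * s / 2 := by
          rw [Nat.le_div_iff_mul_le two_pos, ← hP.p_sub, ← het]
          exact Nat.mul_le_mul_left _ ht
        rw [← hg] at h3
        have h5 : (u + 1) * s < (u * s + 1) * 2 := by nlinarith
        rw [Nat.mul_one] at h3
        omega
      | degN f m' hf' hm' =>
        intro h1
        rw [h1] at hf'
        have := Nat.mul_le_mul_right (1 + n * p) ht
        omega
      | degU g hg hge =>
        rw [hNbig]
        intro h1
        rw [mul_comm] at h1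
        have h2 := Nat.eq_of_mul_eq_mul_left (by omega) h1
        have h6 := Nat.le_of_dvd (Nat.succ_pos u) (Dvd.intro X.card hg)
        omega
    have hmain : (e : ℤ) + (∑ a ∈ D, f a : ℕ) + ε * (f χ₀ : ℤ) = 1 + (∑ a ∈ A, f a : ℕ) + (∑ a ∈ C, f a : ℕ) := by
      apply Int.cast_injective (α := ℂ)
      push_cast
      linear_combination -hsum
    have hA' : ((∑ a ∈ A, f a : ℕ) : ℤ) ≤ 2 * A.card := by exact_mod_cast hA
    have hC' : ((∑ a ∈ C, f a : ℕ) : ℤ) ≤ C.card := by exact_mod_cast hC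
    have hD0 : (0 : ℤ) ≤ ((∑ a ∈ D, f a : ℕ) : ℤ) := by positivity
    have hcount' : (A.card : ℤ) + C.card + D.card + 1 = e := by
      have : A.card + C.card + D.card + 1 = e := by omega
      exact_mod_cast this
    have hd1 : (1 : ℤ) ≤ D.card := by exact_mod_cast hdne
    have hc1 : (1 : ℤ) ≤ C.card := by exact_mod_cast Finset.card_pos.mpr hnb.cne
    have hfX' : (f χ₀ : ℤ) ≤ 1 := by exact_mod_cast hfX
    have hfX0 : (0 : ℤ) ≤ (f χ₀ : ℤ) := by positivity
    have ha0 : (0 : ℤ) ≤ A.card := by positivity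
    have het' : (e : ℤ) * X.card = ((u : ℤ) + 1) * s := by exact_mod_cast het.trans hP.p_sub
    have ht' : (2 : ℤ) ≤ X.card := by exact_mod_cast ht
    cases hxt with
    | degE => exact hK (h.K_bot hM hcore (Or.inr ⟨⟨χ₀, hχ₀⟩, rfl, rfl⟩))
    | degP g hg =>
      have hd : (D.card : ℤ) ≤ A.card := by linarith
      have h3 := mul_le_mul_of_nonneg_right hd (show (0 : ℤ) ≤ s + 1 by positivity)
      have hg' : (e : ℤ) = m₀ * ((u : ℤ) + 1) := by exact_mod_cast hg
      have hgs : (m₀ : ℤ) * X.card = s := by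
        refine mul_left_cancel₀ (show ((u : ℤ) + 1) ≠ 0 by linarith) ?_
        linear_combination het' - (X.card : ℤ) * hg'
      rcases Nat.eq_zero_or_pos A.card with ha | ha
      · rw [ha] at hd
        push_cast at hd
        linarith
      · have h1 : (1 : ℤ) ≤ A.card := by exact_mod_cast ha
        have hm2 : 2 * (m₀ : ℤ) ≤ s := by nlinarith
        nlinarith
    | degN f m' hf' hm' =>
      have hd : (D.card : ℤ) ≤ A.card + 1 := by linarith
      have h3 := mul_le_mul_of_nonneg_right hd (show (0 : ℤ) ≤ s + 1 by positivity)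
      rcases Nat.eq_zero_or_pos A.card with ha | ha
      · have h1 : u + 1 ∣ e := hnb.dvdu
        have h2 : s ∣ e := hnb.dvds
        obtain ⟨c₁, hc₁⟩ := h1
        obtain ⟨c₂, hc₂⟩ := h2
        have hts : c₁ * X.card = s := by
          refine Nat.eq_of_mul_eq_mul_left (show 0 < u + 1 by omega) ?_
          rw [← mul_assoc, ← hc₁, het, hP.p_sub]
        have htu : c₂ * X.card = u + 1 := by
          refine Nat.eq_of_mul_eq_mul_left (show 0 < s by omega) ?_
          rw [← mul_assoc, ← hc₂, het, hP.p_sub, mul_comm]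
        have ht1 : X.card ∣ 1 := by
          have h5 : X.card ∣ u * s + (u + 1) + 1 := ⟨m₀, by rw [hm', hn]; ring⟩
          have h6 : X.card ∣ u * s + (u + 1) :=
            Nat.dvd_add ((Dvd.intro_left c₁ hts).mul_left u) (Dvd.intro_left c₂ htu)
          exact (Nat.dvd_add_right h6).mp h5
        have := Nat.le_of_dvd one_pos ht1
        omega
      · have h1 : (1 : ℤ) ≤ A.card := by exact_mod_cast ha
        nlinarith
    | degU g hg hge =>
      have hd : (D.card : ℤ) ≤ A.card + 1 := by linarith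
      have h3 := mul_le_mul_of_nonneg_right hd (show (0 : ℤ) ≤ s + 1 by positivity)
      have hg' : (m₀ : ℤ) * X.card = u + 1 := by exact_mod_cast hg
      rcases Nat.eq_zero_or_pos A.card with ha | ha
      · rw [ha] at hd hid hcount'
        push_cast at hd hid hcount'
        have hdd : (D.card : ℤ) = 1 := by linarith
        rw [hdd] at hid hcount'
        have hes : (e : ℤ) = m₀ * s := by
          refine mul_left_cancel₀ (show ((X.card : ℤ)) ≠ 0 by linarith) ?_
          linear_combination het' - (s : ℤ) * hg'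
        have hg1 : (1 : ℤ) ≤ m₀ := by
          rcases Nat.eq_zero_or_pos m₀ with h0 | h0
          · rw [h0] at hg'; push_cast at hg'; linarith
          · exact_mod_cast h0
        have hc2 : (C.card : ℤ) = m₀ * s - 2 := by linarith
        rw [hc2] at hid
        have hs4 : s ≤ 4 := by
          have : (s : ℤ) ≤ 4 := by nlinarith
          exact_mod_cast this
        obtain rfl : s = 4 := by omega
        obtain rfl : u = 2 := by omega
        push_cast at hid hes hg'
        have hm1 : (m₀ : ℤ) = 1 := by linarith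
        rw [hm1] at hes
        have h5 := hnb.dvdu
        rw [← hedef, show e = 4 by omega] at h5
        omega
      · have h1 : (1 : ℤ) ≤ A.card := by exact_mod_cast ha
        nlinarith

/-- `K` is trivial. -/
theorem K_eq_bot [IsSimpleGroup G] (h : Blk hS M n u s A C B D X f₀ m₀ ε) (hP : Par p n u s)
    (hM : IsPModular p M) (hperf : commutator G = ⊤) (hcore : pPrimeCore p G = ⊥)
    (hnc : ¬ IsMulCommutative G) (hn : Nat.card (Sylow p G) = 1 + n * p) (hrec : Rec p G) : K x L = ⊥ := by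
  by_contra hK
  have hnb := nb_of_ne_bot h hP hM hperf hcore hn hK
  have hfix := fun w (hw : w ∈ K x L) (hw1 : w ≠ 1) (Q : Sylow p G) (hQ : (w : G) • Q = Q) =>
    fix_of_mem_K hnb hrec hnc hn hperf hw hw1 hQ
  exact false_of_regular h hP hM hnb hcore hK ⟨hn, hfix, card_K_eq h hP hM hnb hn hfix hK⟩

end Cfsg.Agent.FewSylowClass
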