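/-
Tools for the case `C(x) = ⟨x⟩` (namespace `Cfsg.Agent.FewSylowClass`).

Main results: `eq_zero_of_dvd_values`, `sum_irr`, `isIntegral_div`, `vanish_of_defect`, `card_pairs`,
`dvd_card_pairs`, `exists_conj_pw`, `Blk.square_count`.
-/
import Cfsg.Agent.Lib.FewSylowClass.Regular
import Cfsg.Agent.Lib.BrauerN.Types
import Cfsg.Agent.Lib.Char.ClassMult
import Cfsg.Agent.Lib.Char.PRegular
import Cfsg.Agent.Lib.Char.Integral

set_option autoImplicit false
set_option linter.unusedSectionVars false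
set_option linter.style.haveILetI false

open scoped ComplexConjugate Pointwise

namespace Cfsg.Agent.FewSylowClass

open Cfsg Cfsg.Agent.Blocks Cfsg.Agent.CyclicDefect Cfsg.Agent.BrauerN

section general

open Polynomial in
/-- An integral function all whose conjugate values are divisible by `c` and at most `c`, one of them less,
vanishes. -/
theorem eq_zero_of_dvd_values {H : Type*} [Group H] [Finite H] {f : H → ℂ} (hf : GaloisAvg.CycloValued f) {g : H}
    {c : ℕ} (hc : 0 < c) (hint : ∀ j : ℕ, j.Coprime (Nat.card H) → IsIntegral ℤ (f (g ^ j) / (c : ℂ)))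
    (hle : ∀ j : ℕ, j.Coprime (Nat.card H) → ‖f (g ^ j)‖ ≤ (c : ℝ))
    (hlt : ∃ j : ℕ, j.Coprime (Nat.card H) ∧ ‖f (g ^ j)‖ < (c : ℝ)) : f g = 0 := by
  classical
  by_contra hne
  set N := Nat.card H with hN
  haveI : NeZero N := ⟨Nat.card_pos.ne'⟩
  have hz := GaloisAvg.zeta_isPrimitiveRoot (NeZero.ne N)
  obtain ⟨P, hP⟩ := hf g
  have hval : ∀ z ∈ primitiveRoots N ℂ, ∃ j : ℕ, j.Coprime N ∧ aeval z P = f (g ^ j) := by
    intro z hzR
    obtain ⟨j, -, hj, rfl⟩ := (hz.isPrimitiveRoot_iff).mp ((mem_primitiveRoots (NeZero.pos N)).mp hzR)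
    exact ⟨j, hj, (hP j).symm⟩
  have h0 : ∀ z ∈ primitiveRoots N ℂ, aeval z P ≠ 0 := by
    intro z hzR h
    obtain ⟨j, hj, hj'⟩ := hval z hzR
    exact hne (hf.eq_zero_of_pow_eq_zero hj (hj' ▸ h))
  -- the product is a rational integer
  have : NeZero (N : ℚ) := NeZero.charZero
  haveI : IsCyclotomicExtension {N} ℚ (CyclotomicField N ℚ) := CyclotomicField.isCyclotomicExtension N ℚ
  have hK : IsPrimitiveRoot (IsCyclotomicExtension.zeta N ℚ (CyclotomicField N ℚ)) N :=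
    IsCyclotomicExtension.zeta_spec N ℚ (CyclotomicField N ℚ)
  set z0 := IsCyclotomicExtension.zeta N ℚ (CyclotomicField N ℚ) with hz0
  let e := hK.embeddingsEquivPrimitiveRoots ℂ (cyclotomic.irreducible_rat (NeZero.pos N))
  haveI : FiniteDimensional ℚ (CyclotomicField N ℚ) :=
    IsCyclotomicExtension.finiteDimensional {N} ℚ (CyclotomicField N ℚ)
  have h1 : algebraMap ℚ ℂ (Algebra.norm ℚ (aeval z0 P)) =
      ∏ σ : (CyclotomicField N ℚ) →ₐ[ℚ] ℂ, σ (aeval z0 P) := Algebra.norm_eq_prod_embeddings ℚ ℂ _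
  have h2 : ∏ σ : (CyclotomicField N ℚ) →ₐ[ℚ] ℂ, σ (aeval z0 P) = ∏ z ∈ primitiveRoots N ℂ, aeval z P := by
    rw [← Finset.prod_coe_sort (primitiveRoots N ℂ) fun z => aeval z P]
    refine Fintype.prod_equiv e _ _ fun σ => ?_
    have : ((e σ : primitiveRoots N ℂ) : ℂ) = σ z0 := rfl
    rw [this]
    exact (aeval_algHom_apply (σ.restrictScalars ℤ) z0 P).symm
  have h3 : IsIntegral ℤ (Algebra.norm ℚ (aeval z0 P)) := Algebra.isIntegral_norm ℚ
    (IsIntegral.map_of_comp_eq (RingHom.id ℤ) (RingHom.id (CyclotomicField N ℚ)) rfl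
      ((adjoin_le_integralClosure (hK.isIntegral (NeZero.pos N))) (aeval_mem_adjoin_singleton ℤ z0)))
  obtain ⟨m, hm⟩ := IsIntegrallyClosed.isIntegral_iff.mp h3
  have h4 : ∏ z ∈ primitiveRoots N ℂ, aeval z P = (m : ℂ) := by
    rw [← h2, ← h1, ← hm]; simp
  set Q := ∏ z ∈ primitiveRoots N ℂ, aeval z P / (c : ℂ) with hQ
  have hQint : IsIntegral ℤ Q := IsIntegral.prod _ fun z hzR => by
    obtain ⟨j, hj, hj'⟩ := hval z hzR
    rw [hj']
    exact hint j hj
  have hQm : ((c ^ (primitiveRoots N ℂ).card : ℕ) : ℂ) * Q = (m : ℂ) := by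
    have hc0 : (c : ℂ) ≠ 0 := Nat.cast_ne_zero.mpr hc.ne'
    rw [hQ, Finset.prod_div_distrib, Finset.prod_const, h4, Nat.cast_pow]
    field_simp
  obtain ⟨j, hj⟩ := Char.exists_int_of_isIntegral_mul (pow_ne_zero _ hc.ne') hQm hQint
  have hlt1 : ‖Q‖ < 1 := by
    rw [hQ, norm_prod, ← Finset.prod_const_one (s := primitiveRoots N ℂ)]
    refine Finset.prod_lt_prod (fun z hzR => norm_pos_iff.mpr
      (div_ne_zero (h0 z hzR) (Nat.cast_ne_zero.mpr hc.ne'))) (fun z hzR => ?_) ?_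
    · obtain ⟨j, hj, hj'⟩ := hval z hzR
      rw [hj', norm_div, Complex.norm_natCast, div_le_one (Nat.cast_pos.mpr hc)]
      exact hle j hj
    · obtain ⟨j, hj, hj'⟩ := hlt
      refine ⟨GaloisAvg.zeta N ^ j, (mem_primitiveRoots (NeZero.pos N)).mpr (hz.pow_of_coprime j hj), ?_⟩
      rw [← hP, norm_div, Complex.norm_natCast, div_lt_one (Nat.cast_pos.mpr hc)]
      exact hj'
  rw [hj, Complex.norm_intCast] at hlt1
  have hj0 : j = 0 := Int.abs_lt_one_iff.mp (by exact_mod_cast hlt1)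
  rw [hj, hj0, Int.cast_zero] at hQ
  exact (Finset.prod_ne_zero_iff.mpr fun z hzR =>
    div_ne_zero (h0 z hzR) (Nat.cast_ne_zero.mpr hc.ne')) hQ.symm

variable {G : Type*} [Group G] [Finite G]

/-- Pairs of conjugates of `a` and `b` with product `c`. -/
abbrev Pairs (a b c : G) : Type _ := {q : G × G // IsConj a q.1 ∧ IsConj b q.2 ∧ q.1 * q.2 = c}

open scoped Classical in
theorem card_pairs [Fintype (IrrCharacter G)] (a b c : G) :
    (Nat.card (Pairs a b c) : ℂ) * (Nat.card (Subgroup.centralizer ({a} : Set G)) : ℂ) *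
        (Nat.card (Subgroup.centralizer ({b} : Set G)) : ℂ) =
      (Nat.card G : ℂ) * ∑ χ : IrrCharacter G,
        (χ : G → ℂ) a * (χ : G → ℂ) b * conj ((χ : G → ℂ) c) / (χ : G → ℂ) 1 := by
  have ha : ((Nat.card {w : G // IsConj a w} : ℕ) : ℂ) * (Nat.card (Subgroup.centralizer ({a} : Set G)) : ℂ) =
      (Nat.card G : ℂ) := by
    exact_mod_cast Char.card_conjugates_mul_card_centralizer a
  have hb : ((Nat.card {w : G // IsConj b w} : ℕ) : ℂ) * (Nat.card (Subgroup.centralizer ({b} : Set G)) : ℂ) =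
      (Nat.card G : ℂ) := by
    exact_mod_cast Char.card_conjugates_mul_card_centralizer b
  have hG0 : (Nat.card G : ℂ) ≠ 0 := Nat.cast_ne_zero.mpr Nat.card_pos.ne'
  rw [Char.class_mult_formula]
  field_simp
  linear_combination (∑ χ : IrrCharacter G,
    (χ : G → ℂ) a * (χ : G → ℂ) b * conj ((χ : G → ℂ) c) / (χ : G → ℂ) 1) *
    ((Nat.card {w : G // IsConj b w} : ℂ) * (Nat.card (Subgroup.centralizer ({b} : Set G)) : ℂ) * ha +
      (Nat.card G : ℂ) * hb)

/-- A group centralizing `c` and no conjugate of `a` divides the number of pairs. -/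
theorem dvd_card_pairs (a b c : G) (H : Subgroup G) (hc : ∀ g ∈ H, g * c * g⁻¹ = c)
    (hfree : ∀ g ∈ H, ∀ a' : G, IsConj a a' → g * a' * g⁻¹ = a' → g = 1) :
    Nat.card H ∣ Nat.card (Pairs a b c) := by
  set J := H.map (ConjAct.toConjAct : G ≃* ConjAct G).toMonoidHom with hJ
  have hJc : Nat.card J = Nat.card H := Subgroup.card_map_of_injective (MulEquiv.injective _)
  rw [← hJc, show Nat.card (Pairs a b c) =
    ({q : G × G | IsConj a q.1 ∧ IsConj b q.2 ∧ q.1 * q.2 = c} : Set (G × G)).ncard from Nat.card_coe_set_eq _]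
  refine dvd_ncard_of_orbits (J := J) _ ?_ ?_
  · rintro q ⟨h1, h2, h3⟩ _ ⟨⟨j, hj⟩, rfl⟩
    obtain ⟨g, hg, rfl⟩ := hj
    refine ⟨h1.trans (isConj_iff.mpr ⟨g, ?_⟩), h2.trans (isConj_iff.mpr ⟨g, ?_⟩), ?_⟩
    · simp [Subgroup.smul_def, ConjAct.smul_def]
    · simp [Subgroup.smul_def, ConjAct.smul_def]
    · simp only [Subgroup.smul_def, Prod.smul_fst, Prod.smul_snd, ← smul_mul', h3]
      simpa [ConjAct.smul_def] using hc g hg
  · intro q hq
    rw [← MulAction.index_stabilizer]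
    have hbot : MulAction.stabilizer J q = ⊥ := by
      rw [Subgroup.eq_bot_iff_forall]
      rintro ⟨j, hj⟩ hfix
      obtain ⟨g, hg, rfl⟩ := hj
      rw [MulAction.mem_stabilizer_iff] at hfix
      have h1 : g * q.1 * g⁻¹ = q.1 := by
        simpa [Subgroup.smul_def, ConjAct.smul_def] using congrArg Prod.fst hfix
      exact Subtype.ext (by simp [hfree g hg q.1 hq.1 h1])
    rw [hbot, Subgroup.index_bot]

/-- A character of `r`-defect zero vanishes on `r`-singular elements. -/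
theorem vanish_of_defect (χ : IrrCharacter G) {r M' : ℕ} (hr : r.Prime)
    (hdeg : charDegree (χ : G → ℂ) * M' = Nat.card G) (hrM : ¬ r ∣ M') {g : G} (hg : r ∣ orderOf g) :
    (χ : G → ℂ) g = 0 := by
  refine Char.vanishes_of_defect_zero hr χ.2 (charDegree_cast χ).symm ?_ g hg
  have hM0 : M' ≠ 0 := fun h => hrM (h ▸ dvd_zero r)
  rw [← hdeg, Nat.factorization_mul (charDegree_pos χ).ne' hM0, Finsupp.add_apply,
    Nat.factorization_eq_zero_of_not_dvd hrM, add_zero]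

/-- A rational integer divisible by `g` as an algebraic integer. -/
theorem dvd_one_of_isIntegral {g : ℕ} (hg : 0 < g) (h : IsIntegral ℤ ((-1 : ℂ) / (g : ℂ))) : g = 1 := by
  have h1 := h.neg
  rw [neg_div, neg_neg, ← Nat.cast_one] at h1
  exact Nat.dvd_one.mp (Char.nat_dvd_of_isIntegral_div hg.ne' h1)

end general

variable {G : Type*} [Group G] [Finite G] {p : ℕ} [Fact p.Prime] {x : G} {L : Subgroup G}
  {M : Ideal AlgInt} {hS : Setting p x L} {n u s : ℕ} {A C B D X : Finset (IrrCharacter G)} {f₀ m₀ : ℕ} {ε : ℤ}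

section setting

variable (hS) (hK : K x L = ⊥)
include hS hK

theorem ne_one_of_not_mem {y : L} : y ∉ K x L ↔ y ≠ 1 := by rw [hK, Subgroup.mem_bot]

theorem exists_pw_of_commute {g : G} (hg : Commute x g) : ∃ i : ZMod p, g = pw x i := by
  obtain ⟨i, k, rfl⟩ := hS.decomp hg
  have h1 : (k : L) = 1 := (Subgroup.eq_bot_iff_forall _).mp hK _ k.2
  exact ⟨i, by rw [h1, OneMemClass.coe_one, mul_one]⟩

/-- Every `p`-singular element is conjugate to a power of `x`. -/
theorem exists_conj_pw {g : G} (hg : p ∣ orderOf g) : ∃ i : ZMod p, i ≠ 0 ∧ IsConj g (pw x i) := by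
  have hp := hS.hp
  set h := g ^ (orderOf g / p) with hh
  have ho : orderOf h = p := orderOf_pow_orderOf_div (orderOf_pos g).ne' hg
  have hpP : IsPGroup p (Subgroup.zpowers h) := IsPGroup.of_card (n := 1) (by rw [Nat.card_zpowers, ho, pow_one])
  obtain ⟨Q, hQ⟩ := hpP.exists_le_sylow
  obtain ⟨c, hc⟩ := MulAction.exists_smul_eq G Q (P0 hS)
  have hmem : c * h * c⁻¹ ∈ Subgroup.zpowers x := by
    rw [← coe_P0 hS, ← hc, Sylow.coe_subgroup_smul]
    exact ⟨h, hQ (Subgroup.mem_zpowers h), rfl⟩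
  obtain ⟨i, hi⟩ := hS.exists_pw hmem
  have hi0 : i ≠ 0 := by
    rintro rfl
    rw [hS.pw_zero, conj_eq_one_iff] at hi
    rw [hi, orderOf_one] at ho
    exact hp.ne_one ho.symm
  have hcomm : Commute (pw x i) (c * g * c⁻¹) := by
    rw [← hi, hh, ← conj_pow]
    exact Commute.pow_self _ _
  obtain ⟨j, hj⟩ := exists_pw_of_commute hS hK ((hS.commute_pw_iff hi0).mp hcomm)
  refine ⟨j, ?_, isConj_iff.mpr ⟨c, hj⟩⟩
  rintro rfl
  rw [hS.pw_zero, conj_eq_one_iff] at hj
  rw [hj, orderOf_one] at hg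
  exact hp.not_dvd_one hg

theorem orderOf_of_dvd {g : G} (hg : p ∣ orderOf g) : orderOf g = p := by
  obtain ⟨i, hi, hc⟩ := exists_conj_pw hS hK hg
  obtain ⟨c, hc⟩ := isConj_iff.mp hc
  rw [← hS.orderOf_pw hi, ← hc, show c * g * c⁻¹ = MulAut.conj c g from rfl, MulEquiv.orderOf_eq]

/-- An element commuting with a regular nontrivial element is regular. -/
theorem not_commute_of_dvd {a g : G} (ha : ¬ p ∣ orderOf a) (ha1 : a ≠ 1) (hg : p ∣ orderOf g) :
    ¬ Commute g a := by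
  intro hcm
  obtain ⟨i, hi, hc⟩ := exists_conj_pw hS hK hg
  obtain ⟨c, hc⟩ := isConj_iff.mp hc
  have h1 : Commute (pw x i) (MulAut.conj c a) := by
    rw [← hc, show c * g * c⁻¹ = MulAut.conj c g from rfl]
    exact hcm.map (MulAut.conj c)
  obtain ⟨j, hj⟩ := exists_pw_of_commute hS hK ((hS.commute_pw_iff hi).mp h1)
  have ho : orderOf (pw x j) = orderOf a := by rw [← hj, MulEquiv.orderOf_eq]
  by_cases hj0 : j = 0
  · rw [hj0, hS.pw_zero, orderOf_one] at ho
    exact ha1 (orderOf_eq_one_iff.mp ho.symm)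
  · rw [hS.orderOf_pw hj0] at ho
    exact ha (dvd_of_eq ho)

theorem not_dvd_card_centralizer {a : G} (ha : ¬ p ∣ orderOf a) (ha1 : a ≠ 1) :
    ¬ p ∣ Nat.card (Subgroup.centralizer ({a} : Set G)) := by
  intro h
  obtain ⟨⟨g, hg⟩, ho⟩ := exists_prime_orderOf_dvd_card' p h
  rw [Subgroup.orderOf_mk] at ho
  exact not_commute_of_dvd hS hK ha ha1 (dvd_of_eq ho.symm) (Subgroup.mem_centralizer_singleton_iff.mp hg)

/-- A regular group fixes no conjugate of a nontrivial power of `x`. -/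
theorem eq_one_of_fix {H : Subgroup G} (hH : ¬ p ∣ Nat.card H) {i : ZMod p} (hi : i ≠ 0) :
    ∀ g ∈ H, ∀ a' : G, IsConj (pw x i) a' → g * a' * g⁻¹ = a' → g = 1 := by
  intro g hg a' ha' hfix
  by_contra hne
  obtain ⟨c, rfl⟩ := isConj_iff.mp ha'
  refine not_commute_of_dvd hS hK (a := g) (fun h => hH (h.trans (H.orderOf_dvd_natCard hg))) hne ?_
    (mul_inv_eq_iff_eq_mul.mp hfix).symm
  rw [show c * pw x i * c⁻¹ = MulAut.conj c (pw x i) from rfl, MulEquiv.orderOf_eq, hS.orderOf_pw hi]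

theorem card_G_eq (hn : Nat.card (Sylow p G) = 1 + n * p) :
    Nat.card G = p * (K x L).index * (1 + n * p) := by
  rw [card_G hS hn, card_L hS hK]

/-- The centralizer of a nontrivial element of `L`. -/
theorem exists_card_centralizer (hn : Nat.card (Sylow p G) = 1 + n * p) {y : L} (hy : y ≠ 1) :
    ∃ f, 0 < f ∧ f ∣ 1 + n * p ∧
      Nat.card (Subgroup.centralizer ({(y : G)} : Set G)) = (K x L).index * f := by
  haveI := isCyclic_L hS hK
  letI := IsCyclic.commGroup (α := L)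
  have hle : L ≤ Subgroup.centralizer ({(y : G)} : Set G) := fun a ha =>
    Subgroup.mem_centralizer_singleton_iff.mpr (congrArg Subtype.val (mul_comm (⟨a, ha⟩ : L) y) :)
  obtain ⟨f, hf⟩ := Subgroup.card_dvd_of_le hle
  rw [card_L hS hK] at hf
  have hf0 : 0 < f := Nat.pos_of_ne_zero fun h => by rw [h, mul_zero] at hf; exact Nat.card_pos.ne' hf
  refine ⟨f, hf0, ?_, hf⟩
  have hnd := not_dvd_card_centralizer hS hK (hS.regular_L y) (fun h => hy (Subtype.ext h))
  have hcop : f.Coprime p := (hS.hp.coprime_iff_not_dvd.mpr fun h => hnd (hf ▸ h.mul_left _)).symm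
  refine hcop.dvd_of_dvd_mul_left (?_ : f ∣ p * (1 + n * p))
  have h := Subgroup.card_subgroup_dvd_card (Subgroup.centralizer ({(y : G)} : Set G))
  rw [hf, card_G_eq hS hK hn, show p * (K x L).index * (1 + n * p) = (K x L).index * (p * (1 + n * p)) by ring] at h
  exact Nat.dvd_of_mul_dvd_mul_left (Nat.pos_of_ne_zero Subgroup.index_ne_zero_of_finite) h

/-- The value at `y` is divisible by the part `g` of the degree. -/
theorem isIntegral_div (hn : Nat.card (Sylow p G) = 1 + n * p) (χ : IrrCharacter G) {g M' : ℕ} (hg : 0 < g)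
    (hdeg : charDegree (χ : G → ℂ) * M' = g * (p * (1 + n * p))) (hco : Nat.Coprime g M') (y : L) :
    IsIntegral ℤ ((χ : G → ℂ) (y : G) / (g : ℂ)) := by
  classical
  have := Fintype.ofFinite G
  haveI := isCyclic_L hS hK
  letI := IsCyclic.commGroup (α := L)
  obtain ⟨d, ρ, hirr, hρ⟩ := χ.2
  have h := Char.isIntegral_classSize_mul_div ρ (y : G)
  rw [hρ, show ((Module.finrank ℂ (Fin d → ℂ) : ℕ) : ℂ) = (charDegree (χ : G → ℂ) : ℂ) by
    rw [charDegree_cast, ← hρ, Representation.char_one]] at h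
  have hle : L ≤ Subgroup.centralizer ({(y : G)} : Set G) := fun a ha =>
    Subgroup.mem_centralizer_singleton_iff.mpr (congrArg Subtype.val (mul_comm (⟨a, ha⟩ : L) y) :)
  obtain ⟨j, hj⟩ := Subgroup.card_dvd_of_le hle
  set C' := Subgroup.centralizer ({(y : G)} : Set G)
  have hidx : C'.index * j = p * (1 + n * p) := by
    refine Nat.eq_of_mul_eq_mul_left (Nat.pos_of_ne_zero (Subgroup.index_ne_zero_of_finite (H := K x L))) ?_
    rw [← card_L hS hK, ← mul_assoc (Nat.card L) p, mul_comm (Nat.card L) p, card_L hS hK, ← card_G_eq hS hK hn,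
      ← C'.card_mul_index, hj, card_L hS hK]
    ring
  have hd0 : (charDegree (χ : G → ℂ) : ℂ) ≠ 0 := Nat.cast_ne_zero.mpr (charDegree_pos χ).ne'
  have hg0 : (g : ℂ) ≠ 0 := Nat.cast_ne_zero.mpr hg.ne'
  refine Char.isIntegral_of_coprime_mul hco ?_ ?_
  · rw [mul_div_cancel₀ _ hg0]
    exact Char.IsCharacter.isIntegral (Char.IsIrrCharacter.isCharacter χ.2) _
  · have hdegC : (charDegree (χ : G → ℂ) : ℂ) * M' = g * ((C'.index : ℂ) * j) := by
      exact_mod_cast hdeg.trans (congrArg (g * ·) hidx.symm)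
    have heq : (M' : ℂ) * ((χ : G → ℂ) (y : G) / (g : ℂ)) =
        (j : ℂ) * ((C'.index : ℂ) * (χ : G → ℂ) (y : G) / (charDegree (χ : G → ℂ) : ℂ)) := by
      field_simp
      linear_combination (χ : G → ℂ) (y : G) * hdegC
    rw [heq]
    exact ((isIntegral_algebraMap (R := ℤ) (A := ℂ) (x := (j : ℤ))).mul h : _)

/-- At most `p` pairs of conjugates of an involution multiply to `x`. -/
theorem card_pairs_le {y : L} (hy : orderOf y = 2) :
    Nat.card (Pairs (y : G) (y : G) x) ≤ p := by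
  classical
  have hp := hS.hp
  have hy2 : ∀ w : G, IsConj (y : G) w → w * w = 1 := by
    intro w hw
    obtain ⟨c, rfl⟩ := isConj_iff.mp hw
    rw [show c * (y : G) * c⁻¹ * (c * (y : G) * c⁻¹) = c * ((y * y : L) : G) * c⁻¹ by push_cast; group,
      ← pow_two, ← hy, pow_orderOf_eq_one]
    simp
  rcases isEmpty_or_nonempty (Pairs (y : G) (y : G) x) with h | ⟨⟨q₀⟩⟩
  · rw [Nat.card_of_isEmpty]; exact Nat.zero_le _
  have hflip : ∀ q : Pairs (y : G) (y : G) x, q.1.1 * x = x⁻¹ * q.1.1 := by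
    rintro ⟨⟨w, v⟩, hw, hv, hwv⟩
    show w * x = x⁻¹ * w
    rw [← hwv, mul_inv_rev, inv_eq_of_mul_eq_one_right (hy2 v hv), inv_eq_of_mul_eq_one_right (hy2 w hw),
      ← mul_assoc, hy2 w hw, one_mul, mul_assoc, hy2 w hw, mul_one]
  have hmem : ∀ q : Pairs (y : G) (y : G) x, ∃ i : ZMod p, q₀.1.1 * q.1.1 = pw x i := by
    intro q
    refine exists_pw_of_commute hS hK ?_
    have h1 := hflip q₀
    have h2 := hflip q
    have h3 : q₀.1.1 * x⁻¹ = x * q₀.1.1 := by
      rw [mul_inv_eq_iff_eq_mul, mul_assoc, h1, mul_inv_cancel_left]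
    show x * (q₀.1.1 * q.1.1) = q₀.1.1 * q.1.1 * x
    rw [mul_assoc q₀.1.1, h2, ← mul_assoc q₀.1.1, h3, mul_assoc]
  choose i hi using hmem
  refine (Nat.card_le_card_of_injective i ?_).trans (le_of_eq (Nat.card_zmod p))
  intro q r hqr
  have h1 : q.1.1 = r.1.1 := mul_left_cancel ((hi q).trans (hqr ▸ (hi r).symm))
  have h2 : q.1.2 = r.1.2 := mul_left_cancel ((q.2.2.2.trans r.2.2.2.symm).trans (by rw [h1]))
  exact Subtype.ext (Prod.ext h1 h2)

/-- Not all powers of `x` are conjugate when `e < p - 1`. -/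
theorem exists_not_conj (he : (K x L).index < p - 1) : ∃ i : ZMod p, i ≠ 0 ∧ ¬ IsConj x (pw x i) := by
  classical
  by_contra hcon
  push Not at hcon
  have hsurj : Function.Surjective (CyclicDefect.alpha hS) := by
    intro v
    obtain ⟨c, hc⟩ := isConj_iff.mp (hcon (v : ZMod p) v.ne_zero)
    have hN : c ∈ Subgroup.normalizer (Subgroup.zpowers x : Set G) := by
      have hle : Subgroup.zpowers (pw x (v : ZMod p)) = Subgroup.zpowers x :=
        Subgroup.eq_of_le_of_card_ge (Subgroup.zpowers_le.mpr (hS.pw_mem _))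
          (by rw [Nat.card_zpowers, Nat.card_zpowers, hS.orderOf_pw v.ne_zero, hS.hx])
      have hmap : (Subgroup.zpowers x).map (MulAut.conj c).toMonoidHom = Subgroup.zpowers x := by
        rw [MonoidHom.map_zpowers]
        show Subgroup.zpowers (c * x * c⁻¹) = _
        rw [hc, hle]
      have : c • P0 hS = P0 hS := Sylow.ext (by rw [Sylow.coe_subgroup_smul]; exact hmap)
      exact Sylow.smul_eq_iff_mem_normalizer.mp this
    obtain ⟨w, hw, l, hl, rfl⟩ := hS.hgen c hN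
    refine ⟨⟨l, hl⟩, Units.ext (hS.pw_inj ?_)⟩
    rw [← mul_one ((CyclicDefect.alpha hS ⟨l, hl⟩ : (ZMod p)ˣ) : ZMod p), ← CyclicDefect.alpha_spec hS, hS.pw_one, ← hc]
    obtain ⟨j, rfl⟩ := hS.exists_pw hw
    obtain ⟨k, hk⟩ : ∃ k : ZMod p, l * x * l⁻¹ = pw x k := hS.exists_alpha ⟨l, hl⟩
    show l * x * l⁻¹ = _
    rw [show pw x j * l * x * (pw x j * l)⁻¹ = pw x j * (l * x * l⁻¹) * (pw x j)⁻¹ by group, hk,
      (hS.commute_pw j (hS.commute_pw k (Commute.refl x)).symm).eq, mul_inv_cancel_right]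
  have h := Nat.card_le_card_of_surjective _ hsurj
  rw [card_L hS hK, Nat.card_eq_fintype_card, ZMod.card_units] at h
  omega

end setting

section block

variable (h : Blk hS M n u s A C B D X f₀ m₀ ε) (hP : Par p n u s) (hK : K x L = ⊥) (hM : IsPModular p M)
include h hP hK hM

/-- Summation by types. -/
theorem Blk.sum_irr [Fintype (IrrCharacter G)] {R : Type*} [AddCommMonoid R] (F : IrrCharacter G → R) :
    ∑ χ, F χ = F (oneG G) + ∑ a ∈ A, F a + ∑ c ∈ C, F c + ∑ b ∈ B, F b + ∑ d ∈ D, F d + ∑ c ∈ X, F c +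
      ∑ z ∈ Zset p G, F z := by
  classical
  rw [← h.sum_PB hP hM F, ← Finset.sum_filter_add_sum_filter_not Finset.univ
    (fun χ => χ ∈ principalBlock M G) F]
  congr 1
  refine Finset.sum_congr (Finset.ext fun χ => ?_) fun _ _ => rfl
  simp only [Zset, Finset.mem_filter, Finset.mem_univ, true_and]
  rcases irr_cases hS hK hM χ with h' | h' <;> tauto

omit h hP in
theorem apply_Z_singular [Fintype (IrrCharacter G)] (hS : Setting p x L) {χ : IrrCharacter G} (hχ : χ ∈ Zset p G)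
    {g : G} (hg : p ∣ orderOf g) : (χ : G → ℂ) g = 0 := by
  classical
  rcases irr_cases hS hK hM χ with h' | h'
  · exact absurd (Finset.mem_filter.mp hχ).2 h'.2
  · exact h'.2.2 g hg

theorem Blk.apply_B {χ : IrrCharacter G} (hχ : χ ∈ B) {y : L} (hy : y ≠ 1) : (χ : G → ℂ) (y : G) = 0 := by
  obtain ⟨φ, hφc, h1, hval, -⟩ := h.fixB hP hM hχ
  rw [hval y ((ne_one_of_not_mem hS hK).mpr hy)]
  have := Char.IsCharacter.norm_le hφc y
  rw [h1, Nat.cast_zero, Complex.zero_re] at this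
  exact norm_le_zero_iff.mp this

theorem Blk.rel_L {y : L} (hy : y ≠ 1) {χ : IrrCharacter G} (hχ : χ ∈ X) :
    -1 - ∑ a ∈ A, (a : G → ℂ) (y : G) - ∑ c ∈ C, (c : G → ℂ) (y : G) + ∑ d ∈ D, (d : G → ℂ) (y : G) +
      (ε : ℂ) * (χ : G → ℂ) (y : G) = 0 := by
  have h1 := h.rel (y : G) (hS.regular_L y) χ hχ
  rw [Finset.sum_eq_zero (s := B) fun b hb => h.apply_B hP hK hM hb hy, add_zero] at h1
  exact h1

theorem Blk.rel_L0 (hX : X = ∅) {y : L} (hy : y ≠ 1) :
    -1 - ∑ a ∈ A, (a : G → ℂ) (y : G) - ∑ c ∈ C, (c : G → ℂ) (y : G) + ∑ d ∈ D, (d : G → ℂ) (y : G) = 0 := by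
  have h1 := h.rel0 hX (y : G) (hS.regular_L y)
  rw [Finset.sum_eq_zero (s := B) fun b hb => h.apply_B hP hK hM hb hy, add_zero] at h1
  exact h1

omit hK in
theorem Blk.apply_X_eq {g : G} (hg : ¬ p ∣ orderOf g) {χ ψ : IrrCharacter G} (hχ : χ ∈ X) (hψ : ψ ∈ X) :
    (χ : G → ℂ) g = (ψ : G → ℂ) g := by
  have hε : ε ≠ 0 := by
    rcases h.cases with h1 | ⟨-, -, -, hxt⟩
    · simp [h1.1] at hχ
    · cases hxt <;> simp
  refine mul_left_cancel₀ (Int.cast_ne_zero.mpr hε : (ε : ℂ) ≠ 0) ?_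
  linear_combination h.rel g hg χ hχ - h.rel g hg ψ hψ

variable (hn : Nat.card (Sylow p G) = 1 + n * p)
include hn

/-- The pairs of conjugates of `y` with product `x`. -/
theorem Blk.square_count [Fintype (IrrCharacter G)] {y : L} (hy : y ≠ 1) {z : ℂ}
    (hz : ∀ χ ∈ X, (χ : G → ℂ) (y : G) = z) :
    ∃ f k : ℕ, 0 < f ∧ f ∣ 1 + n * p ∧
      Nat.card (Subgroup.centralizer ({(y : G)} : Set G)) = (K x L).index * f ∧ (orderOf y = 2 → k ≤ 1) ∧
      (k : ℂ) * ((K x L).index : ℂ) * (f : ℂ) ^ 2 =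
        ((1 + n * p : ℕ) : ℂ) + ∑ a ∈ A, (a : G → ℂ) (y : G) ^ 2 +
          ((p + u + 1 : ℕ) : ℂ) * (∑ c ∈ C, (c : G → ℂ) (y : G) ^ 2) / ((u + 1 : ℕ) : ℂ) -
          ((u * s + 1 : ℕ) : ℂ) * (∑ d ∈ D, (d : G → ℂ) (y : G) ^ 2) / (s : ℂ) -
          (ε : ℂ) * z ^ 2 * ((1 + n * p : ℕ) : ℂ) / (f₀ : ℂ) := by
  classical
  have hp := hS.hp
  obtain ⟨f, hf0, hfd, hf⟩ := exists_card_centralizer hS hK hn hy
  have hy1 : (y : G) ≠ 1 := fun h1 => hy (Subtype.ext h1)
  obtain ⟨k, hk⟩ : p ∣ Nat.card (Pairs (y : G) (y : G) x) := by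
    have := dvd_card_pairs (y : G) (y : G) x (Subgroup.zpowers x) (fun g hg => by
        obtain ⟨i, rfl⟩ := hS.exists_pw hg
        rw [(hS.commute_pw i (Commute.refl x)).eq, mul_inv_cancel_right])
      (fun g hg a' ha' hfix => by
        obtain ⟨i, rfl⟩ := hS.exists_pw hg
        by_contra hne
        obtain ⟨c, hc⟩ := isConj_iff.mp ha'
        have ho : orderOf a' = orderOf (y : G) := by
          rw [← hc, show c * (y : G) * c⁻¹ = MulAut.conj c (y : G) from rfl, MulEquiv.orderOf_eq]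
        refine not_commute_of_dvd hS hK (a := a') (by rw [ho]; exact hS.regular_L y) (fun h1 => ?_)
          (dvd_of_eq (hS.orderOf_pw fun h0 => hne (by rw [h0, hS.pw_zero])).symm) (mul_inv_eq_iff_eq_mul.mp hfix)
        rw [h1, orderOf_one] at ho
        exact hy1 (orderOf_eq_one_iff.mp ho.symm))
    rwa [hS.card_zpowers_eq] at this
  refine ⟨f, k, hf0, hfd, hf, fun h2 => ?_, ?_⟩
  · have := card_pairs_le hS hK h2
    rw [hk] at this
    exact Nat.le_of_mul_le_mul_left (this.trans (Nat.mul_one p).ge) hp.pos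
  have hcp := card_pairs (y : G) (y : G) x
  rw [hk, hf, card_G_eq hS hK hn] at hcp
  have hp0 : (p : ℂ) ≠ 0 := Nat.cast_ne_zero.mpr hp.ne_zero
  have he0 : ((K x L).index : ℂ) ≠ 0 := Nat.cast_ne_zero.mpr Subgroup.index_ne_zero_of_finite
  have hN0 : ((1 + n * p : ℕ) : ℂ) ≠ 0 := Nat.cast_ne_zero.mpr (by omega)
  have key : (k : ℂ) * ((K x L).index : ℂ) * (f : ℂ) ^ 2 = ((1 + n * p : ℕ) : ℂ) * ∑ χ : IrrCharacter G,
      (χ : G → ℂ) (y : G) * (χ : G → ℂ) (y : G) * conj ((χ : G → ℂ) x) / (χ : G → ℂ) 1 := by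
    refine mul_left_cancel₀ (mul_ne_zero hp0 he0) ?_
    push_cast at hcp ⊢
    linear_combination hcp
  have hxo : p ∣ orderOf x := dvd_of_eq hS.hx.symm
  have hA : (u * s + 1) * (p + u + 1) = 1 + n * p := hP.card_eq.symm
  have hu0 : ((u + 1 : ℕ) : ℂ) ≠ 0 := Nat.cast_ne_zero.mpr (by omega)
  have hs0 : (s : ℂ) ≠ 0 := Nat.cast_ne_zero.mpr (by have := hP.hus; omega)
  have hA0 : ((u * s + 1 : ℕ) : ℂ) ≠ 0 := Nat.cast_ne_zero.mpr (by omega)
  have hP0 : ((p + u + 1 : ℕ) : ℂ) ≠ 0 := Nat.cast_ne_zero.mpr (by omega)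
  rw [key, h.sum_irr hP hK hM, oneG_apply, oneG_apply, oneG_apply, map_one,
    Finset.sum_congr (s₁ := A) rfl (g := fun a => (a : G → ℂ) (y : G) ^ 2 / ((1 + n * p : ℕ) : ℂ)) fun a ha => by
      rw [← charDegree_cast a, (h.memA a ha).2.1, hA, ← hS.pw_one, (h.memA a ha).2.2.2.2 1 one_ne_zero, map_one,
        mul_one, pow_two],
    Finset.sum_congr (s₁ := C) rfl
      (g := fun c => (c : G → ℂ) (y : G) ^ 2 / (((u + 1 : ℕ) : ℂ) * ((u * s + 1 : ℕ) : ℂ))) fun c hc => by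
      rw [← charDegree_cast c, (h.memC c hc).2.1, ← hS.pw_one, (h.memC c hc).2.2.2.2 1 one_ne_zero, map_one,
        mul_one, pow_two, Nat.cast_mul],
    Finset.sum_eq_zero (s := B) fun b hb => by rw [h.apply_B hP hK hM hb hy, zero_mul, zero_mul, zero_div],
    Finset.sum_congr (s₁ := D) rfl
      (g := fun d => -((d : G → ℂ) (y : G) ^ 2 / ((s : ℂ) * ((p + u + 1 : ℕ) : ℂ)))) fun d hd => by
      rw [← charDegree_cast d, (h.memD d hd).2.1, ← hS.pw_one, (h.memD d hd).2.2.2.2 1 one_ne_zero, map_neg,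
        map_one, Nat.cast_mul]
      ring,
    Finset.sum_congr (s₁ := X) rfl (g := fun c => z ^ 2 / (f₀ : ℂ) * conj ((c : G → ℂ) x)) fun c hc => by
      rw [← charDegree_cast c, (h.memX c hc).2.1, hz c hc]
      ring,
    ← Finset.mul_sum, ← map_sum,
    Finset.sum_congr (s₁ := X) rfl (g := fun c => (c : G → ℂ) (pw x (1 : ZMod p))) fun c _ => by rw [hS.pw_one],
    h.sumX 1 one_ne_zero, map_neg, map_intCast,
    Finset.sum_eq_zero (s := Zset p G) fun c hc => by
      rw [apply_Z_singular hK hM hS hc hxo, map_zero, mul_zero, zero_div],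
    ← Finset.sum_div, ← Finset.sum_div, Finset.sum_neg_distrib, ← Finset.sum_div, ← hA]
  push_cast at hu0 hA0 hP0 ⊢
  field_simp
  ring

end block

end Cfsg.Agent.FewSylowClass
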