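/-
The exceptional families of degree `g (p + u + 1)` and `g (u s + 1)` when `C(x) = ⟨x⟩`
(namespace `Cfsg.Agent.FewSylowClass`).

Main results: `parity_bot`, `Blk.A_empty`, `Blk.count_eq`, `Blk.degP_case`, `Blk.not_degU`.
-/
import Cfsg.Agent.Lib.FewSylowClass.Tools

set_option autoImplicit false
set_option linter.unusedSectionVars false
set_option linter.style.haveILetI false

open scoped ComplexConjugate

namespace Cfsg.Agent.FewSylowClass

open Cfsg Cfsg.Agent.Blocks Cfsg.Agent.CyclicDefect Cfsg.Agent.BrauerN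

variable {G : Type*} [Group G] [Finite G] {p : ℕ} [Fact p.Prime] {x : G} {L : Subgroup G}
  {M : Ideal AlgInt} {hS : Setting p x L} {n u s : ℕ} {A C B D X : Finset (IrrCharacter G)} {f₀ m₀ : ℕ} {ε : ℤ}

theorem exists_orderOf (hS : Setting p x L) (hK : K x L = ⊥) {r : ℕ} (hr : r.Prime) (h : r ∣ (K x L).index) :
    ∃ y : L, orderOf y = r ∧ y ≠ 1 := by
  haveI := Fact.mk hr
  obtain ⟨y, hy⟩ := exists_prime_orderOf_dvd_card' (G := L) r (by rwa [card_L hS hK])
  exact ⟨y, hy, fun h1 => hr.ne_one (by rw [← hy, h1, orderOf_one])⟩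

theorem Par.cop_C (hP : Par p n u s) (hp : p.Prime) : Nat.Coprime (u + 1) (p * (p + u + 1)) := by
  have h1 : Nat.Coprime (u + 1) p := ((hp.coprime_iff_not_dvd).mpr fun hd => by
    have := Nat.le_of_dvd (by omega) hd
    have := hP.hus
    have := hP.two_le_s
    have h2 : 2 * s ≤ (u + 1) * s := Nat.mul_le_mul_right s (by have := hP.hu; omega)
    have := hP.hpe
    omega).symm
  refine h1.mul_right ?_
  rw [add_assoc]
  exact Nat.coprime_add_self_right.mpr h1

theorem Par.cop_D (hP : Par p n u s) (hp : p.Prime) : Nat.Coprime s (p * (u * s + 1)) := by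
  refine Nat.Coprime.mul_right ((hp.coprime_iff_not_dvd.mpr fun hd => ?_).symm) ?_
  · have := Nat.le_of_dvd (by have := hP.two_le_s; omega) hd
    have := Nat.le_mul_of_pos_left s (show 0 < u + 1 by omega)
    have := hP.hpe
    omega
  · rw [Nat.coprime_mul_right_add_right]
    exact Nat.coprime_one_right s

/-- If `e` is even, `u` is even or `s` is odd. -/
theorem parity_bot (hS : Setting p x L) (hP : Par p n u s) (hK : K x L = ⊥) (hperf : commutator G = ⊤)
    (hn : Nat.card (Sylow p G) = 1 + n * p) (he : 2 ∣ (K x L).index) : 2 ∣ u ∨ ¬ 2 ∣ s := by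
  have h := parity hP hS hperf hn (fun w y hw hc => by
    rw [hK, Subgroup.mem_bot] at hw ⊢
    rw [hw, OneMemClass.coe_one, isConj_one_left] at hc
    exact Subtype.ext hc) he
  rw [hP.card_eq] at h
  by_contra hcon
  push Not at hcon
  obtain ⟨hu2, hs2⟩ := hcon
  have hu3 : u % 2 = 1 := by omega
  have hs3 : s % 2 = 0 := by omega
  have h1 : (u * s) % 2 = 0 := by rw [Nat.mul_mod, hs3, Nat.mul_zero, Nat.zero_mod]
  have h2 : ((u + 1) * s) % 2 = 0 := by rw [Nat.mul_mod, hs3, Nat.mul_zero, Nat.zero_mod]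
  have h3 := hP.hpe
  rcases Nat.prime_two.dvd_mul.mp h with h | h <;> omega

namespace Blk

variable (h : Blk hS M n u s A C B D X f₀ m₀ ε) (hP : Par p n u s) (hK : K x L = ⊥) (hM : IsPModular p M)
  (hn : Nat.card (Sylow p G) = 1 + n * p)
include h hP hK hM hn

theorem index_eq (ht : 2 ≤ X.card) : (K x L).index * X.card = (u + 1) * s := by
  rcases h.cases with ⟨hX, -⟩ | ⟨-, h1, -, -⟩
  · rw [hX, Finset.card_empty] at ht; omega
  · rw [h1, hP.p_sub]

theorem A_empty (ht : 2 ≤ X.card) : A = ∅ := by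
  classical
  by_contra hne
  obtain ⟨α, hα⟩ := Finset.nonempty_iff_ne_empty.mpr hne
  have := Fintype.ofFinite (IrrCharacter G)
  have hle : (charDegree (α : G → ℂ)) ^ 2 ≤ Nat.card G := by
    have h1 := Char.sum_sq_degrees (G := G)
    have h2 : ((∑ ψ : IrrCharacter G, charDegree (ψ : G → ℂ) ^ 2 : ℕ) : ℂ) = (Nat.card G : ℂ) := by
      rw [← h1, Nat.cast_sum]
      exact Finset.sum_congr rfl fun ψ _ => by rw [Nat.cast_pow, charDegree_cast]
    rw [← Nat.cast_inj.mp h2]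
    exact Finset.single_le_sum (f := fun ψ : IrrCharacter G => charDegree (ψ : G → ℂ) ^ 2)
      (fun _ _ => Nat.zero_le _) (Finset.mem_univ α)
  rw [(h.memA α hα).2.1, ← hP.card_eq, card_G_eq hS hK hn, pow_two] at hle
  have h3 := Nat.le_of_mul_le_mul_right hle (by omega)
  have h4 : n < (K x L).index := by
    refine Nat.lt_of_mul_lt_mul_right (a := p) ?_
    rw [mul_comm (K x L).index]
    omega
  have h5 := h.index_eq hP hK hM hn ht
  have h6 := Nat.mul_le_mul_left (K x L).index ht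
  have h7 := hP.hne
  have h8 : (u + 1) * s = u * s + s := by ring
  have h9 : s * 1 ≤ u * s := by rw [mul_comm u]; exact Nat.mul_le_mul_left s hP.hu
  omega

/-- The numbers of characters. -/
theorem count_eq (ht : 2 ≤ X.card) :
    (C.card : ℤ) * (u + 1) + 1 = ((K x L).index : ℤ) + ε * m₀ + D.card * s ∧
      C.card + B.card + D.card + 1 = (K x L).index := by
  have hid := h.ident hP
  have hA : A.card = 0 := by rw [h.A_empty hP hK hM hn ht, Finset.card_empty]
  have hX : X ≠ ∅ := fun hX => by rw [hX, Finset.card_empty] at ht; omega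
  rcases h.cases with ⟨hX0, -⟩ | ⟨-, -, hc, -⟩
  · exact absurd hX0 hX
  rw [hA, if_neg hX] at hid
  rw [hA, zero_add] at hc
  refine ⟨?_, hc⟩
  have hc' : (C.card : ℤ) + B.card + D.card + 1 = ((K x L).index : ℤ) := by exact_mod_cast hc
  push_cast at hid
  linear_combination hid + hc'

theorem isIntegral_C {χ : IrrCharacter G} (hχ : χ ∈ C) (y : L) :
    IsIntegral ℤ ((χ : G → ℂ) (y : G) / ((u + 1 : ℕ) : ℂ)) :=
  isIntegral_div hS hK hn χ (g := u + 1) (M' := p * (p + u + 1)) (by omega)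
    (by rw [(h.memC χ hχ).2.1, hP.card_eq]; ring) (hP.cop_C hS.hp) y

theorem isIntegral_D {χ : IrrCharacter G} (hχ : χ ∈ D) (y : L) :
    IsIntegral ℤ ((χ : G → ℂ) (y : G) / (s : ℂ)) :=
  isIntegral_div hS hK hn χ (g := s) (M' := p * (u * s + 1)) (by have := hP.two_le_s; omega)
    (by rw [(h.memD χ hχ).2.1, hP.card_eq]; ring) (hP.cop_D hS.hp) y

set_option maxHeartbeats 1000000 in
/-- An exceptional degree `g (p + u + 1)`. -/
theorem degP_case (hperf : commutator G = ⊤) (ht : 2 ≤ X.card) (hε : ε = 1) (hf : f₀ = m₀ * (p + u + 1))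
    (hg : (K x L).index = m₀ * (u + 1)) :
    (K x L).index = u + 1 ∧ X.card = s ∧ m₀ = 1 ∧ C.card = 1 ∧ D = ∅ ∧ B.card + 1 = u := by
  classical
  have hp := hS.hp
  have hp5 := hP.five_le
  have hu := hP.hu
  have hus := hP.hus
  obtain ⟨hcnt, hsum⟩ := h.count_eq hP hK hM hn ht
  rw [hε, one_mul, hg] at hcnt
  have hts : m₀ * X.card = s := by
    have h1 := h.index_eq hP hK hM hn ht
    rw [hg] at h1
    exact Nat.eq_of_mul_eq_mul_left (show 0 < u + 1 by omega) (by rw [← h1]; ring)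
  have hg0 : 0 < m₀ := Nat.pos_of_ne_zero fun h0 => by rw [h0, zero_mul] at hts; omega
  have hcop : Nat.Coprime m₀ (u + 1) := by
    refine Nat.coprime_of_dvd fun r hr h1 h2 => hr.not_dvd_one ?_
    have e1 : (r : ℤ) ∣ m₀ := by exact_mod_cast h1
    have e2 : (r : ℤ) ∣ (u : ℤ) + 1 := by exact_mod_cast h2
    have e3 : (r : ℤ) ∣ s := by exact_mod_cast (h1.trans ⟨_, hts.symm⟩ : r ∣ s)
    have e4 : (r : ℤ) ∣ 1 := by
      rw [show (1 : ℤ) = ((m₀ * (u + 1) : ℕ) : ℤ) + m₀ + D.card * s - (C.card : ℤ) * (u + 1) by linarith]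
      refine Int.dvd_sub (Int.dvd_add (Int.dvd_add ?_ e1) (e3.mul_left _)) (e2.mul_left _)
      push_cast
      exact e1.mul_right _
    exact_mod_cast e4
  have hm1 : m₀ = 1 := by
    by_contra hne
    obtain ⟨r, hr, hrg⟩ := Nat.exists_prime_and_dvd hne
    have hrs : r ∣ s := hrg.trans ⟨_, hts.symm⟩
    obtain ⟨y, hy, hy1⟩ := exists_orderOf hS hK hr (hg ▸ hrg.mul_right _)
    have hyo : r ∣ orderOf (y : G) := by rw [Subgroup.orderOf_coe, hy]
    have hru : ¬ r ∣ u + 1 := fun h2 => hr.not_dvd_one (hcop ▸ Nat.dvd_gcd hrg h2)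
    have hrp : ¬ r ∣ p := fun h2 => by
      rw [(Nat.prime_dvd_prime_iff_eq hr hp).mp h2] at hrs
      exact hp.not_dvd_one ((Nat.dvd_add_right (hrs.mul_left (u + 1))).mp ⟨1, by rw [mul_one]; exact hP.hpe.symm⟩)
    have hrA : ¬ r ∣ u * s + 1 := fun h2 => hr.not_dvd_one ((Nat.dvd_add_right (hrs.mul_left u)).mp h2)
    obtain ⟨χ, hχ⟩ : X.Nonempty := Finset.card_pos.mp (by omega)
    have hX0 : (χ : G → ℂ) (y : G) = 0 := by
      refine vanish_of_defect χ hr (M' := p * (u + 1) * (u * s + 1)) ?_ ?_ hyo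
      · rw [(h.memX χ hχ).2.1, hf, card_G_eq hS hK hn, hg, hP.card_eq]; ring
      · exact fun h2 => (hr.dvd_mul.mp h2).elim (fun h3 => (hr.dvd_mul.mp h3).elim hrp hru) hrA
    have hD0 : ∀ ψ ∈ D, (ψ : G → ℂ) (y : G) = 0 := by
      intro ψ hψ
      obtain ⟨e', he'⟩ := h.dvdD ⟨ψ, hψ⟩
      have hte : X.card * e' = u + 1 := by
        refine Nat.eq_of_mul_eq_mul_left hg0 ?_
        rw [← mul_assoc, hts, ← he', hg]
      refine vanish_of_defect ψ hr (M' := p * e' * (u * s + 1)) ?_ ?_ hyo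
      · rw [(h.memD ψ hψ).2.1, card_G_eq hS hK hn, he', hP.card_eq]; ring
      · exact fun h2 => (hr.dvd_mul.mp h2).elim
          (fun h3 => (hr.dvd_mul.mp h3).elim hrp fun h4 => hru (hte ▸ h4.mul_left _)) hrA
    have hrel := h.rel_L hP hK hM hy1 hχ
    rw [h.A_empty hP hK hM hn ht, Finset.sum_empty, Finset.sum_eq_zero hD0, hX0] at hrel
    have hint : IsIntegral ℤ ((-1 : ℂ) / ((u + 1 : ℕ) : ℂ)) := by
      rw [show (-1 : ℂ) = ∑ c ∈ C, (c : G → ℂ) (y : G) by linear_combination hrel, Finset.sum_div]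
      exact IsIntegral.sum _ fun c hc => h.isIntegral_C hP hK hM hn hc y
    have := dvd_one_of_isIntegral (Nat.succ_pos u) hint
    omega
  subst hm1
  rw [one_mul] at hts hg hcnt
  have hD : D = ∅ := by
    by_contra hne
    have hse : s ∣ u + 1 := hg ▸ h.dvdD (Finset.nonempty_iff_ne_empty.mpr hne)
    have hsu : s = u + 1 := le_antisymm (Nat.le_of_dvd (by omega) hse) hus
    by_cases h2 : 2 ∣ u + 1
    · rcases parity_bot hS hP hK hperf hn (hg ▸ h2) with h3 | h3 <;> omega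
    · have h4 : ((u + 1) * s) % 2 = 1 := by rw [hsu, Nat.mul_mod, show (u + 1) % 2 = 1 by omega]
      have h5 := hp.eq_two_or_odd
      have := hP.hpe
      omega
  rw [hD, Finset.card_empty] at hcnt hsum
  push_cast at hcnt
  have hc : (C.card : ℤ) = 1 := by
    refine mul_right_cancel₀ (show ((u : ℤ) + 1) ≠ 0 by omega) ?_
    linarith
  have hc' : C.card = 1 := by exact_mod_cast hc
  exact ⟨hg, hts, rfl, hc', hD, by omega⟩

/-- No exceptional degree `g (u s + 1)`. -/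
theorem not_degU (hperf : commutator G = ⊤) (ht : 2 ≤ X.card) (hε : ε = -1) (hf : f₀ = m₀ * (u * s + 1))
    (hg : m₀ * X.card = u + 1) : False := by
  classical
  have hp := hS.hp
  have hu := hP.hu
  have hus := hP.hus
  have hp5 := hP.five_le
  obtain ⟨hcnt, hsum⟩ := h.count_eq hP hK hM hn ht
  have he : (K x L).index = m₀ * s := by
    have h1 := h.index_eq hP hK hM hn ht
    refine Nat.eq_of_mul_eq_mul_right (show 0 < X.card by omega) ?_
    rw [h1, ← hg]; ring
  rw [hε, he] at hcnt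
  push_cast at hcnt
  have hg0 : 0 < m₀ := Nat.pos_of_ne_zero fun h0 => by rw [h0, zero_mul] at hg; omega
  have hs2 : (2 : ℤ) ≤ s := by exact_mod_cast hP.two_le_s
  rcases Nat.eq_zero_or_pos C.card with hc | hc
  · rw [hc] at hcnt
    push_cast at hcnt
    have h1 : (1 : ℤ) ≤ m₀ := by exact_mod_cast hg0
    have h2 : (0 : ℤ) ≤ D.card := by positivity
    have h3 := mul_le_mul_of_nonneg_left hs2 (show (0 : ℤ) ≤ (m₀ : ℤ) + D.card by omega)
    have hm : (m₀ : ℤ) = 1 := by linarith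
    have hd : (D.card : ℤ) = 0 := by linarith
    rw [hm, hd] at hcnt
    have hs : s = 2 := by omega
    have hu1 : u = 1 := by omega
    rcases parity_bot hS hP hK hperf hn (he ▸ (dvd_of_eq hs.symm).mul_left _) with h4 | h4 <;> omega
  have hts : X.card ∣ s := by
    obtain ⟨w, hw⟩ := h.dvdC (Finset.card_pos.mp hc)
    rw [he, ← hg, mul_assoc] at hw
    exact ⟨w, Nat.eq_of_mul_eq_mul_left hg0 hw⟩
  have hcop : Nat.Coprime m₀ s := by
    refine Nat.coprime_of_dvd fun r hr h1 h2 => hr.not_dvd_one ?_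
    have e1 : (r : ℤ) ∣ m₀ := by exact_mod_cast h1
    have e2 : (r : ℤ) ∣ (u : ℤ) + 1 := by exact_mod_cast (h1.trans ⟨_, hg.symm⟩ : r ∣ u + 1)
    have e3 : (r : ℤ) ∣ s := by exact_mod_cast h2
    have e4 : (r : ℤ) ∣ 1 := by
      rw [show (1 : ℤ) = (m₀ : ℤ) * s + (-1) * m₀ + D.card * s - (C.card : ℤ) * (u + 1) by linarith]
      exact Int.dvd_sub (Int.dvd_add (Int.dvd_add (e1.mul_right _) (e1.mul_left _)) (e3.mul_left _)) (e2.mul_left _)
    exact_mod_cast e4
  have hm1 : m₀ = 1 := by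
    obtain ⟨r, hr, hrs⟩ := Nat.exists_prime_and_dvd (show s ≠ 1 by omega)
    obtain ⟨y, hy, hy1⟩ := exists_orderOf hS hK hr (he ▸ hrs.mul_left _)
    have hyo : r ∣ orderOf (y : G) := by rw [Subgroup.orderOf_coe, hy]
    have hD0 : ∀ ψ ∈ D, (ψ : G → ℂ) (y : G) = 0 := by
      intro ψ hψ
      refine vanish_of_defect ψ hr (M' := p * m₀ * (u * s + 1)) ?_ ?_ hyo
      · rw [(h.memD ψ hψ).2.1, card_G_eq hS hK hn, he, hP.card_eq]; ring
      · refine fun h2 => (hr.dvd_mul.mp h2).elim (fun h3 => (hr.dvd_mul.mp h3).elim (fun h4 => ?_)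
          fun h4 => hr.not_dvd_one (hcop ▸ Nat.dvd_gcd h4 hrs)) fun h4 => ?_
        · exact hr.not_dvd_one ((hP.cop_D hp) ▸ Nat.dvd_gcd hrs (h4.mul_right _))
        · exact hr.not_dvd_one ((hP.cop_D hp) ▸ Nat.dvd_gcd hrs (h4.mul_left _))
    obtain ⟨χ, hχ⟩ : X.Nonempty := Finset.card_pos.mp (by omega)
    have hrel := h.rel_L hP hK hM hy1 hχ
    rw [h.A_empty hP hK hM hn ht, Finset.sum_empty, Finset.sum_eq_zero hD0, hε] at hrel
    push_cast at hrel
    refine dvd_one_of_isIntegral hg0 ?_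
    rw [show (-1 : ℂ) = ∑ c ∈ C, (c : G → ℂ) (y : G) + (χ : G → ℂ) (y : G) by linear_combination hrel,
      add_div, Finset.sum_div]
    refine (IsIntegral.sum _ fun c hc' => ?_).add
      (isIntegral_div hS hK hn χ (M' := p * (p + u + 1)) hg0 (by rw [(h.memX χ hχ).2.1, hf, hP.card_eq]; ring)
        ((hP.cop_C hp).coprime_dvd_left ⟨_, hg.symm⟩) y)
    have h5 := (isIntegral_algebraMap (R := ℤ) (A := ℂ) (x := (X.card : ℤ))).mul (h.isIntegral_C hP hK hM hn hc' y)
    convert h5 using 1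
    have hgC : ((u + 1 : ℕ) : ℂ) = (m₀ : ℂ) * (X.card : ℂ) := by rw [← hg, Nat.cast_mul]
    have hX0 : (X.card : ℂ) ≠ 0 := Nat.cast_ne_zero.mpr (by omega)
    rw [hgC, show (algebraMap ℤ ℂ) (X.card : ℤ) = (X.card : ℂ) by simp]
    field_simp
  subst hm1
  rw [one_mul] at hg he
  obtain ⟨w, hw⟩ := hts
  have ht2 : X.card ∣ 2 := by
    have e1 : (X.card : ℤ) ∣ (u : ℤ) + 1 := by exact_mod_cast (dvd_of_eq hg : X.card ∣ u + 1)
    have e2 : (X.card : ℤ) ∣ s := by exact_mod_cast (⟨w, hw⟩ : X.card ∣ s)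
    have e3 : (X.card : ℤ) ∣ 2 := by
      rw [show (2 : ℤ) = (s : ℤ) + D.card * s - (C.card : ℤ) * (u + 1) by push_cast at hcnt; linarith]
      exact Int.dvd_sub (Int.dvd_add e2 (e2.mul_left _)) (e1.mul_left _)
    exact_mod_cast e3
  have ht2' := Nat.le_of_dvd two_pos ht2
  have hs2' : 2 ∣ s := ⟨w, by rw [hw]; congr 1; omega⟩
  rcases parity_bot hS hP hK hperf hn (he ▸ hs2') with h4 | h4 <;> omega

end Blk

end Cfsg.Agent.FewSylowClass
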