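/-
An exceptional family of degree `e` when `C(x) = ⟨x⟩` (namespace `Cfsg.Agent.FewSylowClass`).

Main results: `Blk.sumP_eq`, `Blk.not_degE`.
-/
import Cfsg.Agent.Lib.FewSylowClass.Cases
import Cfsg.Agent.Lib.BrauerN.Plus

set_option autoImplicit false
set_option linter.unusedSectionVars false
set_option linter.style.haveILetI false

open scoped ComplexConjugate

namespace Cfsg.Agent.FewSylowClass

open Cfsg Cfsg.Agent.Blocks Cfsg.Agent.CyclicDefect Cfsg.Agent.BrauerN

variable {G : Type*} [Group G] [Finite G] {p : ℕ} [Fact p.Prime] {x : G} {L : Subgroup G}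
  {M : Ideal AlgInt} {hS : Setting p x L} {n u s : ℕ} {A C B D X : Finset (IrrCharacter G)} {f₀ m₀ : ℕ} {ε : ℤ}

/-- The sum over `⟨x⟩` of a character in the principal block. -/
theorem sumP_eq (hS : Setting p x L) (hM : IsPModular p M) {χ : IrrCharacter G} (hχ : χ ∈ principalBlock M G)
    {m : ℕ} (hm : (charDegree (χ : G → ℂ) : ℤ) = rowSum hS χ + p * m) :
    sumP p x (χ : G → ℂ) = ((p * m : ℕ) : ℂ) := by
  rw [sumP, sum_pw_ne_zero hS hM hχ, ← charDegree_cast, ← Int.cast_natCast, hm]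
  push_cast
  ring

/-- The sum over `⟨x⟩` of a character of defect zero. -/
theorem sumP_defect_zero (hK : K x L = ⊥) (hM : IsPModular p M) [Fintype (IrrCharacter G)] (hS : Setting p x L)
    {χ : IrrCharacter G} (h : χ ∈ Zset p G) : sumP p x (χ : G → ℂ) = (charDegree (χ : G → ℂ) : ℂ) := by
  rw [sumP, ← charDegree_cast, Finset.sum_eq_zero, add_zero]
  exact fun v _ => apply_Z_singular hK hM hS h (dvd_of_eq (hS.orderOf_pw v.ne_zero).symm)

set_option maxHeartbeats 1600000 in
open scoped Classical in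
/-- No exceptional family of degree `e`. -/
theorem Blk.not_degE (h : Blk hS M n u s A C B D X f₀ m₀ ε) (hP : Par p n u s) (hK : K x L = ⊥)
    (hM : IsPModular p M) (hn : Nat.card (Sylow p G) = 1 + n * p) (hperf : commutator G = ⊤)
    (ht : 2 ≤ X.card) (hε : ε = 1) (hf : f₀ = (K x L).index) (hm0 : m₀ = 0) : False := by
  have hp := hS.hp
  have he := two_le_index hS hperf
  have hu := hP.hu
  have hus := hP.hus
  have := Fintype.ofFinite G
  have := Fintype.ofFinite (IrrCharacter G)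
  have := Fintype.ofFinite (K x L)
  haveI : Subsingleton (K x L) := by rw [hK]; infer_instance
  have hA0 := h.A_empty hP hK hM hn ht
  set e := (K x L).index with hedef
  obtain ⟨χ, hχ⟩ : X.Nonempty := Finset.card_pos.mp (by omega)
  obtain ⟨-, hd, hrs, -⟩ := h.memX χ hχ
  rw [hε, one_mul] at hrs
  rw [hf] at hd
  have hdec : ∀ i : ZMod p, dec (x := x) (χ : G → ℂ) (oneK x L : K x L → ℂ) i = (χ : G → ℂ) (pw x i) := by
    intro i
    rw [dec_eq, classInner, show Nat.card (K x L) = 1 by rw [hK, Subgroup.card_bot], Nat.cast_one, inv_one, one_mul,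
      Fintype.sum_subsingleton _ 1]
    show _ * conj (1 : ℂ) = _
    rw [map_one, mul_one, OneMemClass.coe_one, OneMemClass.coe_one, mul_one]
  -- the multiplicities on `⟨x⟩`
  have hN : ∑ j : ZMod p, multN hS χ (oneK x L) j = e ∧ multN hS χ (oneK x L) 0 = 0 := by
    have h0 : ((∑ j : ZMod p, multN hS χ (oneK x L) j : ℕ) : ℂ) = (e : ℂ) := by
      rw [← dec_zero_eq hS, hdec, hS.pw_zero, ← charDegree_cast, hd]
    have h1 := Nat.cast_inj.mp h0
    have h' := sum_bInt_eq hS χ (oneK x L)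
    rw [show (∑ v : (ZMod p)ˣ, bInt hS χ (oneK x L) (v : ZMod p)) = (e : ℤ) from hrs, h1] at h'
    have h2 : (p : ℤ) * multN hS χ (oneK x L) 0 = 0 := by linarith
    rcases mul_eq_zero.mp h2 with h3 | h3
    · exact absurd (by exact_mod_cast h3) hp.ne_zero
    · exact ⟨h1, by exact_mod_cast h3⟩
  have hsq : ∑ j : ZMod p, (multN hS χ (oneK x L) j : ℂ) * (multN hS χ (oneK x L) j : ℂ) = (e : ℂ) := by
    rw [← hN.1, Nat.cast_sum]
    refine Finset.sum_congr rfl fun j _ => ?_
    suffices multN hS χ (oneK x L) j ≤ 1 by interval_cases multN hS χ (oneK x L) j <;> simp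
    by_cases hj : j = 0
    · rw [hj, hN.2]; exact zero_le_one
    · have h' := h.rowX χ hχ (Units.mk0 j hj)
      rw [Units.val_mk0, bInt_eq_sub, hN.2, Nat.cast_zero, sub_zero] at h'
      by_contra h2
      have h3 : (2 : ℤ) * 2 ≤ (multN hS χ (oneK x L) j : ℤ) ^ 2 := by
        rw [pow_two]; exact mul_le_mul (by omega) (by omega) (by norm_num) (by omega)
      omega
  set Φ : G → ℂ := fun g => (χ : G → ℂ) g * conj ((χ : G → ℂ) g) with hΦ
  have hPsum : sumP p x Φ = (p : ℂ) * (e : ℂ) := by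
    have h' := sum_mult_sq (x := x) (p := p) (χ : G → ℂ) (oneK x L : K x L → ℂ)
    simp only [multN_spec hS, Complex.conj_natCast, hsq, hdec] at h'
    rw [h', ← mul_assoc, mul_inv_cancel₀ (Nat.cast_ne_zero.mpr hp.ne_zero), one_mul,
      ← Finset.add_sum_erase _ _ (Finset.mem_univ (0 : ZMod p)), hS.pw_zero, sumP]
    congr 1
    exact Finset.sum_bij (fun (v : (ZMod p)ˣ) _ => (v : ZMod p))
      (fun v _ => Finset.mem_erase.mpr ⟨v.ne_zero, Finset.mem_univ _⟩)
      (fun a _ b _ h => Units.ext h) (fun j hj => ⟨Units.mk0 j (Finset.ne_of_mem_erase hj), Finset.mem_univ _, rfl⟩)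
      fun v _ => rfl
  have hΦc : IsCharacter G Φ :=
    Char.IsCharacter.mul (Char.IsIrrCharacter.isCharacter χ.2) (Char.IsCharacter.conj (Char.IsIrrCharacter.isCharacter χ.2))
  obtain ⟨m, hm, hmi⟩ := Char.IsCharacter.decompose hΦc
  have hm1 : m (oneG G) = 1 := by
    apply Nat.cast_injective (R := ℂ)
    rw [← hmi, Nat.cast_one, ← Char.classInner_irr_self χ.2, classInner, classInner]
    simp [hΦ, oneG_apply]
  have hval : ((e : ℂ)) ^ 2 = ∑ φ : IrrCharacter G, (m φ : ℂ) * (charDegree (φ : G → ℂ) : ℂ) := by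
    have h' := congrFun hm 1
    simp only [Finset.sum_apply, Pi.smul_apply, smul_eq_mul, hΦ] at h'
    simp only [charDegree_cast]
    rw [← h', ← charDegree_cast, hd, Complex.conj_natCast, pow_two]
  have hmean : (p : ℂ) * (e : ℂ) = ∑ φ : IrrCharacter G, (m φ : ℂ) * sumP p x (φ : G → ℂ) := by
    rw [← hPsum, hm, sumP_finset]
  rw [h.sum_irr hP hK hM, hm1, hA0, Finset.sum_empty, add_zero] at hval hmean
  have hsC : ∀ c ∈ C, sumP p x (c : G → ℂ) = ((p * (u + 1) : ℕ) : ℂ) := fun c hc => sumP_eq hS hM (h.memC c hc).1 (by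
    rw [(h.memC c hc).2.1, (h.memC c hc).2.2.1, ← hP.u_deg]
    push_cast [Nat.cast_sub hp.one_le]; ring)
  have hsB : ∀ c ∈ B, sumP p x (c : G → ℂ) = ((p * 0 : ℕ) : ℂ) := fun c hc => sumP_eq hS hM (h.memB c hc).1 (by
    rw [(h.memB c hc).2.1, (h.memB c hc).2.2.1]
    push_cast; ring)
  have hsD : ∀ c ∈ D, sumP p x (c : G → ℂ) = ((p * s : ℕ) : ℂ) := fun c hc => sumP_eq hS hM (h.memD c hc).1 (by
    rw [(h.memD c hc).2.1, (h.memD c hc).2.2.1, hP.p_sub]
    push_cast; ring)
  have hsX : ∀ c ∈ X, sumP p x (c : G → ℂ) = ((p * 0 : ℕ) : ℂ) := fun c hc => sumP_eq hS hM (h.memX c hc).1 (by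
    rw [(h.memX c hc).2.1, (h.memX c hc).2.2.1, hf, hε]
    push_cast; ring)
  have hsone : sumP p x (oneG G : G → ℂ) = (p : ℂ) := by
    simp only [sumP, oneG_apply, Finset.sum_const, Finset.card_univ, ZMod.card_units, nsmul_eq_mul, mul_one,
      Nat.cast_sub hp.one_le, Nat.cast_one]
    ring
  rw [hsone, Finset.sum_congr rfl fun a ha => by rw [hsC a ha],
    Finset.sum_congr (s₁ := B) rfl fun b hb => by rw [hsB b hb, mul_zero, Nat.cast_zero, mul_zero],
    Finset.sum_congr (s₁ := D) rfl fun a ha => by rw [hsD a ha],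
    Finset.sum_congr (s₁ := X) rfl fun c hc => by rw [hsX c hc, mul_zero, Nat.cast_zero, mul_zero],
    Finset.sum_const_zero, Finset.sum_const_zero, ← Finset.sum_mul, ← Finset.sum_mul,
    Finset.sum_congr (s₁ := Zset p G) rfl fun z hz => by rw [sumP_defect_zero hK hM hS hz]] at hmean
  rw [charDegree_oneG, Finset.sum_congr rfl fun a ha => by rw [(h.memC a ha).2.1],
    Finset.sum_congr (s₁ := B) rfl fun b hb => by rw [(h.memB b hb).2.1],
    Finset.sum_congr (s₁ := D) rfl fun b hb => by rw [(h.memD b hb).2.1],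
    Finset.sum_congr (s₁ := X) rfl fun c hc => by rw [(h.memX c hc).2.1],
    ← Finset.sum_mul, ← Finset.sum_mul, ← Finset.sum_mul, ← Finset.sum_mul] at hval
  set i := ∑ a ∈ C, m a with hi
  set j := ∑ b ∈ B, m b with hj
  set k := ∑ b ∈ D, m b with hk
  set mX := ∑ c ∈ X, m c with hmX
  set S := ∑ z ∈ Zset p G, m z * charDegree (z : G → ℂ) with hSdef
  have hvalN : e ^ 2 = 1 + i * ((u + 1) * (u * s + 1)) + j * (p - 1) + k * (s * (p + u + 1)) + mX * e + S := by
    apply Nat.cast_injective (R := ℂ)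
    simp only [hi, hj, hk, hmX, hSdef, Nat.cast_add, Nat.cast_mul, Nat.cast_sum, Nat.cast_pow, Nat.cast_one]
    rw [hf] at hval
    simp only [Nat.cast_add, Nat.cast_mul, Nat.cast_one, one_mul] at hval
    linear_combination hval
  have hmeanN : p * e = p + i * (p * (u + 1)) + k * (p * s) + S := by
    apply Nat.cast_injective (R := ℂ)
    simp only [hi, hk, hSdef, Nat.cast_add, Nat.cast_mul, Nat.cast_sum, Nat.cast_one]
    simp only [Nat.cast_add, Nat.cast_mul, Nat.cast_one, one_mul] at hmean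
    linear_combination hmean
  have hpe : p = e * X.card + 1 := by
    have h1 := h.index_eq hP hK hM hn ht
    rw [← hedef] at h1
    have := hP.hpe
    omega
  obtain ⟨hu1, ht2⟩ := tensor_arith (i := i) (j := j + k) (m := mX) (n := u) hpe he ht hu (by
      have h1 : (e : ℤ) ^ 2 = ((1 + i * ((u + 1) * (u * s + 1)) + j * (p - 1) + k * (s * (p + u + 1)) + mX * e + S : ℕ) : ℤ) := by
        exact_mod_cast hvalN
      have h2 : ((p * e : ℕ) : ℤ) = ((p + i * (p * (u + 1)) + k * (p * s) + S : ℕ) : ℤ) := by rw [hmeanN]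
      have hp' : (p : ℤ) = ((u : ℤ) + 1) * s + 1 := by exact_mod_cast hP.hpe
      push_cast [Nat.cast_sub hp.one_le] at h1 h2 ⊢
      linear_combination h1 - h2 + ((i : ℤ) * (-(u : ℤ)) - k) * hp') (by
      have h' : p * (i * (u + 1) + 1) ≤ p * e := by
        rw [hmeanN, mul_add, mul_one, show p * (i * (u + 1)) = i * (p * (u + 1)) by ring]
        omega
      exact Nat.le_of_mul_le_mul_left h' hp.pos)
  obtain ⟨hcnt, hsum⟩ := h.count_eq hP hK hM hn ht
  rw [hε, hm0, ← hedef] at hcnt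
  rw [← hedef] at hsum
  have hes : e = s := by
    have h1 := h.index_eq hP hK hM hn ht
    rw [← hedef, ht2, hu1] at h1
    omega
  subst hu1
  rw [hes] at hcnt hsum
  push_cast at hcnt
  rcases Nat.eq_zero_or_pos C.card with hc | hc
  · rw [hc] at hcnt
    push_cast at hcnt
    have h1 : (2 : ℤ) ≤ s := by exact_mod_cast hP.two_le_s
    have h2 : (0 : ℤ) ≤ (D.card : ℤ) * s := mul_nonneg (Int.natCast_nonneg _) (Int.natCast_nonneg _)
    linarith
  · have h2 : 2 ∣ e := h.dvdC (Finset.card_pos.mp hc)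
    rcases parity_bot hS hP hK hperf hn h2 with h3 | h3
    · omega
    · exact h3 (hes ▸ h2)

end Cfsg.Agent.FewSylowClass
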