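/-
An exceptional family of degree `(1 + n p) / t` when `C(x) = ⟨x⟩` (namespace `Cfsg.Agent.FewSylowClass`).

Main results: `exists_int_apply`, `Blk.shape_B`, `Blk.not_degN`.
-/
import Cfsg.Agent.Lib.FewSylowClass.Cases
import Cfsg.Agent.Lib.BrauerN.Minus

set_option autoImplicit false
set_option linter.unusedSectionVars false
set_option linter.style.haveILetI false

open scoped ComplexConjugate

namespace Cfsg.Agent.FewSylowClass

open Cfsg Cfsg.Agent.Blocks Cfsg.Agent.CyclicDefect Cfsg.Agent.BrauerN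

/-- The value of a character at an involution is a rational integer. -/
theorem exists_int_apply {H : Type*} [Group H] [Finite H] {φ : H → ℂ} (hφ : IsCharacter H φ) {g : H}
    (hg : g ^ 2 = 1) : ∃ k : ℤ, φ g = (k : ℂ) := by
  obtain ⟨d, ρ, rfl⟩ := hφ
  obtain ⟨b, μ, hμ, hroot⟩ := Char.exists_eigenbasis ρ g
  have hint : ∀ i, ∃ k : ℤ, μ i = (k : ℂ) := fun i => by
    have h2 : μ i * μ i = 1 := by
      obtain ⟨a, ha⟩ := orderOf_dvd_of_pow_eq_one hg
      rw [← pow_two, ha, pow_mul, hroot i, one_pow]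
    rcases mul_self_eq_one_iff.mp h2 with h1 | h1
    · exact ⟨1, by rw [h1, Int.cast_one]⟩
    · exact ⟨-1, by rw [h1, Int.cast_neg, Int.cast_one]⟩
  choose k hk using hint
  refine ⟨∑ i, k i, ?_⟩
  rw [Char.character_eq_sum_eigenvalues ρ g b μ hμ, Int.cast_sum]
  exact Finset.sum_congr rfl fun i _ => hk i

theorem sq_mod_eight : ∀ h j : ZMod 8, h ^ 2 * 3 - 1 ≠ j ^ 2 := by decide

theorem three_not_sq : ∀ j : ZMod 8, (3 : ZMod 8) ≠ j ^ 2 := by decide

/-- The three candidates for `f ^ 2` in the last case are no squares. -/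
theorem no_square {r : ℤ} (hr : 1 ≤ r) (g : ℤ) :
    g ^ 2 ≠ r * (r * (8 * r ^ 2 - 8 * r + 3) - 1) ∧ g ^ 2 ≠ 8 * r ^ 2 - 8 * r + 3 ∧
      g ^ 2 ≠ r ^ 2 * (8 * r ^ 2 - 8 * r + 3) - 1 := by
  have h8 : ((8 * r ^ 2 - 8 * r + 3 : ℤ) : ZMod 8) = 3 := by
    push_cast
    rw [show (8 : ZMod 8) = 0 from rfl]
    ring
  refine ⟨fun h => ?_, fun h => ?_, fun h => ?_⟩
  · set a := 8 * r ^ 2 - 8 * r + 3 with ha
    have hpos : 1 ≤ r * a - 1 := by
      have h1 : 3 ≤ a := by nlinarith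
      nlinarith
    have hco : Int.gcd r (r * a - 1) = 1 :=
      Int.isCoprime_iff_gcd_eq_one.mp ⟨a, -1, by ring⟩
    obtain ⟨h₀, hh⟩ := Int.sq_of_gcd_eq_one hco h.symm
    obtain ⟨j, hj⟩ := Int.sq_of_gcd_eq_one (by rwa [Int.gcd_comm]) ((mul_comm _ _).trans h.symm)
    have e1 : r = h₀ ^ 2 := hh.resolve_right fun h1 => by nlinarith [sq_nonneg h₀]
    have e2 : r * a - 1 = j ^ 2 := hj.resolve_right fun h1 => by nlinarith [sq_nonneg j]
    rw [e1] at e2
    have e3 := congrArg (Int.cast : ℤ → ZMod 8) e2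
    push_cast at e3
    rw [h8] at e3
    exact sq_mod_eight _ _ e3
  · have e3 := congrArg (Int.cast : ℤ → ZMod 8) h
    rw [h8] at e3
    push_cast at e3
    exact three_not_sq _ e3.symm
  · have e3 := congrArg (Int.cast : ℤ → ZMod 8) h
    rw [Int.cast_sub, Int.cast_mul, h8] at e3
    push_cast at e3
    exact sq_mod_eight _ _ e3.symm

/-- The arithmetic of the divisibility `e ∣ 1 + n p + t`. -/
theorem degN_arith {t c σ τ u : ℕ} (ht : 2 ≤ t) (hτ : u + 2 = τ * t) (hσ : σ = c * (u + 1) + 1 + τ)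
    (hc : 0 < c) (hdvd : σ ∣ t * c) : t = u + 2 ∧ c = 2 ∧ σ = 2 * t := by
  have hle := Nat.le_of_dvd (Nat.mul_pos (by omega) hc) hdvd
  have hτ0 : 0 < τ := Nat.pos_of_ne_zero fun h0 => by rw [h0, zero_mul] at hτ; omega
  have hτ1 : τ = 1 := by
    by_contra hne
    have h1 : 2 * t ≤ τ * t := Nat.mul_le_mul_right t (by omega)
    have h2 : t * c ≤ (u + 1) * c := Nat.mul_le_mul_right c (by omega)
    have h3 : c * (u + 1) = (u + 1) * c := mul_comm _ _
    omega
  subst hτ1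
  rw [one_mul] at hτ
  have h3 : t * c = c * (u + 1) + c := by rw [← hτ]; ring
  rcases Nat.lt_or_ge c 2 with hc1 | hc2
  · obtain rfl : c = 1 := by omega
    omega
  · obtain ⟨w, hw⟩ := hdvd
    have h4 : c = 2 := by
      rcases Nat.lt_or_ge w 2 with hw1 | hw2
      · interval_cases w <;> simp at hw <;> omega
      · exfalso
        have := Nat.mul_le_mul_left σ hw2
        have h5 : c * 1 ≤ c * (u + 1) := Nat.mul_le_mul_left c (by omega)
        omega
    subst h4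
    exact ⟨hτ.symm, rfl, by omega⟩

variable {G : Type*} [Group G] [Finite G] {p : ℕ} [Fact p.Prime] {x : G} {L : Subgroup G}
  {M : Ideal AlgInt} {hS : Setting p x L} {n u s : ℕ} {A C B D X : Finset (IrrCharacter G)} {f₀ m₀ : ℕ} {ε : ℤ}

namespace Blk

variable (h : Blk hS M n u s A C B D X f₀ m₀ ε) (hP : Par p n u s) (hK : K x L = ⊥) (hM : IsPModular p M)
  (hn : Nat.card (Sylow p G) = 1 + n * p)
include h hP hK hM hn

/-- Only `B` and the exceptional family besides `1`. -/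
theorem shape_B (ht : 2 ≤ X.card) (hC : C = ∅) (hD : D = ∅) (hε : ε = -1) :
    Shape hS M n f₀ (-1) ∅ B X := by
  classical
  have hA := h.A_empty hP hK hM hn ht
  rcases h.cases with ⟨hX, -⟩ | ⟨-, het, hcount, -⟩
  · rw [hX, Finset.card_empty] at ht; omega
  subst hA hC hD hε
  refine ⟨Or.inr rfl, fun χ hχ => absurd hχ (Finset.notMem_empty χ),
    fun χ hχ => ⟨(h.memB χ hχ).1, (h.memB χ hχ).2.1, (h.memB χ hχ).2.2.1, (h.memB χ hχ).2.2.2.1⟩,
    h.memX, Finset.disjoint_empty_left _, Finset.disjoint_empty_left _, ?_, fun χ hχ => ?_, ?_, het,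
    fun g hg χ hχ => ?_, h.rowX, h.sumX⟩
  · refine Finset.disjoint_left.mpr fun χ h1 h2 => ?_
    have e1 := (h.memB χ h1).2.2.1
    rw [(h.memX χ h2).2.2.1] at e1
    have := hP.five_le
    omega
  · rcases h.cover χ hχ with h1 | h1 | h1 | h1 | h1 | h1
    · exact Or.inl h1
    · exact Or.inr (Or.inl h1)
    · exact absurd h1 (Finset.notMem_empty χ)
    · exact Or.inr (Or.inr (Or.inl h1))
    · exact absurd h1 (Finset.notMem_empty χ)
    · exact Or.inr (Or.inr (Or.inr h1))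
  · simp only [Finset.card_empty] at hcount ⊢
    omega
  · have h1 := h.rel g hg χ hχ
    simp only [Finset.sum_empty, sub_zero, add_zero] at h1 ⊢
    exact h1

omit hn in
/-- The characters of `C` vanish on the generators of `L`. -/
theorem C_vanish (hn : Nat.card (Sylow p G) = 1 + n * p) (he : 2 ≤ (K x L).index) (hA : A = ∅) (hD : D = ∅)
    (hε : ε = -1) {χ₀ : IrrCharacter G} (hχ₀ : χ₀ ∈ X)
    (hdeg : (C.card : ℕ) * (u + 1) + m₀ + 1 = (K x L).index)
    {y₀ : L} (hgen : Subgroup.zpowers y₀ = ⊤) {χ : IrrCharacter G} (hχ : χ ∈ C) : (χ : G → ℂ) (y₀ : G) = 0 := by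
  classical
  have := Fintype.ofFinite L
  have hu := hP.hu
  set e := (K x L).index with hedef
  have hL : Nat.card L = e := card_L hS hK
  have hy₀ : y₀ ≠ 1 := by
    intro h1
    rw [h1, Subgroup.zpowers_one_eq_bot] at hgen
    have h2 := congrArg (fun H : Subgroup L => Nat.card H) hgen
    simp only [Subgroup.card_bot, Subgroup.card_top] at h2
    omega
  choose φ hφc hφ1 hφy hφw using fun c (hc : c ∈ C) => h.fixC hP hM hc
  obtain ⟨ψ, hψc, hψ1, hψy, -⟩ := h.fixX hP hM hχ₀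
  set ρf := φ χ hχ with hρf
  have hreg : ∀ y : L, 1 + ψ y + ∑ c : C, φ c.1 c.2 y = if y = 1 then (e : ℂ) else 0 := by
    intro y
    split_ifs with hy
    · subst hy
      rw [hψ1, Finset.sum_congr rfl fun (c : C) _ => hφ1 c.1 c.2, Finset.sum_const, Finset.card_univ,
        Fintype.card_coe, nsmul_eq_mul, ← hdeg]
      push_cast; ring
    · have hy' := (ne_one_of_not_mem hS hK).mpr hy
      have h1 := h.rel_L hP hK hM hy hχ₀
      subst hA hD hε
      rw [Finset.sum_congr rfl fun (c : C) _ => (hφy c.1 c.2 y hy').symm, ← hψy y hy',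
        Finset.sum_coe_sort C (fun c => (c : G → ℂ) (y : G))]
      simp only [Finset.sum_empty, sub_zero, add_zero] at h1
      push_cast at h1
      linear_combination -h1
  have hinn : classInner ρf ρf = (1 : ℂ) * classInner ρf ρf := (one_mul _).symm
  obtain ⟨k₁, hk₁⟩ := Char.IsCharacter.classInner_nat (hφc χ hχ) (Char.isCharacter_one (G := L))
  obtain ⟨k₂, hk₂⟩ := Char.IsCharacter.classInner_nat (hφc χ hχ) hψc
  choose kc hkc using fun c : C => Char.IsCharacter.classInner_nat (hφc χ hχ) (hφc c.1 c.2)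
  have hsum : k₁ + k₂ + ∑ c, kc c = u + 1 := by
    apply Nat.cast_injective (R := ℂ)
    rw [← hφ1 χ hχ]
    push_cast
    rw [← hk₁, ← hk₂, Finset.sum_congr rfl fun c _ => (hkc c).symm, ← Char.classInner_sum_right,
      ← Char.classInner_add_right, ← Char.classInner_add_right, classInner, hL]
    simp only [Pi.add_apply, Pi.one_apply, Finset.sum_apply, hreg, apply_ite conj, Complex.conj_natCast,
      map_zero, mul_ite, mul_zero, Finset.sum_ite_eq', Finset.mem_univ, if_true]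
    have he0 : (e : ℂ) ≠ 0 := Nat.cast_ne_zero.mpr (by omega)
    field_simp
  have hsmall : kc ⟨χ, hχ⟩ ≤ u + 1 := by
    have := Finset.single_le_sum (f := kc) (fun _ _ => Nat.zero_le _) (Finset.mem_univ (⟨χ, hχ⟩ : C))
    omega
  have hb : ∀ y : L, ‖ρf y‖ ≤ ((u + 1 : ℕ) : ℝ) := fun y => by
    refine (Char.IsCharacter.norm_le (hφc χ hχ) y).trans (le_of_eq ?_)
    rw [hφ1]; simp
  have hlt : ‖ρf y₀‖ < ((u + 1 : ℕ) : ℝ) := by
    refine lt_of_le_of_ne (hb y₀) fun heq => ?_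
    obtain ⟨d, ρ, hρ⟩ := hφc χ hχ
    have hd : d = u + 1 := by
      have h1 := hφ1 χ hχ
      rw [← hρ, Representation.char_one, Nat.cast_inj, Module.finrank_fintype_fun_eq_card, Fintype.card_fin] at h1
      exact h1
    have hfr : (Module.finrank ℂ (Fin d → ℂ) : ℝ) = ((u + 1 : ℕ) : ℝ) := by
      rw [Module.finrank_fintype_fun_eq_card, Fintype.card_fin, hd]
    obtain ⟨ω, hω⟩ := (Char.norm_character_eq_iff ρ y₀).mp (by rw [hρ, hfr]; exact heq)
    have hall : ∀ y : L, ‖ρf y‖ = ((u + 1 : ℕ) : ℝ) := by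
      intro y
      obtain ⟨k, hk⟩ : ∃ k : ℕ, y₀ ^ k = y :=
        Submonoid.mem_powers_iff _ _ |>.mp (mem_powers_iff_mem_zpowers.mpr (hgen ▸ Subgroup.mem_top y))
      rw [show ρf y = ρ.character y by rw [hρ], ← hfr]
      refine (Char.norm_character_eq_iff ρ y).mpr ⟨ω ^ k, ?_⟩
      rw [← hk, map_pow, hω, ← Module.End.one_eq_id, _root_.smul_pow, one_pow]
    have h1 : classInner ρf ρf = (((u + 1) ^ 2 : ℕ) : ℂ) := by
      rw [classInner, Finset.sum_congr rfl fun y _ => by rw [Complex.mul_conj', hall y],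
        Finset.sum_const, Finset.card_univ, nsmul_eq_mul, ← Nat.card_eq_fintype_card,
        ← mul_assoc, inv_mul_cancel₀ (Nat.cast_ne_zero.mpr Nat.card_pos.ne'), one_mul]
      push_cast; ring
    rw [hkc ⟨χ, hχ⟩, Nat.cast_inj] at h1
    have h2 : (u + 1) * 2 ≤ (u + 1) * (u + 1) := Nat.mul_le_mul_left _ (by omega)
    rw [h1, pow_two] at hsmall
    omega
  rw [hφy χ hχ y₀ ((ne_one_of_not_mem hS hK).mpr hy₀)]
  refine eq_zero_of_dvd_values (GaloisAvg.cycloValued_character (hφc χ hχ)) (c := u + 1) (by omega)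
    (fun j hj => ?_) (fun j _ => hb _) ⟨1, Nat.coprime_one_left _, by rw [pow_one]; exact hlt⟩
  have hne : y₀ ^ j ≠ 1 := fun h1 => hy₀ (orderOf_eq_one_iff.mp
    (Nat.eq_one_of_dvd_coprimes hj (orderOf_dvd_of_pow_eq_one h1) (orderOf_dvd_natCard y₀)))
  rw [← hφy χ hχ _ ((ne_one_of_not_mem hS hK).mpr hne)]
  exact h.isIntegral_C hP hK hM hn hχ _

set_option maxHeartbeats 1600000 in
/-- No exceptional degree `(1 + n p) / t`. -/
theorem not_degN (hperf : commutator G = ⊤) (ht : 2 ≤ X.card) (hε : ε = -1)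
    (hf : X.card * f₀ = 1 + n * p) (hm : X.card * m₀ = n + 1) : False := by
  classical
  have := Fintype.ofFinite (IrrCharacter G)
  have hp := hS.hp
  have hu := hP.hu
  have hus := hP.hus
  have he2 := two_le_index hS hperf
  obtain ⟨hcnt, hsum⟩ := h.count_eq hP hK hM hn ht
  have hA := h.A_empty hP hK hM hn ht
  have het := h.index_eq hP hK hM hn ht
  set e := (K x L).index with hedef
  set t := X.card with htdef
  have het' : (e : ℤ) * t = ((u : ℤ) + 1) * s := by exact_mod_cast het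
  have hm' : (t : ℤ) * m₀ = (u : ℤ) * s + u + 2 := by
    have h1 : t * m₀ = u * s + u + 2 := by rw [hm, hP.hne]
    exact_mod_cast h1
  have htem : (t : ℤ) * ((e : ℤ) - m₀) = (s : ℤ) - u - 2 := by linear_combination het' - hm'
  rw [hε] at hcnt
  push_cast at hcnt
  have hts : 0 < C.card → (t : ℤ) ∣ s := by
    intro hc
    obtain ⟨w, hw⟩ := h.dvdC (Finset.card_pos.mp hc)
    rw [← hedef] at hw
    refine ⟨w, mul_left_cancel₀ (show ((u : ℤ) + 1) ≠ 0 by omega) ?_⟩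
    have hw' : (e : ℤ) = ((u : ℤ) + 1) * w := by exact_mod_cast hw
    linear_combination -het' + (t : ℤ) * hw'
  have ht' : (2 : ℤ) ≤ t := by exact_mod_cast ht
  rcases Nat.eq_zero_or_pos D.card with hd | hd
  swap
  · rcases Nat.eq_zero_or_pos C.card with hc | hc
    · rw [hc] at hcnt
      push_cast at hcnt
      have h1 : (1 : ℤ) ≤ D.card := by exact_mod_cast hd
      have h2 : (u : ℤ) + 1 ≤ s := by exact_mod_cast hus
      have h3 : (1 : ℤ) ≤ u := by exact_mod_cast hu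
      have h4 := mul_le_mul_of_nonneg_right h1 (show (0 : ℤ) ≤ s by omega)
      have h5 : (t : ℤ) * ((e : ℤ) - m₀) ≤ 2 * ((e : ℤ) - m₀) :=
        mul_le_mul_of_nonpos_right ht' (by linarith)
      linarith
    · have htu : (t : ℤ) ∣ (u : ℤ) + 1 := by
        obtain ⟨w, hw⟩ := h.dvdD (Finset.card_pos.mp hd)
        rw [← hedef] at hw
        refine ⟨w, mul_left_cancel₀ (show (s : ℤ) ≠ 0 by omega) ?_⟩
        have hw' : (e : ℤ) = (s : ℤ) * w := by exact_mod_cast hw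
        linear_combination -het' + (t : ℤ) * hw'
      have h1 : (t : ℤ) ∣ 1 := by
        have e1 : (t : ℤ) ∣ (s : ℤ) - u - 2 := ⟨_, htem.symm⟩
        have e2 := Int.dvd_sub (Int.dvd_sub (hts hc) e1) htu
        rwa [show (s : ℤ) - ((s : ℤ) - u - 2) - ((u : ℤ) + 1) = 1 by ring] at e2
      have := Int.le_of_dvd one_pos h1
      omega
  have hD : D = ∅ := Finset.card_eq_zero.mp hd
  rw [hd] at hcnt hsum
  push_cast at hcnt
  rcases Nat.eq_zero_or_pos C.card with hc | hc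
  · -- only `B`
    rw [hc] at hcnt
    push_cast at hcnt
    rw [show ((e : ℤ) - m₀) = 1 by linarith, mul_one] at htem
    have hb := minus_basic hS hK hM (h.shape_B hP hK hM hn ht (Finset.card_eq_zero.mp hc) hD hε) hf he2 hP.n_pos hn
    have h1 : ((n + 1 : ℕ) : ℤ) = t := by rw [hb.n_succ]
    have h2 : (n : ℤ) = (u : ℤ) * s + u + 1 := by exact_mod_cast hP.hne
    have h3 : (s : ℤ) ≤ (u : ℤ) * s := le_mul_of_one_le_left (by positivity) (by exact_mod_cast hu)
    push_cast at h1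
    linarith
  -- the numbers
  obtain ⟨σ, hσ⟩ : t ∣ s := by exact_mod_cast hts hc
  have heσ : e = (u + 1) * σ := by
    refine Nat.eq_of_mul_eq_mul_right (show 0 < t by omega) ?_
    rw [het, hσ]; ring
  have hdeg : C.card * (u + 1) + m₀ + 1 = e := by
    have : ((C.card * (u + 1) + m₀ + 1 : ℕ) : ℤ) = e := by push_cast; linarith
    exact_mod_cast this
  obtain ⟨τ, hτ⟩ : ∃ τ : ℕ, u + 2 = τ * t ∧ σ = C.card * (u + 1) + 1 + τ := by
    have hσ' : (s : ℤ) = (t : ℤ) * σ := by exact_mod_cast hσ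
    have h1 : (t : ℤ) * ((σ : ℤ) - (C.card * (u + 1) + 1)) = (u : ℤ) + 2 := by
      linear_combination -hσ' - htem - (t : ℤ) * hcnt
    have h2 : 0 ≤ (σ : ℤ) - (C.card * (u + 1) + 1) := by
      by_contra hneg
      have := mul_nonpos_of_nonneg_of_nonpos (show (0 : ℤ) ≤ t by omega) (le_of_not_ge hneg)
      omega
    obtain ⟨τ, hτ⟩ := Int.eq_ofNat_of_zero_le h2
    refine ⟨τ, ?_, ?_⟩
    · have : ((u + 2 : ℕ) : ℤ) = ((τ * t : ℕ) : ℤ) := by
        push_cast
        rw [← h1, hτ]; ring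
      exact_mod_cast this
    · have : (σ : ℤ) = ((C.card * (u + 1) + 1 + τ : ℕ) : ℤ) := by push_cast; linarith
      exact_mod_cast this
  -- a generator
  haveI := isCyclic_L hS hK
  obtain ⟨y₀, hy₀⟩ := IsCyclic.exists_generator (α := L)
  have hgen : Subgroup.zpowers y₀ = ⊤ := (Subgroup.eq_top_iff' _).mpr hy₀
  have hy₀o : orderOf y₀ = e := by rw [← Nat.card_zpowers, hgen, Subgroup.card_top, card_L hS hK]
  have hy₀1 : y₀ ≠ 1 := fun h1 => by rw [h1, orderOf_one] at hy₀o; omega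
  obtain ⟨χ₀, hχ₀⟩ : X.Nonempty := Finset.card_pos.mp (by omega)
  have hC0 : ∀ c ∈ C, (c : G → ℂ) (y₀ : G) = 0 :=
    fun c hc' => h.C_vanish hP hK hM hn he2 hA hD hε hχ₀ hdeg hgen hc'
  have hX0 : ∀ χ ∈ X, (χ : G → ℂ) (y₀ : G) = -1 := by
    intro χ hχ
    have h1 := h.rel_L hP hK hM hy₀1 hχ
    rw [hA, hD, Finset.sum_empty, Finset.sum_eq_zero hC0, hε] at h1
    push_cast at h1
    linear_combination -h1
  obtain ⟨f, k, -, -, -, -, hk⟩ := h.square_count hP hK hM hn hy₀1 hX0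
  simp only [hA, hD, Finset.sum_empty] at hk
  rw [Finset.sum_eq_zero fun c hc' => by rw [hC0 c hc', zero_pow two_ne_zero],
    hε] at hk
  have hf0 : (f₀ : ℂ) ≠ 0 := Nat.cast_ne_zero.mpr fun h0 => by rw [h0, mul_zero] at hf; omega
  have hfN : ((1 + n * p : ℕ) : ℂ) = (t : ℂ) * f₀ := by rw [← hf, Nat.cast_mul]
  have hkN : k * e * f ^ 2 = 1 + n * p + t := by
    apply Nat.cast_injective (R := ℂ)
    push_cast at hk hfN ⊢
    rw [hk, hfN]
    field_simp
    ring
  have hdvd : σ ∣ t * C.card := by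
    have h1 : (e : ℤ) ∣ (t : ℤ) * C.card * (u + 1) := by
      have e1 : (e : ℤ) ∣ ((1 + n * p + t : ℕ) : ℤ) := by rw [← hkN]; push_cast; exact (dvd_mul_left _ _).mul_right _
      have hp' : (p : ℤ) = (e : ℤ) * t + 1 := by
        have h' : p = e * t + 1 := by rw [het, hP.hpe]
        exact_mod_cast h'
      have hn' : (t : ℤ) * m₀ = (n : ℤ) + 1 := by exact_mod_cast hm
      have hd' : (C.card : ℤ) * (u + 1) + m₀ + 1 = e := by exact_mod_cast hdeg
      have e2 : ((1 + n * p + t : ℕ) : ℤ) = (e : ℤ) * ((t : ℤ) + n * t) - (t : ℤ) * C.card * (u + 1) := by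
        push_cast
        linear_combination (n : ℤ) * hp' - hn' + (t : ℤ) * hd'
      rw [e2] at e1
      have e3 := Int.dvd_sub (dvd_mul_right (e : ℤ) ((t : ℤ) + n * t)) e1
      rwa [sub_sub_cancel] at e3
    have h2 : e ∣ t * C.card * (u + 1) := by exact_mod_cast h1
    rw [heσ, mul_comm (u + 1) σ] at h2
    exact Nat.dvd_of_mul_dvd_mul_right (by omega) h2
  obtain ⟨htu, hc2, hσ2⟩ := degN_arith ht hτ.1 hτ.2 hc hdvd
  have hs2 : s = 2 * (t * t) := by rw [hσ, hσ2]; ring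
  have he' : e = 2 * ((t - 1) * t) := by rw [heσ, hσ2, htu, show u + 2 - 1 = u + 1 by omega]; ring
  have heven : 2 ∣ e := ⟨_, he'⟩
  have hueven : 2 ∣ u := (parity_bot hS hP hK hperf hn heven).resolve_right fun h1 => h1 ⟨_, hs2⟩
  -- the involution
  obtain ⟨i, hi, hi1⟩ := exists_orderOf hS hK Nat.prime_two heven
  haveI := Fact.mk Nat.prime_two
  have hCi : ∀ c ∈ C, (c : G → ℂ) (i : G) = ((u + 1 : ℕ) : ℂ) ∨ (c : G → ℂ) (i : G) = -((u + 1 : ℕ) : ℂ) := by
    intro c hc'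
    obtain ⟨φ, hφc, hφ1, hφy, -⟩ := h.fixC hP hM hc'
    rw [hφy i ((ne_one_of_not_mem hS hK).mpr hi1)]
    have hi2 : i ^ 2 = 1 := by rw [← hi, pow_orderOf_eq_one]
    obtain ⟨a, ha⟩ := exists_int_apply hφc hi2
    have h1 := h.isIntegral_C hP hK hM hn hc' i
    rw [hφy i ((ne_one_of_not_mem hS hK).mpr hi1), ha] at h1
    obtain ⟨b, hb⟩ := Char.exists_int_of_isIntegral_mul (Nat.succ_ne_zero u) (z := (a : ℂ) / ((u + 1 : ℕ) : ℂ))
      (k := a) (by rw [mul_div_cancel₀]; exact Nat.cast_ne_zero.mpr (Nat.succ_ne_zero u)) h1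
    have hab : a = b * ((u + 1 : ℕ) : ℤ) := by
      apply Int.cast_injective (α := ℂ)
      rw [div_eq_iff (Nat.cast_ne_zero.mpr (Nat.succ_ne_zero u))] at hb
      rw [hb, Int.cast_mul, Int.cast_natCast]
    have hle := Char.IsCharacter.norm_le hφc i
    rw [ha, hφ1, Complex.norm_intCast, Complex.natCast_re] at hle
    have hle' : |a| ≤ ((u + 1 : ℕ) : ℤ) := by exact_mod_cast hle
    have hne : a ≠ 0 := fun h0 => by
      have h2 := dvd_sub_of_apply_eq hφc (g := i) (k := 1) (c := 0) (by rw [pow_one]; exact hi2) hφ1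
        (by rw [ha, h0])
      rw [sub_zero, Int.natCast_dvd_natCast] at h2
      omega
    rw [hab, abs_mul, Nat.abs_cast] at hle'
    have hb1 : |b| ≤ 1 := le_of_mul_le_mul_right (by rwa [one_mul]) (by positivity)
    have hb0 : b ≠ 0 := fun h0 => hne (by rw [hab, h0, zero_mul])
    rcases abs_le.mp hb1 with ⟨hb2, hb3⟩
    rcases (show b = 1 ∨ b = -1 by omega) with rfl | rfl
    · left; rw [ha, hab, one_mul, Int.cast_natCast]
    · right; rw [ha, hab, neg_one_mul, Int.cast_neg, Int.cast_natCast]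
  obtain ⟨c₁, c₂, hne, hC⟩ := Finset.card_eq_two.mp hc2
  set T := (c₁ : G → ℂ) (i : G) + (c₂ : G → ℂ) (i : G) with hT
  have hXi : ∀ χ ∈ X, (χ : G → ℂ) (i : G) = -1 - T := by
    intro χ hχ
    have h1 := h.rel_L hP hK hM hi1 hχ
    rw [hA, hD, Finset.sum_empty, hC, Finset.sum_pair hne, hε] at h1
    push_cast at h1
    linear_combination -h1
  obtain ⟨f, k, hf1, -, -, hk1, hk⟩ := h.square_count hP hK hM hn hi1 hXi
  simp only [hA, hD, Finset.sum_empty] at hk
  rw [hC, Finset.sum_pair hne, hε] at hk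
  have hsq : ∀ c ∈ C, (c : G → ℂ) (i : G) ^ 2 = ((u + 1 : ℕ) : ℂ) ^ 2 := fun c hc' => by
    rcases hCi c hc' with h1 | h1 <;> rw [h1] <;> ring
  rw [hsq c₁ (by rw [hC]; exact Finset.mem_insert_self _ _),
    hsq c₂ (by rw [hC]; exact Finset.mem_insert_of_mem (Finset.mem_singleton_self _))] at hk
  -- the possible values of `T`
  obtain ⟨τ', hτ', hT'⟩ : ∃ τ' : ℤ, (τ' = 0 ∨ τ' = 1 ∨ τ' = -1) ∧ T = ((2 * τ' * ((u : ℤ) + 1) : ℤ) : ℂ) := by
    rcases hCi c₁ (by rw [hC]; exact Finset.mem_insert_self _ _) with h1 | h1 <;>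
      rcases hCi c₂ (by rw [hC]; exact Finset.mem_insert_of_mem (Finset.mem_singleton_self _)) with h2 | h2
    · exact ⟨1, Or.inr (Or.inl rfl), by rw [hT, h1, h2]; push_cast; ring⟩
    · exact ⟨0, Or.inl rfl, by rw [hT, h1, h2]; push_cast; ring⟩
    · exact ⟨0, Or.inl rfl, by rw [hT, h1, h2]; push_cast; ring⟩
    · exact ⟨-1, Or.inr (Or.inr rfl), by rw [hT, h1, h2]; push_cast; ring⟩
  have hkZ : (k : ℤ) * e * (f : ℤ) ^ 2 = (1 + (n : ℤ) * p) + 2 * ((u : ℤ) + 1) * ((p : ℤ) + u + 1) +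
      (t : ℤ) * (1 + 2 * τ' * ((u : ℤ) + 1)) ^ 2 := by
    apply Int.cast_injective (α := ℂ)
    rw [hT'] at hk
    have hu0 : ((u : ℂ) + 1) ≠ 0 := by exact_mod_cast Nat.succ_ne_zero u
    push_cast at hk hfN ⊢
    rw [hk, hfN]
    field_simp
    ring
  have hk1' : k = 1 := by
    refine le_antisymm (hk1 hi) (Nat.pos_of_ne_zero fun h0 => ?_)
    rw [h0, Nat.cast_zero, zero_mul, zero_mul] at hkZ
    have h1 : (0 : ℤ) ≤ (t : ℤ) * (1 + 2 * τ' * ((u : ℤ) + 1)) ^ 2 := mul_nonneg (by omega) (sq_nonneg _)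
    have h2 : (0 : ℤ) ≤ 2 * ((u : ℤ) + 1) * ((p : ℤ) + u + 1) := by positivity
    have h3 : (0 : ℤ) ≤ (n : ℤ) * p := by positivity
    linarith
  rw [hk1', Nat.cast_one, one_mul] at hkZ
  obtain ⟨r, hr⟩ : 2 ∣ t := by omega
  have hT2 : (t : ℤ) = 2 * r := by exact_mod_cast hr
  have eu : (u : ℤ) = 2 * r - 2 := by omega
  have es : (s : ℤ) = 2 * ((2 * r : ℤ) * (2 * r)) := by
    rw [← hT2]; exact_mod_cast hs2
  have ep : (p : ℤ) = ((u : ℤ) + 1) * s + 1 := by exact_mod_cast hP.hpe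
  have en : (n : ℤ) = (u : ℤ) * s + u + 1 := by exact_mod_cast hP.hne
  have ee : (e : ℤ) = ((u : ℤ) + 1) * (4 * r) := by
    have h1 : e = (u + 1) * (4 * r) := by rw [heσ, hσ2, hr]; ring
    exact_mod_cast h1
  have hr1 : (1 : ℤ) ≤ r := by omega
  have e0 : ((u : ℤ) + 1) * (4 * r) ≠ 0 := mul_ne_zero (by omega) (by omega)
  set a := (8 * (r : ℤ) ^ 2 - 8 * r + 3) with ha
  have hns := fun g => no_square hr1 g
  rcases hτ' with rfl | rfl | rfl
  · have hf2 : (f : ℤ) ^ 2 = 4 * (r * ((r : ℤ) * a - 1)) := by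
      refine mul_left_cancel₀ e0 ?_
      rw [← ee, hkZ, ha, en, ep, es, eu, hT2, ee, eu]; ring
    have h2f : 2 ∣ f := by
      have : (2 : ℤ) ∣ (f : ℤ) ^ 2 := ⟨2 * (r * ((r : ℤ) * a - 1)), by rw [hf2]; ring⟩
      exact Nat.prime_two.dvd_of_dvd_pow (by exact_mod_cast this : 2 ∣ f ^ 2)
    obtain ⟨g, hg⟩ := h2f
    rw [hg] at hf2
    push_cast at hf2
    exact (hns g).1 (by linarith)
  · have hf2 : (f : ℤ) ^ 2 = (2 * (r : ℤ)) ^ 2 * a := by
      refine mul_left_cancel₀ e0 ?_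
      rw [← ee, hkZ, ha, en, ep, es, eu, hT2, ee, eu]; ring
    have h2f : (2 * r) ∣ f := by
      refine (Nat.pow_dvd_pow_iff two_ne_zero).mp ?_
      have : ((2 * (r : ℤ))) ^ 2 ∣ (f : ℤ) ^ 2 := ⟨a, hf2⟩
      exact_mod_cast this
    obtain ⟨g, hg⟩ := h2f
    rw [hg] at hf2
    push_cast at hf2
    refine (hns g).2.1 (mul_left_cancel₀ (pow_ne_zero 2 (show (2 * (r : ℤ)) ≠ 0 by omega)) ?_)
    linear_combination hf2
  · have hf2 : (f : ℤ) ^ 2 = 4 * ((r : ℤ) ^ 2 * a - 1) := by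
      refine mul_left_cancel₀ e0 ?_
      rw [← ee, hkZ, ha, en, ep, es, eu, hT2, ee, eu]; ring
    have h2f : 2 ∣ f := by
      have : (2 : ℤ) ∣ (f : ℤ) ^ 2 := ⟨2 * ((r : ℤ) ^ 2 * a - 1), by rw [hf2]; ring⟩
      exact Nat.prime_two.dvd_of_dvd_pow (by exact_mod_cast this : 2 ∣ f ^ 2)
    obtain ⟨g, hg⟩ := h2f
    rw [hg] at hf2
    push_cast at hf2
    exact (hns g).2.2 (by linarith)

end Blk

end Cfsg.Agent.FewSylowClass
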