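/-
One exceptional class when `C(x) = ⟨x⟩` (namespace `Cfsg.Agent.FewSylowClass`).

Main results: `bInt_of_const`, `Blk.fix_sq_le`, `Blk.not_one`.
-/
import Cfsg.Agent.Lib.FewSylowClass.Cases
import Cfsg.Agent.Lib.BrauerN.Minus

set_option autoImplicit false
set_option linter.unusedSectionVars false
set_option linter.style.haveILetI false

open scoped ComplexConjugate

namespace Cfsg.Agent.FewSylowClass

open Cfsg Cfsg.Agent.Blocks Cfsg.Agent.CyclicDefect Cfsg.Agent.BrauerN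

variable {G : Type*} [Group G] [Finite G] {p : ℕ} [Fact p.Prime] {x : G} {L : Subgroup G}
  {M : Ideal AlgInt} {hS : Setting p x L} {n u s : ℕ} {A C B D X : Finset (IrrCharacter G)} {f₀ m₀ : ℕ} {ε : ℤ}

/-- A constant value on the powers of `x` gives a constant row. -/
theorem bInt_of_const (hS : Setting p x L) (hK : K x L = ⊥) (χ : IrrCharacter G) {c : ℤ}
    (hc : ∀ i : ZMod p, i ≠ 0 → (χ : G → ℂ) (pw x i) = (c : ℂ)) {j : ZMod p} (hj : j ≠ 0) :
    bInt hS χ (oneK x L) j = -c := by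
  classical
  have := Fintype.ofFinite (K x L)
  haveI : Subsingleton (K x L) := by rw [hK]; infer_instance
  have hdec : ∀ i : ZMod p, dec (x := x) (χ : G → ℂ) (oneK x L : K x L → ℂ) i = (χ : G → ℂ) (pw x i) := by
    intro i
    rw [dec_eq, classInner, show Nat.card (K x L) = 1 by rw [hK, Subgroup.card_bot], Nat.cast_one, inv_one, one_mul,
      Fintype.sum_subsingleton _ 1]
    show _ * conj (1 : ℂ) = _
    rw [map_one, mul_one, OneMemClass.coe_one, OneMemClass.coe_one, mul_one]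
  apply Int.cast_injective (α := ℂ)
  rw [← bInt_spec hS, bval]
  simp only [hdec]
  rw [Finset.sum_congr rfl (g := fun i => (ζ (-(i * j)) - 1) * (c : ℂ)) fun i _ => by
    by_cases hi : i = 0
    · rw [hi, zero_mul, neg_zero, ζ_zero, sub_self, zero_mul, zero_mul]
    · rw [hc i hi],
    ← Finset.sum_mul, Finset.sum_sub_distrib,
    Finset.sum_congr rfl (g := fun i => ζ (i * -j)) fun i _ => by rw [mul_neg],
    sum_ζ_mul, if_neg (neg_ne_zero.mpr hj), Finset.sum_const, Finset.card_univ, ZMod.card, nsmul_eq_mul, mul_one,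
    zero_sub, neg_mul, mul_neg, inv_mul_cancel_left₀ (Nat.cast_ne_zero.mpr hS.hp.ne_zero), Int.cast_neg]

namespace Blk

variable (h : Blk hS M n u s A C B D X f₀ m₀ ε) (hP : Par p n u s) (hK : K x L = ⊥) (hM : IsPModular p M)
  (hn : Nat.card (Sylow p G) = 1 + n * p)
include h hP hK hM hn

/-- The numbers of characters. -/
theorem count_one (hX : X = ∅) : (K x L).index = p - 1 ∧ A.card + C.card + B.card + D.card = p - 1 ∧
    (A.card : ℤ) * n + C.card * u = B.card + D.card * (s + 1) - 1 := by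
  rcases h.cases with ⟨-, -, -, he, hc⟩ | ⟨ht, -⟩
  · have hid := h.ident hP
    rw [if_pos hX] at hid
    have hε : ε = 0 := by
      rcases h.cases with h1 | ⟨ht, -⟩
      · exact h1.2.1
      · rw [hX, Finset.card_empty] at ht; omega
    rw [hε, zero_mul, add_zero] at hid
    exact ⟨he, hc.trans he, hid⟩
  · rw [hX, Finset.card_empty] at ht; omega

/-- The squares of the dimensions of the fixed spaces. -/
theorem fix_sq_le (hX : X = ∅) :
    1 + A.card * (n + 1) ^ 2 + C.card * (u + 1) ^ 2 + D.card * s ^ 2 ≤ (p - 1) * (n + 1) := by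
  classical
  have hp := hS.hp
  obtain ⟨he, hc, hid⟩ := h.count_one hP hK hM hn hX
  have := Fintype.ofFinite (IrrCharacter G)
  have h1 := Char.sum_sq_degrees (G := G)
  rw [h.sum_irr hP hK hM, oneG_apply, hX, Finset.sum_empty, add_zero,
    Finset.sum_congr rfl fun a ha => by rw [← charDegree_cast a, (h.memA a ha).2.1],
    Finset.sum_congr (s₁ := C) rfl fun a ha => by rw [← charDegree_cast a, (h.memC a ha).2.1],
    Finset.sum_congr (s₁ := B) rfl fun a ha => by rw [← charDegree_cast a, (h.memB a ha).2.1],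
    Finset.sum_congr (s₁ := D) rfl fun a ha => by rw [← charDegree_cast a, (h.memD a ha).2.1],
    Finset.sum_congr (s₁ := Zset p G) rfl fun a ha => by rw [← charDegree_cast a],
    Finset.sum_const, Finset.sum_const, Finset.sum_const, Finset.sum_const, nsmul_eq_mul, nsmul_eq_mul,
    nsmul_eq_mul, nsmul_eq_mul] at h1
  set Z := ∑ z ∈ Zset p G, charDegree (z : G → ℂ) ^ 2 with hZ
  have h2 : ((1 + A.card * ((u * s + 1) * (p + u + 1)) ^ 2 + C.card * ((u + 1) * (u * s + 1)) ^ 2 +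
      B.card * (p - 1) ^ 2 + D.card * (s * (p + u + 1)) ^ 2 + Z : ℕ) : ℤ) = (Nat.card G : ℕ) := by
    apply congrArg
    apply Nat.cast_injective (R := ℂ)
    simp only [hZ, Nat.cast_add, Nat.cast_mul, Nat.cast_pow, Nat.cast_sum, Nat.cast_one] at h1 ⊢
    linear_combination h1
  rw [card_G_eq hS hK hn, he] at h2
  have hZ0 : (0 : ℤ) ≤ (Z : ℤ) := Int.natCast_nonneg _
  have hp' : (p : ℤ) = ((u : ℤ) + 1) * s + 1 := by exact_mod_cast hP.hpe
  have hn' : (n : ℤ) = (u : ℤ) * s + u + 1 := by exact_mod_cast hP.hne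
  have hc' : (A.card : ℤ) + C.card + B.card + D.card = (p : ℤ) - 1 := by
    have h3 : ((A.card + C.card + B.card + D.card : ℕ) : ℤ) = ((p - 1 : ℕ) : ℤ) := by rw [hc]
    push_cast [Nat.cast_sub hp.one_le] at h3
    exact h3
  push_cast [Nat.cast_sub hp.one_le] at h2
  have hd1 : ((u : ℤ) * s + 1) * ((p : ℤ) + u + 1) = (p : ℤ) * (n + 1) - (p - 1) := by
    rw [hn', hp']; ring
  have hd2 : ((u : ℤ) + 1) * ((u : ℤ) * s + 1) = (p : ℤ) * (u + 1) - (p - 1) := by rw [hp']; ring
  have hd3 : (s : ℤ) * ((p : ℤ) + u + 1) = (p : ℤ) * s + (p - 1) := by rw [hp']; ring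
  rw [hd1, hd2, hd3] at h2
  have key : (p : ℤ) ^ 2 * (1 + A.card * ((n : ℤ) + 1) ^ 2 + C.card * ((u : ℤ) + 1) ^ 2 + D.card * (s : ℤ) ^ 2) ≤
      (p : ℤ) ^ 2 * (((p : ℤ) - 1) * (n + 1)) := by
    linear_combination h2 + hZ0 + 2 * (p : ℤ) * ((p : ℤ) - 1) * hid +
      (2 * (p : ℤ) * ((p : ℤ) - 1) - ((p : ℤ) - 1) ^ 2) * hc'
  have h4 := le_of_mul_le_mul_left key (pow_pos (by exact_mod_cast hp.pos) 2)
  have h5 : ((1 + A.card * (n + 1) ^ 2 + C.card * (u + 1) ^ 2 + D.card * s ^ 2 : ℕ) : ℤ) ≤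
      (((p - 1) * (n + 1) : ℕ) : ℤ) := by
    push_cast [Nat.cast_sub hp.one_le]
    exact h4
  exact_mod_cast h5

set_option maxHeartbeats 1600000 in
/-- No block with one exceptional class. -/
theorem not_one (hperf : commutator G = ⊤) (hX : X = ∅) : False := by
  classical
  have := Fintype.ofFinite (IrrCharacter G)
  have hp := hS.hp
  have hu := hP.hu
  have hus := hP.hus
  have hp5 := hP.five_le
  obtain ⟨he, hc, hid⟩ := h.count_one hP hK hM hn hX
  have hfix := h.fix_sq_le hP hK hM hn hX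
  have hc' : (A.card : ℤ) + C.card + B.card + D.card = ((u : ℤ) + 1) * s := by
    exact_mod_cast hc.trans hP.p_sub
  have hn' : (n : ℤ) = (u : ℤ) * s + u + 1 := by exact_mod_cast hP.hne
  have hps := hP.p_sub
  have hus' : s * 1 ≤ u * s := by rw [mul_comm u]; exact Nat.mul_le_mul_left s hu
  have ha : A.card ≤ 1 := by
    by_contra hge
    have h1 : 2 * (n + 1) * (n + 1) ≤ A.card * (n + 1) ^ 2 := by
      rw [pow_two, ← mul_assoc]
      exact Nat.mul_le_mul_right _ (Nat.mul_le_mul_right _ (by omega))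
    have h2 : 2 * (n + 1) * (n + 1) ≤ (p - 1) * (n + 1) := by omega
    have h3 := Nat.le_of_mul_le_mul_right h2 (by omega)
    have h4 : (u + 1) * s = u * s + s := by ring
    have := hP.hne
    omega
  rcases Nat.eq_zero_or_pos A.card with ha0 | ha0
  · rw [ha0] at hid hc'
    push_cast at hid hc'
    have hA : A = ∅ := Finset.card_eq_zero.mp ha0
    have hcnt : (C.card : ℤ) * (u + 1) + 1 = ((u : ℤ) + 1) * s + D.card * s := by linarith
    have hs1 : (2 : ℤ) ≤ s := by exact_mod_cast hP.two_le_s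
    rcases Nat.eq_zero_or_pos C.card with hc0 | hc0
    · rw [hc0] at hcnt
      push_cast at hcnt
      have h2 : (0 : ℤ) ≤ (D.card : ℤ) * s := mul_nonneg (Int.natCast_nonneg _) (by omega)
      have h3 : (0 : ℤ) ≤ (u : ℤ) * s := mul_nonneg (Int.natCast_nonneg _) (by omega)
      linarith
    obtain ⟨r, hr, hrs⟩ := Nat.exists_prime_and_dvd (show s ≠ 1 by omega)
    have hru : ¬ r ∣ u + 1 := fun h2 => hr.not_dvd_one (by
      have e2 : (r : ℤ) ∣ (u : ℤ) + 1 := by exact_mod_cast h2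
      have e3 : (r : ℤ) ∣ s := by exact_mod_cast hrs
      have e4 : (r : ℤ) ∣ 1 := by
        rw [show (1 : ℤ) = ((u : ℤ) + 1) * s + D.card * s - C.card * (u + 1) by linarith]
        exact Int.dvd_sub (Int.dvd_add (e3.mul_left _) (e3.mul_left _)) (e2.mul_left _)
      exact_mod_cast e4)
    obtain ⟨y, hy, hy1⟩ := exists_orderOf hS hK hr (by rw [he, hps]; exact hrs.mul_left _)
    have hD0 : ∀ ψ ∈ D, (ψ : G → ℂ) (y : G) = 0 := by
      intro ψ hψ
      refine vanish_of_defect ψ hr (M' := p * (u + 1) * (u * s + 1)) ?_ ?_ (by rw [Subgroup.orderOf_coe, hy])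
      · rw [(h.memD ψ hψ).2.1, card_G_eq hS hK hn, he, hps, hP.card_eq]; ring
      · refine fun h2 => (hr.dvd_mul.mp h2).elim (fun h3 => (hr.dvd_mul.mp h3).elim (fun h4 => ?_) hru) fun h4 => ?_
        · exact hr.not_dvd_one ((hP.cop_D hp) ▸ Nat.dvd_gcd hrs (h4.mul_right _))
        · exact hr.not_dvd_one ((hP.cop_D hp) ▸ Nat.dvd_gcd hrs (h4.mul_left _))
    have hrel := h.rel_L0 hP hK hM hX hy1
    rw [hA, Finset.sum_empty, Finset.sum_eq_zero hD0] at hrel
    have hint : IsIntegral ℤ ((-1 : ℂ) / ((u + 1 : ℕ) : ℂ)) := by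
      rw [show (-1 : ℂ) = ∑ c ∈ C, (c : G → ℂ) (y : G) by linear_combination hrel, Finset.sum_div]
      exact IsIntegral.sum _ fun c hc2 => h.isIntegral_C hP hK hM hn hc2 y
    have := dvd_one_of_isIntegral (Nat.succ_pos u) hint
    omega
  -- one character of degree `1 + n p`
  have ha1 : A.card = 1 := by omega
  obtain ⟨α, hA⟩ := Finset.card_eq_one.mp ha1
  rw [ha1] at hid hc' hfix
  push_cast at hid hc'
  have hcnt : (C.card : ℤ) * (u + 1) + u + 3 = (s : ℤ) * (1 + D.card) := by linarith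
  have hcop : Nat.Coprime (u + 1) s := by
    refine Nat.coprime_of_dvd fun r hr h1 h2 => ?_
    have e2 : (r : ℤ) ∣ (u : ℤ) + 1 := by exact_mod_cast h1
    have e3 : (r : ℤ) ∣ s := by exact_mod_cast h2
    have e4 : (r : ℤ) ∣ 2 := by
      rw [show (2 : ℤ) = (s : ℤ) * (1 + D.card) - ((C.card : ℤ) + 1) * (u + 1) by linarith]
      exact Int.dvd_sub (e3.mul_right _) (e2.mul_left _)
    obtain rfl : r = 2 := (Nat.prime_dvd_prime_iff_eq hr Nat.prime_two).mp (by exact_mod_cast e4)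
    rcases parity_bot hS hP hK hperf hn (by rw [he, hps]; exact h2.mul_left _) with h3 | h3 <;> omega
  obtain ⟨r, hr, hru⟩ := Nat.exists_prime_and_dvd (show u + 1 ≠ 1 by omega)
  have hrs : ¬ r ∣ s := fun h2 => hr.not_dvd_one (hcop ▸ Nat.dvd_gcd hru h2)
  obtain ⟨y, hy, hy1⟩ := exists_orderOf hS hK hr (by rw [he, hps]; exact hru.mul_right _)
  have hC0 : ∀ c ∈ C, (c : G → ℂ) (y : G) = 0 := by
    intro c hc2
    refine vanish_of_defect c hr (M' := p * s * (p + u + 1)) ?_ ?_ (by rw [Subgroup.orderOf_coe, hy])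
    · rw [(h.memC c hc2).2.1, card_G_eq hS hK hn, he, hps, hP.card_eq]; ring
    · refine fun h2 => (hr.dvd_mul.mp h2).elim (fun h3 => (hr.dvd_mul.mp h3).elim (fun h4 => ?_) hrs) fun h4 => ?_
      · exact hr.not_dvd_one ((hP.cop_C hp) ▸ Nat.dvd_gcd hru (h4.mul_right _))
      · exact hr.not_dvd_one ((hP.cop_C hp) ▸ Nat.dvd_gcd hru (h4.mul_left _))
  have hrel := h.rel_L0 hP hK hM hX hy1
  rw [hA, Finset.sum_singleton, Finset.sum_eq_zero hC0, sub_zero] at hrel
  obtain ⟨f, k, -, -, -, -, hk⟩ := h.square_count hP hK hM hn hy1 (z := 0) fun χ hχ => by simp [hX] at hχ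
  rw [hA, Finset.sum_singleton, Finset.sum_eq_zero (s := C) fun c hc2 => by rw [hC0 c hc2, zero_pow two_ne_zero]] at hk
  have hs0 : (s : ℂ) ≠ 0 := Nat.cast_ne_zero.mpr (by omega)
  obtain ⟨j, hj⟩ : ∃ j : ℤ, ((((k * (K x L).index * f ^ 2 : ℕ) : ℤ) - (1 + n * p : ℕ) - 1 : ℤ) : ℂ) / (s : ℂ) = (j : ℂ) := by
    refine Char.exists_int_of_isIntegral_mul (n := s) (by omega)
      (k := (((k * (K x L).index * f ^ 2 : ℕ) : ℤ) - (1 + n * p : ℕ) - 1 : ℤ)) (by rw [mul_div_cancel₀ _ hs0]) ?_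
    set S₁ := ∑ d ∈ D, (d : G → ℂ) (y : G) with hS₁
    set S₂ := ∑ d ∈ D, ((d : G → ℂ) (y : G) / (s : ℂ)) ^ 2 with hS₂
    have hS₂' : ∑ d ∈ D, (d : G → ℂ) (y : G) ^ 2 = (s : ℂ) ^ 2 * S₂ := by
      rw [hS₂, Finset.mul_sum]
      exact Finset.sum_congr rfl fun d _ => by field_simp
    rw [hS₂'] at hk
    have hα : (α : G → ℂ) (y : G) = S₁ - 1 := by linear_combination -hrel
    rw [hα] at hk
    have heq : ((((k * (K x L).index * f ^ 2 : ℕ) : ℤ) - (1 + n * p : ℕ) - 1 : ℤ) : ℂ) / (s : ℂ) =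
        (S₁ / (s : ℂ)) * (S₁ - 2) - ((u * s + 1 : ℕ) : ℂ) * S₂ := by
      push_cast at hk ⊢
      rw [hk]
      field_simp
      ring
    rw [heq]
    have hI : IsIntegral ℤ (S₁ / (s : ℂ)) := by
      rw [hS₁, Finset.sum_div]
      exact IsIntegral.sum _ fun d hd => h.isIntegral_D hP hK hM hn hd y
    have hI2 : IsIntegral ℤ S₁ := IsIntegral.sum _ fun d _ => Char.IsCharacter.isIntegral (Char.IsIrrCharacter.isCharacter d.2) _
    have hI3 : IsIntegral ℤ S₂ := IsIntegral.sum _ fun d hd => (h.isIntegral_D hP hK hM hn hd y).pow 2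
    refine (hI.mul (hI2.sub ?_)).sub (IsIntegral.mul ?_ hI3)
    · exact_mod_cast (isIntegral_algebraMap (R := ℤ) (A := ℂ) (x := (2 : ℤ)))
    · simpa using (isIntegral_algebraMap (R := ℤ) (A := ℂ) (x := ((u * s + 1 : ℕ) : ℤ)))
  rw [div_eq_iff hs0] at hj
  have hdvd : s ∣ u + 3 := by
    have e1 : (((k * (K x L).index * f ^ 2 : ℕ) : ℤ) - (1 + n * p : ℕ) - 1 : ℤ) = j * s := by
      apply Int.cast_injective (α := ℂ)
      rw [hj]; push_cast; ring
    have e2 : (s : ℤ) ∣ ((k * (K x L).index * f ^ 2 : ℕ) : ℤ) := by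
      rw [Int.natCast_dvd_natCast, he, hps]
      exact ((dvd_mul_left s (u + 1)).mul_left k).mul_right _
    have e3 : (s : ℤ) ∣ ((1 + n * p : ℕ) : ℤ) + 1 := by
      rw [show ((1 + n * p : ℕ) : ℤ) + 1 = ((k * (K x L).index * f ^ 2 : ℕ) : ℤ) - j * s by linarith]
      exact Int.dvd_sub e2 (dvd_mul_left _ _)
    have hp' : (p : ℤ) = ((u : ℤ) + 1) * s + 1 := by exact_mod_cast hP.hpe
    have e4 : (s : ℤ) ∣ (u : ℤ) + 3 := by
      rw [show (u : ℤ) + 3 = ((1 + n * p : ℕ) : ℤ) + 1 - (s : ℤ) * ((u : ℤ) + n * (u + 1)) by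
        push_cast
        rw [hp', hn']; ring]
      exact Int.dvd_sub e3 (dvd_mul_right _ _)
    exact_mod_cast e4
  have hsu : s = u + 3 := by
    obtain ⟨w, hw⟩ := hdvd
    rcases Nat.lt_or_ge w 2 with hw1 | hw2
    · interval_cases w <;> omega
    · exfalso
      have := Nat.mul_le_mul_left s hw2
      obtain rfl : u = 1 := by omega
      obtain rfl : s = 2 := by omega
      norm_num at hcop
  have hsu' : (s : ℤ) = (u : ℤ) + 3 := by exact_mod_cast hsu
  have hcd : (C.card : ℤ) * (u + 1) = (s : ℤ) * D.card := by linarith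
  obtain ⟨w, hw⟩ : s ∣ C.card := hcop.symm.dvd_of_dvd_mul_right
    ⟨D.card, by exact_mod_cast hcd⟩
  have hd : D.card = w * (u + 1) := by
    refine Nat.eq_of_mul_eq_mul_left (show 0 < s by omega) ?_
    have h1 : C.card * (u + 1) = s * D.card := by exact_mod_cast hcd
    rw [← h1, hw]; ring
  have hw0 : w = 0 := by
    by_contra hne
    have h1 : (p - 1) * (n + 1) = (n + 1) ^ 2 + (n + 1) := by
      rw [show p - 1 = n + 2 by have := hP.hne; have h4 : (u + 1) * s = u * s + s := (by ring); omega]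
      ring
    rw [h1, one_mul, hw, hd] at hfix
    have h2 : s * (u + 1) * (u + 1) ≤ s * w * (u + 1) ^ 2 := by
      rw [pow_two, ← mul_assoc]
      exact Nat.mul_le_mul_right _ (Nat.mul_le_mul_right _ (Nat.le_mul_of_pos_right s (Nat.pos_of_ne_zero hne)))
    have h3 : (u + 1) * s ^ 2 ≤ w * (u + 1) * s ^ 2 :=
      Nat.mul_le_mul_right _ (Nat.le_mul_of_pos_left _ (Nat.pos_of_ne_zero hne))
    have h4 : (u + 1) * s * 2 ≤ (u + 1) * s ^ 2 := by
      rw [pow_two, ← mul_assoc]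
      exact Nat.mul_le_mul_left _ hP.two_le_s
    have h5 : (u + 1) * s = u * s + s := by ring
    have := hP.hne
    omega
  rw [hw0, mul_zero] at hw
  rw [hw0, zero_mul] at hd
  have hC : C = ∅ := Finset.card_eq_zero.mp hw
  have hD : D = ∅ := Finset.card_eq_zero.mp hd
  have hαm := h.memA α (by rw [hA]; exact Finset.mem_singleton_self α)
  have hsh : Shape hS M n (1 + n * p) (-1) ∅ B {α} := by
    refine ⟨Or.inr rfl, fun χ hχ => absurd hχ (Finset.notMem_empty χ),
      fun χ hχ => ⟨(h.memB χ hχ).1, (h.memB χ hχ).2.1, (h.memB χ hχ).2.2.1, (h.memB χ hχ).2.2.2.1⟩,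
      fun χ hχ => ?_, Finset.disjoint_empty_left _, Finset.disjoint_empty_left _, ?_, fun χ hχ => ?_, ?_, ?_,
      fun g hg χ hχ => ?_, fun χ hχ v => ?_, fun i hi => ?_⟩
    · rw [Finset.mem_singleton.mp hχ, he, hP.card_eq]
      exact ⟨hαm.1, hαm.2.1, by rw [hαm.2.2.1, neg_one_mul], hαm.2.2.2.1⟩
    · refine Finset.disjoint_singleton_right.mpr fun h2 => ?_
      have e1 := (h.memB α h2).2.2.1
      rw [hαm.2.2.1] at e1
      omega
    · rcases h.cover χ hχ with h1 | h1 | h1 | h1 | h1 | h1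
      · exact Or.inl h1
      · exact Or.inr (Or.inr (Or.inr (hA ▸ h1)))
      · simp [hC] at h1
      · exact Or.inr (Or.inr (Or.inl h1))
      · simp [hD] at h1
      · simp [hX] at h1
    · rw [Finset.card_empty, he]
      rw [ha1, hw, hd] at hc
      omega
    · rw [Finset.card_singleton, mul_one, he]
    · rw [Finset.mem_singleton.mp hχ]
      have h1 := h.rel0 hX g hg
      rw [hA, hC, hD, Finset.sum_singleton, Finset.sum_empty] at h1
      simp only [Finset.sum_empty, sub_zero, add_zero] at h1 ⊢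
      push_cast
      linear_combination h1
    · rw [Finset.mem_singleton.mp hχ, bInt_of_const hS hK α (c := 1)
        (fun i hi => by rw [hαm.2.2.2.2 i hi, Int.cast_one]) v.ne_zero]
      norm_num
    · rw [Finset.sum_singleton, hαm.2.2.2.2 i hi]
      simp
  have hb := minus_basic hS hK hM hsh (by rw [Finset.card_singleton, one_mul]) (two_le_index hS hperf) hP.n_pos hn
  have h1 := hb.n_succ
  rw [Finset.card_singleton] at h1
  have := hP.hne
  omega

end Blk

end Cfsg.Agent.FewSylowClass
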