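/-
Sums over the regular part of the centralizer of an `r`-element (namespace `Cfsg.Agent.FewSylowClass`).

Main results: `sum_comp_le`, `isIntegral_regular_sum`.
-/
import Cfsg.Agent.Lib.Char.PRegular
import Cfsg.Agent.Lib.CharApp.Schur

set_option autoImplicit false
set_option linter.unusedSectionVars false
set_option linter.style.haveILetI false

open scoped ComplexConjugate

namespace Cfsg.Agent.FewSylowClass

open Cfsg

/-- A sum along a map whose fibres have at most `K` members. -/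
theorem sum_comp_le {ι α : Type*} [Fintype ι] (φ : ι → α) (T : Finset α) {F : α → ℝ} (hF : ∀ a, 0 ≤ F a)
    (hT : ∀ a, φ a ∈ T) {K : ℕ} (hK : ∀ a, Nat.card {b // φ b = φ a} ≤ K) :
    ∑ a, F (φ a) ≤ (K : ℝ) * ∑ t ∈ T, F t := by
  classical
  rw [← Finset.sum_fiberwise_of_maps_to (g := φ) (fun a _ => hT a), Finset.mul_sum]
  refine Finset.sum_le_sum fun t _ => ?_
  rw [Finset.sum_congr rfl (g := fun _ => F t) fun a ha => by rw [(Finset.mem_filter.mp ha).2],
    Finset.sum_const, nsmul_eq_mul]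
  refine mul_le_mul_of_nonneg_right ?_ (hF t)
  rcases (Finset.univ.filter fun a => φ a = t).eq_empty_or_nonempty with h | ⟨a, ha⟩
  · rw [h, Finset.card_empty, Nat.cast_zero]; exact Nat.cast_nonneg K
  · have h1 := hK a
    rw [(Finset.mem_filter.mp ha).2, Nat.card_eq_fintype_card, Fintype.card_subtype] at h1
    exact_mod_cast h1

/-- Shifted by a central element, the `r`-part of the order times the mean square over the regular elements
is integral. -/
theorem isIntegral_regular_sum {H : Type*} [Group H] [Fintype H] {r : ℕ} (hr : r.Prime) {θ : H → ℂ}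
    (hθ : IsCharacter H θ) {y : H} (hy : y ∈ Subgroup.center H) :
    IsIntegral ℤ (((r ^ (Nat.card H).factorization r : ℕ) : ℂ) * ((Nat.card H : ℂ)⁻¹ *
      ∑ v ∈ Finset.univ.filter (fun v : H => ¬ r ∣ orderOf v), θ (y * v) * conj (θ (y * v)))) := by
  classical
  have := Fintype.ofFinite (IrrCharacter H)
  obtain ⟨m, hm, -⟩ := Char.IsCharacter.decompose hθ
  have hsc : ∀ ψ : IrrCharacter H, ∃ w : ℂ, IsIntegral ℤ w ∧ IsIntegral ℤ (conj w) ∧
      ∀ g, (ψ : H → ℂ) (y * g) = w * (ψ : H → ℂ) g := by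
    intro ψ
    obtain ⟨d, ρ, hirr, hρ⟩ := ψ.2
    obtain ⟨w, hw⟩ := CharApp.exists_scalar_of_mem_center ρ hy
    have hpow : w ^ orderOf y = 1 := by
      have h0 := congrArg ρ (pow_orderOf_eq_one y)
      rw [map_pow, hw, smul_pow, one_pow, map_one] at h0
      have hne : (1 : Module.End ℂ (Fin d → ℂ)) ≠ 0 := by
        intro h1
        have := Char.nontrivial_of_isIrreducible ρ
        exact one_ne_zero h1
      refine smul_left_injective ℂ hne ?_
      simpa using h0
    refine ⟨w, IsIntegral.of_pow (orderOf_pos y) (by rw [hpow]; exact isIntegral_one),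
      IsIntegral.of_pow (orderOf_pos y) (by rw [← map_pow, hpow, map_one]; exact isIntegral_one), fun g => ?_⟩
    rw [← hρ]
    simp only [Representation.character, map_mul, hw, smul_mul_assoc, one_mul, map_smul, smul_eq_mul]
  choose w hw1 hw2 hw3 using hsc
  set R := Finset.univ.filter (fun v : H => ¬ r ∣ orderOf v)
  have hθv : ∀ v, θ (y * v) = ∑ ψ : IrrCharacter H, (m ψ : ℂ) * w ψ * (ψ : H → ℂ) v := by
    intro v
    rw [hm, Finset.sum_apply]
    exact Finset.sum_congr rfl fun ψ _ => by rw [Pi.smul_apply, smul_eq_mul, hw3, mul_assoc]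
  rw [Finset.sum_congr rfl fun v _ => by rw [hθv, map_sum, Finset.sum_mul_sum], Finset.sum_comm,
    Finset.mul_sum, Finset.mul_sum]
  refine IsIntegral.sum _ fun ψ _ => ?_
  rw [Finset.sum_comm, Finset.mul_sum, Finset.mul_sum]
  refine IsIntegral.sum _ fun ψ' _ => ?_
  obtain ⟨d, -, hd⟩ := Char.IsIrrCharacter.exists_degree ψ.2
  obtain ⟨k, hk⟩ := Char.IsGeneralizedCharacter.classInner_int
    (Char.isGeneralizedCharacter_regularPart hr ψ.2 hd)
    (Char.isGeneralizedCharacter_of_isCharacter (Char.IsIrrCharacter.isCharacter ψ'.2))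
  set a := (Nat.card H).factorization r
  set b := d.factorization r
  have hab : b ≤ a := Char.factorization_degree_le ψ.2 hd
  have hk' : (Nat.card H : ℂ)⁻¹ * (((r ^ (a - b) : ℕ) : ℂ) * ∑ v ∈ R, (ψ : H → ℂ) v * conj ((ψ' : H → ℂ) v)) =
      (k : ℂ) := by
    rw [← hk, classInner]
    congr 1
    rw [Finset.mul_sum, Finset.sum_filter]
    refine Finset.sum_congr rfl fun v _ => ?_
    split_ifs <;> ring
  have heq : ((r ^ a : ℕ) : ℂ) * ((Nat.card H : ℂ)⁻¹ *
      ∑ v ∈ R, (m ψ : ℂ) * w ψ * (ψ : H → ℂ) v * conj ((m ψ' : ℂ) * w ψ' * (ψ' : H → ℂ) v)) =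
      (m ψ : ℂ) * w ψ * ((m ψ' : ℂ) * conj (w ψ')) * (((r ^ b : ℕ) : ℂ) * (k : ℂ)) := by
    have hsum : ∑ v ∈ R, (m ψ : ℂ) * w ψ * (ψ : H → ℂ) v * conj ((m ψ' : ℂ) * w ψ' * (ψ' : H → ℂ) v) =
        (m ψ : ℂ) * w ψ * ((m ψ' : ℂ) * conj (w ψ')) * ∑ v ∈ R, (ψ : H → ℂ) v * conj ((ψ' : H → ℂ) v) := by
      rw [Finset.mul_sum]
      refine Finset.sum_congr rfl fun v _ => ?_
      rw [map_mul, map_mul, map_natCast]
      ring
    rw [hsum, ← hk', show ((r ^ a : ℕ) : ℂ) = ((r ^ b : ℕ) : ℂ) * ((r ^ (a - b) : ℕ) : ℂ) by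
      rw [← Nat.cast_mul, ← pow_add, Nat.add_sub_cancel' hab]]
    ring
  rw [heq]
  have hn : ∀ j : ℕ, IsIntegral ℤ (j : ℂ) := fun j => by
    simpa using (isIntegral_algebraMap (R := ℤ) (A := ℂ) (x := (j : ℤ)))
  exact (((hn _).mul (hw1 ψ)).mul ((hn _).mul (hw2 ψ'))).mul ((hn _).mul
    (isIntegral_algebraMap (R := ℤ) (A := ℂ) (x := k)))

end Cfsg.Agent.FewSylowClass
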