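/-
The block `1`, `U`, `X` with `e = 2`: `PSL(2, p + 1)` (namespace `Cfsg.Agent.FewSylowClass`).

Main results: `Target`, `Blk.target_two`.
-/
import Cfsg.Agent.Lib.FewSylowClass.CaseN
import Cfsg.Agent.Lib.TwoFusion.ElemCentralizersPSL

set_option autoImplicit false
set_option linter.unusedSectionVars false
set_option linter.style.haveILetI false

open scoped ComplexConjugate

namespace Cfsg.Agent.FewSylowClass

open Cfsg Cfsg.Agent.Blocks Cfsg.Agent.CyclicDefect Cfsg.Agent.BrauerN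

/-- The shape left over: one character of degree `(u + 1) (u s + 1)`, none of degree `1 + n p` or
`s (p + u + 1)`, and `s` exceptional characters of degree `p + u + 1`. -/
structure Target {G : Type*} [Group G] [Finite G] (p : ℕ) (x : G) (L : Subgroup G) (u s : ℕ)
    (A C B D X : Finset (IrrCharacter G)) (f₀ : ℕ) (ε : ℤ) : Prop where
  index : (K x L).index = u + 1
  cardX : X.card = s
  cardC : C.card = 1
  Aemp : A = ∅
  Demp : D = ∅
  cardB : B.card + 1 = u
  eps : ε = 1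
  deg : f₀ = p + u + 1

variable {G : Type*} [Group G] [Finite G] {p : ℕ} [Fact p.Prime] {x : G} {L : Subgroup G}
  {M : Ideal AlgInt} {hS : Setting p x L} {n u s : ℕ} {A C B D X : Finset (IrrCharacter G)} {f₀ m₀ : ℕ} {ε : ℤ}

/-- An exceptional character is linear on the fixed space. -/
theorem Blk.norm_X_eq_one (h : Blk hS M n u s A C B D X f₀ m₀ ε) (hP : Par p n u s) (hK : K x L = ⊥)
    (hM : IsPModular p M) (hT : Target p x L u s A C B D X f₀ ε) {χ : IrrCharacter G} (hχ : χ ∈ X)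
    {y : L} (hy : y ≠ 1) : ‖(χ : G → ℂ) (y : G)‖ = 1 := by
  obtain ⟨φ, hφc, hφ1, hφy, -⟩ := h.fixX hP hM hχ
  have hm : m₀ = 1 := by
    have h1 := h.degX hP ⟨χ, hχ⟩
    rw [hT.eps, hT.deg, hT.index, one_mul] at h1
    push_cast at h1
    have hp0 : (p : ℤ) ≠ 0 := by exact_mod_cast hS.hp.ne_zero
    have h2 : (m₀ : ℤ) = 1 := mul_left_cancel₀ hp0 (by linarith)
    exact_mod_cast h2
  rw [hm, Nat.cast_one] at hφ1
  obtain ⟨l, hl⟩ := Char.exists_hom_of_degree_one hφc hφ1
  rw [hφy y ((ne_one_of_not_mem hS hK).mpr hy), ← hl]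
  exact Complex.norm_eq_one_of_pow_eq_one (by rw [← map_pow, pow_orderOf_eq_one, map_one]) (orderOf_pos y).ne'

/-- The relation on the regular elements. -/
theorem Blk.target_rel (h : Blk hS M n u s A C B D X f₀ m₀ ε) (hT : Target p x L u s A C B D X f₀ ε)
    {g : G} (hg : ¬ p ∣ orderOf g) {U χ : IrrCharacter G} (hC : C = {U}) (hχ : χ ∈ X) :
    -1 - (U : G → ℂ) g + ∑ b ∈ B, (b : G → ℂ) g + (χ : G → ℂ) g = 0 := by
  have h1 := h.rel g hg χ hχ
  obtain ⟨-, -, -, hA, hD, -, hε, -⟩ := hT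
  subst hA hD hε hC
  simp only [Finset.sum_empty, Finset.sum_singleton, sub_zero, add_zero, Int.cast_one, one_mul] at h1
  exact h1

set_option maxHeartbeats 1600000 in
/-- With `e = 2` the centralizers of involutions are elementary abelian. -/
theorem Blk.target_two [IsSimpleGroup G] (h : Blk hS M n u s A C B D X f₀ m₀ ε) (hP : Par p n u s)
    (hK : K x L = ⊥) (hM : IsPModular p M) (hn : Nat.card (Sylow p G) = 1 + n * p) (hperf : commutator G = ⊤)
    (hT : Target p x L u s A C B D X f₀ ε) (hu : u = 1) : Classified p n G := by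
  classical
  have := Fintype.ofFinite (IrrCharacter G)
  have hp := hS.hp
  subst hu
  have hi := hT.index
  have he : (K x L).index = 2 := hi
  have hp5 := hP.five_le
  have hpe : p = 2 * s + 1 := hP.hpe
  have hne : n = s + 2 := by have := hP.hne; omega
  have hs2 := hP.two_le_s
  have hs : ¬ 2 ∣ s := (parity_bot hS hP hK hperf hn (dvd_of_eq he.symm)).resolve_left (by omega)
  have hN : (1 + n * p : ℕ) = (s + 1) * (p + 2) := by rw [hP.card_eq]; ring
  have hG : Nat.card G = p * 2 * ((s + 1) * (p + 2)) := by rw [card_G_eq hS hK hn, he, hN]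
  have hB : B = ∅ := Finset.card_eq_zero.mp (by have := hT.cardB; omega)
  obtain ⟨U, hC⟩ := Finset.card_eq_one.mp hT.cardC
  have hUm := h.memC U (by rw [hC]; exact Finset.mem_singleton_self U)
  have hUdeg : charDegree (U : G → ℂ) = p + 1 := by rw [hUm.2.1, hpe]; ring
  obtain ⟨χ₀, hχ₀⟩ : X.Nonempty := Finset.card_pos.mp (by rw [hT.cardX]; omega)
  have hf₀ : f₀ = p + 2 := hT.deg
  have hXdeg : ∀ χ ∈ X, (χ : G → ℂ) 1 = ((p + 2 : ℕ) : ℂ) := fun χ hχ => by
    rw [← charDegree_cast, (h.memX χ hχ).2.1, hf₀]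
  have hrel : ∀ g : G, ¬ p ∣ orderOf g → ∀ χ ∈ X, (U : G → ℂ) g = (χ : G → ℂ) g - 1 := by
    intro g hg χ hχ
    have h1 := h.target_rel hT hg hC hχ
    rw [hB, Finset.sum_empty] at h1
    linear_combination -h1
  -- the involution
  haveI := Fact.mk Nat.prime_two
  obtain ⟨y, hy, hy1⟩ := exists_orderOf hS hK Nat.prime_two (dvd_of_eq he.symm)
  have hy2 : y ^ 2 = 1 := by rw [← hy, pow_orderOf_eq_one]
  have hyG : (y : G) ^ 2 = 1 := by rw [← SubmonoidClass.coe_pow, hy2, OneMemClass.coe_one]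
  have hy1' : (y : G) ≠ 1 := fun h1 => hy1 (Subtype.ext h1)
  have hyreg := hS.regular_L y
  obtain ⟨lam, hlam⟩ := exists_int_apply (Char.IsIrrCharacter.isCharacter χ₀.2) hyG
  have hlam1 : lam = 1 ∨ lam = -1 := by
    have h1 := h.norm_X_eq_one hP hK hM hT hχ₀ hy1
    rw [hlam, Complex.norm_intCast] at h1
    have h2 : |lam| = 1 := by exact_mod_cast h1
    exact (abs_eq zero_le_one).mp h2
  have hXy : ∀ χ ∈ X, (χ : G → ℂ) (y : G) = (lam : ℂ) := fun χ hχ =>
    (h.apply_X_eq hP hM hyreg hχ hχ₀).trans hlam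
  obtain ⟨f, k, hf0, hfN, hcardC, hk1, hk⟩ := h.square_count hP hK hM hn hy1 hXy
  simp only [hT.Aemp, hT.Demp, Finset.sum_empty] at hk
  rw [hC, Finset.sum_singleton, hrel _ hyreg _ hχ₀, hlam, hT.eps, he, hf₀, hN] at hk
  have hkZ : (k : ℤ) * 2 * (f : ℤ) ^ 2 * 2 = 2 * ((s : ℤ) + 1) * (p + 2) + ((p : ℤ) + 2) * (lam - 1) ^ 2 -
      2 * ((s : ℤ) + 1) := by
    apply Int.cast_injective (α := ℂ)
    have hlam2 : (lam : ℂ) ^ 2 = 1 := by rcases hlam1 with rfl | rfl <;> norm_num
    have hp2 : ((p : ℂ) + 2) ≠ 0 := by exact_mod_cast (show p + 2 ≠ 0 by omega)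
    rw [hlam2] at hk
    push_cast at hk ⊢
    rw [hk]
    field_simp
    ring
  have hp' : (p : ℤ) = 2 * s + 1 := by exact_mod_cast hpe
  have hk1' : k = 1 := by
    refine le_antisymm (hk1 hy) (Nat.pos_of_ne_zero fun h0 => ?_)
    rw [h0, Nat.cast_zero, zero_mul, zero_mul, zero_mul] at hkZ
    have h1 : (0 : ℤ) ≤ ((p : ℤ) + 2) * (lam - 1) ^ 2 := mul_nonneg (by omega) (sq_nonneg _)
    have h2 : 2 * ((s : ℤ) + 1) * 1 < 2 * ((s : ℤ) + 1) * (p + 2) :=
      mul_lt_mul_of_pos_left (by omega) (by omega)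
    linarith
  rw [hk1', Nat.cast_one, one_mul, hp'] at hkZ
  obtain rfl : lam = 1 := by
    rcases hlam1 with h1 | h1
    · exact h1
    exfalso
    rw [h1] at hkZ
    have hf : f = s + 2 := by
      have h3 : ((f : ℤ)) ^ 2 = ((s : ℤ) + 2) ^ 2 := by linarith
      have h4 := (pow_left_inj₀ (Int.natCast_nonneg f) (show (0 : ℤ) ≤ (s : ℤ) + 2 by omega) two_ne_zero).mp h3
      omega
    rw [hf, hN, hpe] at hfN
    have h5 : s + 2 ∣ 1 := by
      have h6 : (s + 1) * (2 * s + 1 + 2) + 0 = (s + 2) * (2 * s + 1) + 1 := by ring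
      rw [add_zero] at h6
      rw [h6] at hfN
      exact (Nat.dvd_add_right (dvd_mul_right _ _)).mp hfN
    have := Nat.le_of_dvd one_pos h5
    omega
  have hcy : Nat.card (Subgroup.centralizer ({(y : G)} : Set G)) = p + 1 := by
    have h3 : ((f : ℤ)) ^ 2 = ((s : ℤ) + 1) ^ 2 := by linarith
    have h4 := (pow_left_inj₀ (Int.natCast_nonneg f) (show (0 : ℤ) ≤ (s : ℤ) + 1 by omega) two_ne_zero).mp h3
    rw [hcardC, he]
    omega
  have hUy : (U : G → ℂ) (y : G) = 0 := by rw [hrel _ hyreg _ hχ₀, hlam, Int.cast_one, sub_self]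
  -- the characters of defect zero at `y`
  set k' : IrrCharacter G → ℕ := fun z => charDegree (z : G → ℂ) / p with hk'def
  have hkd : ∀ z ∈ Zset p G, (z : G → ℂ) 1 = ((p * k' z : ℕ) : ℂ) := fun z hz => by
    rw [← charDegree_cast, Nat.mul_div_cancel' (Finset.mem_filter.mp hz).2]
  have hzint : ∀ z : IrrCharacter G, ∃ a : ℤ, (z : G → ℂ) (y : G) = (a : ℂ) :=
    fun z => exists_int_apply (Char.IsIrrCharacter.isCharacter z.2) hyG
  choose a ha using hzint
  have hsplit : ∀ (F : IrrCharacter G → ℂ), ∑ χ, F χ = F (oneG G) + F U + ∑ c ∈ X, F c + ∑ z ∈ Zset p G, F z := by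
    intro F
    rw [h.sum_irr hP hK hM, hT.Aemp, hT.Demp, hB, hC, Finset.sum_singleton]
    simp only [Finset.sum_empty, add_zero]
  have hpC : (p : ℂ) ≠ 0 := Nat.cast_ne_zero.mpr hp.ne_zero
  have hpC' : (p : ℂ) = 2 * (s : ℂ) + 1 := by exact_mod_cast hpe
  have e1 : ∑ z ∈ Zset p G, (k' z : ℂ) * (a z : ℂ) = -((s : ℂ) + 1) := by
    have h1 := Char.column_orth (1 : G) (y : G)
    rw [if_neg (fun hc => hy1' (isConj_one_right.mp hc)), hsplit, oneG_apply, oneG_apply, map_one, hUy,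
      map_zero, Finset.sum_congr rfl fun c hc => by rw [hXdeg c hc, hXy c hc, Int.cast_one, map_one],
      Finset.sum_const, nsmul_eq_mul, hT.cardX,
      Finset.sum_congr (s₁ := Zset p G) rfl (g := fun z => (p : ℂ) * ((k' z : ℂ) * (a z : ℂ))) fun z hz => by
        rw [hkd z hz, ha, map_intCast, Nat.cast_mul, mul_assoc],
      ← Finset.mul_sum] at h1
    refine mul_left_cancel₀ hpC ?_
    push_cast at h1
    rw [hpC'] at h1 ⊢
    linear_combination h1
  have e2 : ∑ z ∈ Zset p G, (a z : ℂ) * (a z : ℂ) = (s : ℂ) + 1 := by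
    have h1 := Char.column_orth (y : G) (y : G)
    rw [if_pos (IsConj.refl _), hsplit, oneG_apply, map_one, hUy, map_zero,
      Finset.sum_congr rfl fun c hc => by rw [hXy c hc, Int.cast_one, map_one],
      Finset.sum_const, nsmul_eq_mul, hT.cardX, hcy,
      Finset.sum_congr (s₁ := Zset p G) rfl (g := fun z => (a z : ℂ) * (a z : ℂ)) fun z hz => by
        rw [ha, map_intCast]] at h1
    push_cast at h1
    rw [hpC'] at h1
    linear_combination h1
  have e3 : ∑ z ∈ Zset p G, (k' z : ℂ) * (k' z : ℂ) = (s : ℂ) + 1 := by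
    have h1 := Char.sum_sq_degrees (G := G)
    rw [hsplit, oneG_apply, ← charDegree_cast U, hUdeg,
      Finset.sum_congr rfl fun c hc => by rw [hXdeg c hc],
      Finset.sum_const, nsmul_eq_mul, hT.cardX, hG,
      Finset.sum_congr (s₁ := Zset p G) rfl (g := fun z => (p : ℂ) ^ 2 * ((k' z : ℂ) * (k' z : ℂ))) fun z hz => by
        rw [hkd z hz, Nat.cast_mul]; ring,
      ← Finset.mul_sum] at h1
    refine mul_left_cancel₀ (pow_ne_zero 2 hpC) ?_
    push_cast at h1
    rw [hpC'] at h1 ⊢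
    linear_combination h1
  have hak : ∀ z ∈ Zset p G, a z = -(k' z : ℤ) := by
    have h0 : ∑ z ∈ Zset p G, (a z + (k' z : ℤ)) * (a z + (k' z : ℤ)) = 0 := by
      apply Int.cast_injective (α := ℂ)
      push_cast
      rw [Finset.sum_congr rfl (g := fun z => (a z : ℂ) * (a z : ℂ) + 2 * ((k' z : ℂ) * (a z : ℂ)) +
        (k' z : ℂ) * (k' z : ℂ)) fun z _ => by ring, Finset.sum_add_distrib, Finset.sum_add_distrib,
        ← Finset.mul_sum, e1, e2, e3]
      ring
    intro z hz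
    have h2 := (Finset.sum_eq_zero_iff_of_nonneg fun z _ => mul_self_nonneg _).mp h0 z hz
    have h3 := mul_self_eq_zero.mp h2
    linarith
  -- the other regular classes
  have hU1 : ∀ g : G, ¬ p ∣ orderOf g → g ≠ 1 → ¬ IsConj g (y : G) → (U : G → ℂ) g = -1 := by
    intro g hg hg1 hgy
    have h1 := Char.column_orth g (y : G)
    rw [if_neg hgy, hsplit, oneG_apply, oneG_apply, map_one, hUy, map_zero, mul_zero,
      Finset.sum_congr rfl fun c hc => by rw [hXy c hc, Int.cast_one, map_one, mul_one, h.apply_X_eq hP hM hg hc hχ₀],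
      Finset.sum_const, nsmul_eq_mul, hT.cardX,
      Finset.sum_congr (s₁ := Zset p G) rfl (g := fun z => -((k' z : ℂ) * (z : G → ℂ) g)) fun z hz => by
        rw [ha, hak z hz, map_intCast, Int.cast_neg, Int.cast_natCast]; ring,
      Finset.sum_neg_distrib] at h1
    have h2 := Char.column_orth g (1 : G)
    rw [if_neg (fun hc => hg1 (isConj_one_left.mp hc)), hsplit, oneG_apply, oneG_apply, map_one,
      ← charDegree_cast U, hUdeg, Complex.conj_natCast,
      Finset.sum_congr rfl fun c hc => by rw [hXdeg c hc, Complex.conj_natCast, h.apply_X_eq hP hM hg hc hχ₀],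
      Finset.sum_const, nsmul_eq_mul, hT.cardX,
      Finset.sum_congr (s₁ := Zset p G) rfl (g := fun z => (p : ℂ) * ((k' z : ℂ) * (z : G → ℂ) g)) fun z hz => by
        rw [hkd z hz, Complex.conj_natCast, Nat.cast_mul]; ring,
      ← Finset.mul_sum, hrel g hg χ₀ hχ₀] at h2
    rw [hrel g hg χ₀ hχ₀]
    push_cast at h1 h2
    have h3 : ((p : ℂ) + 1 + (s : ℂ) * (p + 2 + p)) * (χ₀ : G → ℂ) g = 0 := by
      linear_combination h2 + (p : ℂ) * h1
    have h4 : ((p : ℂ) + 1 + (s : ℂ) * (p + 2 + p)) ≠ 0 := by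
      exact_mod_cast (show p + 1 + s * (p + 2 + p) ≠ 0 by omega)
    rw [(mul_eq_zero.mp h3).resolve_left h4, zero_sub]
  -- every element of even order is conjugate to `y`
  have hp2 : ¬ 2 ∣ p := fun h2 => by
    have := (Nat.prime_dvd_prime_iff_eq Nat.prime_two hp).mp h2
    omega
  have heven : ∀ g : G, 2 ∣ orderOf g → IsConj g (y : G) := by
    intro g hg
    by_contra hcon
    have hgp : ¬ p ∣ orderOf g := fun h2 => hp2 (orderOf_of_dvd hS hK h2 ▸ hg)
    have hg1 : g ≠ 1 := fun h2 => by rw [h2, orderOf_one] at hg; omega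
    have h0 : (U : G → ℂ) g = 0 := by
      refine vanish_of_defect U Nat.prime_two (M' := p * (p + 2)) ?_ ?_ hg
      · rw [hUdeg, hG, hpe]; ring
      · exact fun h2 => (Nat.prime_two.dvd_mul.mp h2).elim hp2 fun h3 => hp2 ((Nat.dvd_add_left (dvd_refl 2)).mp h3)
    rw [hU1 g hgp hg1 hcon] at h0
    norm_num at h0
  have hord : ∀ g : G, 2 ∣ orderOf g → orderOf g = 2 := fun g hg => by
    obtain ⟨c, hc⟩ := isConj_iff.mp (heven g hg)
    rw [← hy, ← Subgroup.orderOf_coe, ← hc, show c * g * c⁻¹ = MulAut.conj c g from rfl, MulEquiv.orderOf_eq]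
  have hcent : ∀ t : G, orderOf t = 2 → ∀ c ∈ Subgroup.centralizer ({t} : Set G), c ^ 2 = 1 := by
    intro t ht c hc
    have hcm : Commute c t := Subgroup.mem_centralizer_singleton_iff.mp hc
    by_cases h2 : 2 ∣ orderOf c
    · rw [← hord c h2, pow_orderOf_eq_one]
    · have h3 : orderOf (c * t) = orderOf c * 2 := by
        rw [hcm.orderOf_mul_eq_mul_orderOf_of_coprime, ht]
        rw [ht]
        exact (Nat.prime_two.coprime_iff_not_dvd.mpr h2).symm
      have h4 := hord (c * t) (h3 ▸ dvd_mul_left 2 _)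
      rw [h3] at h4
      rw [orderOf_eq_one_iff.mp (show orderOf c = 1 by omega), one_pow]
  obtain ⟨m, hm⟩ : ∃ m, p + 1 = 2 ^ m := by
    have h2 : IsPGroup 2 (Subgroup.centralizer ({(y : G)} : Set G)) := fun c =>
      ⟨1, Subtype.ext (by rw [pow_one]; exact hcent _ (by rw [Subgroup.orderOf_coe, hy]) c c.2)⟩
    obtain ⟨m, hm⟩ := IsPGroup.iff_card.mp h2
    exact ⟨m, hcy ▸ hm⟩
  obtain ⟨T⟩ : Nonempty (Sylow 2 G) := inferInstance
  have hTcard : Nat.card (T : Subgroup G) = p + 1 := by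
    rw [T.card_eq_multiplicity, hG, show p * 2 * ((s + 1) * (p + 2)) = p * (p + 2) * (p + 1) by rw [hpe]; ring,
      Nat.factorization_mul (by exact Nat.mul_ne_zero hp.ne_zero (by omega)) (by omega), Finsupp.add_apply,
      Nat.factorization_eq_zero_of_not_dvd (fun h2 => (Nat.prime_two.dvd_mul.mp h2).elim hp2
        fun h3 => hp2 ((Nat.dvd_add_left (dvd_refl 2)).mp h3)), zero_add, hm, Nat.prime_two.factorization_pow,
      Finsupp.single_eq_same]
  have hTexp : ∀ c ∈ (T : Subgroup G), c ^ 2 = 1 := by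
    intro c hc
    obtain ⟨j, hj⟩ := IsPGroup.iff_orderOf.mp T.isPGroup' ⟨c, hc⟩
    rw [Subgroup.orderOf_mk] at hj
    rcases Nat.eq_zero_or_pos j with rfl | hj0
    · rw [pow_zero] at hj
      rw [orderOf_eq_one_iff.mp hj, one_pow]
    · rw [← hord c (hj ▸ dvd_pow_self 2 hj0.ne'), pow_orderOf_eq_one]
  have hnc : ¬ IsCyclic (T : Subgroup G) := by
    intro hcy'
    obtain ⟨c, hc⟩ := IsCyclic.exists_ofOrder_eq_natCard (α := (T : Subgroup G))
    have h2 : orderOf c ∣ 2 := orderOf_dvd_of_pow_eq_one (Subtype.ext (hTexp c c.2))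
    rw [hc, hTcard] at h2
    have := Nat.le_of_dvd two_pos h2
    omega
  have hnn : ¬ (T : Subgroup G).Normal := by
    intro hN'
    rcases hN'.eq_bot_or_eq_top with h2 | h2
    · rw [h2, Subgroup.card_bot] at hTcard
      omega
    · rw [h2, Subgroup.card_top, hG] at hTcard
      have h3 : p * 2 * 1 ≤ p * 2 * ((s + 1) * (p + 2)) :=
        Nat.mul_le_mul_left _ (Nat.mul_pos (by omega) (by omega))
      omega
  obtain ⟨F, iF, iF', hF, hiso⟩ := TwoFusion.ElemCent.equiv_psl (T := T) ⟨hnc, hnn, fun t ht => ⟨⟨⟨fun a b => by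
    have e : ∀ c : Subgroup.centralizer ({t} : Set G), c⁻¹ = c := fun c => inv_eq_of_mul_eq_one_right
      (Subtype.ext (by rw [Subgroup.coe_mul, ← pow_two]; exact hcent t ht c c.2))
    calc a * b = (a * b)⁻¹ := (e _).symm
      _ = b * a := by rw [mul_inv_rev, e, e]⟩⟩, hcent t ht⟩⟩
  exact .mersenne m F iF iF' (by rw [hF, hTcard, hm]) hm (by omega) (by omega) hiso

end Cfsg.Agent.FewSylowClass
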