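/-
The block `1`, `B`, `U`, `X` with `e = u + 1 ≥ 3`: the group has order 5616
(namespace `Cfsg.Agent.FewSylowClass`).

Main results: `Blk.count_x`, `Blk.target_big`.
-/
import Cfsg.Agent.Lib.FewSylowClass.TargetTwo
import Cfsg.Agent.Lib.FewSylowClass.RegularSum

set_option autoImplicit false
set_option linter.unusedSectionVars false
set_option linter.style.haveILetI false

open scoped ComplexConjugate

namespace Cfsg.Agent.FewSylowClass

open Cfsg Cfsg.Agent.Blocks Cfsg.Agent.CyclicDefect Cfsg.Agent.BrauerN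

variable {G : Type*} [Group G] [Finite G] {p : ℕ} [Fact p.Prime] {x : G} {L : Subgroup G}
  {M : Ideal AlgInt} {hS : Setting p x L} {n u s : ℕ} {A C B D X : Finset (IrrCharacter G)} {f₀ m₀ : ℕ} {ε : ℤ}

theorem card_centralizer_pw (hS : Setting p x L) (hK : K x L = ⊥) {i : ZMod p} (hi : i ≠ 0) :
    Nat.card (Subgroup.centralizer ({pw x i} : Set G)) = p := by
  rw [show Subgroup.centralizer ({pw x i} : Set G) = Subgroup.centralizer ({x} : Set G) from ?_,
    hS.card_centralizer, hK, Subgroup.card_bot, mul_one]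
  ext g
  rw [hS.mem_centralizer_pw hi g, Subgroup.mem_centralizer_singleton_iff]
  exact ⟨fun h => h.symm, fun h => h.symm⟩

/-- A group centralizing `c` without elements of order `p` divides the number of pairs. -/
theorem dvd_card_pairs_x (hS : Setting p x L) (hK : K x L = ⊥) (b c : G) (H : Subgroup G)
    (hH : ¬ p ∣ Nat.card H) (hle : H ≤ Subgroup.centralizer ({c} : Set G)) :
    Nat.card H ∣ Nat.card (Pairs x b c) := by
  refine dvd_card_pairs x b c H (fun g hg => ?_) fun g hg a' ha' hfix =>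
    eq_one_of_fix hS hK hH (one_ne_zero) g hg a' (by rwa [hS.pw_one]) hfix
  rw [Subgroup.mem_centralizer_singleton_iff.mp (hle hg), mul_inv_cancel_right]

namespace Blk

variable (h : Blk hS M n u s A C B D X f₀ m₀ ε) (hP : Par p n u s) (hK : K x L = ⊥) (hM : IsPModular p M)
  (hn : Nat.card (Sylow p G) = 1 + n * p) (hT : Target p x L u s A C B D X f₀ ε) (hu : 2 ≤ u)
include h hP hK hM hn hT hu

/-- The values on `L`. -/
theorem target_values {U χ : IrrCharacter G} (hC : C = {U}) (hχ : χ ∈ X) {y : L} (hy : y ≠ 1) :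
    (U : G → ℂ) (y : G) = 0 ∧ (χ : G → ℂ) (y : G) = 1 := by
  have hU : U ∈ C := by rw [hC]; exact Finset.mem_singleton_self U
  have hrel : ∀ y : L, y ≠ 1 → (U : G → ℂ) (y : G) = (χ : G → ℂ) (y : G) - 1 := by
    intro y hy
    have h1 := h.target_rel hT (hS.regular_L y) hC hχ
    rw [Finset.sum_eq_zero (s := B) fun b hb => h.apply_B hP hK hM hb hy] at h1
    linear_combination -h1
  obtain ⟨φ, hφc, hφ1, hφy, -⟩ := h.fixC hP hM hU
  have hne : ∀ j : ℕ, j.Coprime (Nat.card L) → y ^ j ≠ 1 := fun j hj h1 => hy (orderOf_eq_one_iff.mp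
    (Nat.eq_one_of_dvd_coprimes hj (orderOf_dvd_of_pow_eq_one h1) (orderOf_dvd_natCard y)))
  have hb : ∀ j : ℕ, j.Coprime (Nat.card L) → ‖φ (y ^ j)‖ ≤ 2 := by
    intro j hj
    rw [← hφy _ ((ne_one_of_not_mem hS hK).mpr (hne j hj)), hrel _ (hne j hj)]
    refine (norm_sub_le _ _).trans ?_
    rw [h.norm_X_eq_one hP hK hM hT hχ (hne j hj), norm_one]
    norm_num
  have hu3 : (2 : ℝ) < ((u + 1 : ℕ) : ℝ) := by exact_mod_cast (show 2 < u + 1 by omega)
  have h0 : φ y = 0 := eq_zero_of_dvd_values (GaloisAvg.cycloValued_character hφc) (c := u + 1) (by omega)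
    (fun j hj => by
      rw [← hφy _ ((ne_one_of_not_mem hS hK).mpr (hne j hj))]
      exact h.isIntegral_C hP hK hM hn hU _)
    (fun j hj => (hb j hj).trans hu3.le) ⟨1, Nat.coprime_one_left _, (hb 1 (Nat.coprime_one_left _)).trans_lt hu3⟩
  have hU0 : (U : G → ℂ) (y : G) = 0 := by rw [hφy y ((ne_one_of_not_mem hS hK).mpr hy), h0]
  exact ⟨hU0, by rw [hrel y hy] at hU0; exact sub_eq_zero.mp hU0⟩

theorem target_s : s = u + 2 := by
  have hp := hS.hp
  obtain ⟨β, hβ⟩ : B.Nonempty := Finset.card_pos.mp (by have := hT.cardB; omega)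
  obtain ⟨m, hm, hm1, hdvd⟩ := Char.IsIrrCharacter.degree_dvd_card β.2
  have hmd : m = p - 1 := by
    rw [← (h.memB β hβ).2.1]
    exact Nat.cast_injective (R := ℂ) (by rw [charDegree_cast]; exact hm1.symm)
  rw [hmd, card_G_eq hS hK hn, hT.index, hP.card_eq, hP.p_sub,
    show p * (u + 1) * ((u * s + 1) * (p + u + 1)) = (u + 1) * (p * (u * s + 1) * (p + u + 1)) by ring] at hdvd
  have h1 : s ∣ p + u + 1 :=
    (hP.cop_D hp).dvd_of_dvd_mul_left (Nat.dvd_of_mul_dvd_mul_left (by omega) hdvd)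
  have h2 : s ∣ u + 2 := by
    rw [show p + u + 1 = (u + 1) * s + (u + 2) by rw [hP.hpe]; ring] at h1
    exact (Nat.dvd_add_right (dvd_mul_left s (u + 1))).mp h1
  obtain ⟨w, hw⟩ := h2
  have := hP.hus
  rcases Nat.lt_or_ge w 2 with hw1 | hw2
  · interval_cases w <;> omega
  · have := Nat.mul_le_mul_left s hw2
    omega

open scoped Classical in
/-- Pairs of conjugates of powers of `x` with regular product `g`. -/
theorem count_x {q : ℕ} (hq : q = u + 1) {U χ : IrrCharacter G} (hC : C = {U}) (hχ : χ ∈ X)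
    {i : ZMod p} (hi : i ≠ 0) {g : G} (hg : ¬ p ∣ orderOf g) (hUg : (U : G → ℂ) g = 0) :
    (Nat.card (Pairs x (pw x i) g) : ℂ) = (q : ℂ) ^ 2 *
      ((q : ℂ) + 1 + (if IsConj x (pw x (-i)) then (q : ℂ) - 1 else -1) * conj ((χ : G → ℂ) g)) := by
  have := Fintype.ofFinite (IrrCharacter G)
  have hp := hS.hp
  have hs := h.target_s hP hK hM hn hT hu
  subst hq
  have hpe := hP.hpe
  rw [hs] at hpe
  have hpC : (p : ℂ) = ((u : ℂ) + 1) * ((u : ℂ) + 2) + 1 := by exact_mod_cast hpe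
  have hU : U ∈ C := by rw [hC]; exact Finset.mem_singleton_self U
  have hxo : p ∣ orderOf x := dvd_of_eq hS.hx.symm
  have hbC : (B.card : ℂ) + 1 = (u : ℂ) := by exact_mod_cast hT.cardB
  have hni : -i ≠ 0 := neg_ne_zero.mpr hi
  have hCx : ∀ c ∈ C, (c : G → ℂ) x = 1 := fun c hc => by
    have h1 := (h.memC c hc).2.2.2.2 1 one_ne_zero
    rwa [hS.pw_one] at h1
  have hBx : ∀ c ∈ B, (c : G → ℂ) x = -1 := fun c hc => by
    have h1 := (h.memB c hc).2.2.2.2 1 one_ne_zero
    rwa [hS.pw_one] at h1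
  have hconj : ∀ ψ : IrrCharacter G, (ψ : G → ℂ) (pw x i) = conj ((ψ : G → ℂ) (pw x (-i))) := fun ψ => by
    rw [← Char.IsCharacter.apply_inv (Char.IsIrrCharacter.isCharacter ψ.2), pw_neg hS, inv_inv]
  -- the exceptional characters at the powers of `x`
  set S := ∑ c ∈ X, (c : G → ℂ) x * (c : G → ℂ) (pw x i) with hSdef
  have hS1 : S = (if IsConj x (pw x (-i)) then (p : ℂ) else 0) - ((u : ℂ) + 1) := by
    have h1 := Char.column_orth x (pw x (-i))
    rw [h.sum_irr hP hK hM, oneG_apply, oneG_apply, map_one,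
      Finset.sum_congr (s₁ := C) rfl (g := fun _ => (1 : ℂ)) fun c hc => by
        rw [hCx c hc, (h.memC c hc).2.2.2.2 (-i) hni, map_one, mul_one],
      Finset.sum_congr (s₁ := B) rfl (g := fun _ => (1 : ℂ)) fun c hc => by
        rw [hBx c hc, (h.memB c hc).2.2.2.2 (-i) hni, map_neg, map_one,
          neg_mul_neg, mul_one],
      Finset.sum_congr (s₁ := X) rfl (g := fun c => (c : G → ℂ) x * (c : G → ℂ) (pw x i)) fun c _ => by
        rw [hconj c],
      Finset.sum_eq_zero (s := Zset p G) fun c hc => by rw [apply_Z_singular hK hM hS hc hxo, zero_mul],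
      hT.Aemp, hT.Demp, Finset.sum_empty, hC, Finset.sum_singleton, Finset.sum_const, nsmul_eq_mul,
      ← hSdef] at h1
    have hcx : Nat.card (Subgroup.centralizer ({x} : Set G)) = p := by
      rw [← hS.pw_one, card_centralizer_pw hS hK one_ne_zero]
    simp only [Finset.sum_empty, add_zero, hcx, mul_one] at h1
    linear_combination h1 - hbC
  have hB : ∑ b ∈ B, conj ((b : G → ℂ) g) = 1 - conj ((χ : G → ℂ) g) := by
    have h1 := h.target_rel hT hg hC hχ
    rw [hUg] at h1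
    rw [← map_sum, show ∑ b ∈ B, (b : G → ℂ) g = 1 - (χ : G → ℂ) g by linear_combination h1, map_sub, map_one]
  have hcp := card_pairs x (pw x i) g
  rw [card_centralizer_pw hS hK hi, show Nat.card (Subgroup.centralizer ({x} : Set G)) = p by
      rw [← hS.pw_one, card_centralizer_pw hS hK one_ne_zero],
    card_G_eq hS hK hn, hT.index, hP.card_eq, h.sum_irr hP hK hM, oneG_apply, oneG_apply, oneG_apply, oneG_apply,
    map_one, hT.Aemp, hT.Demp, Finset.sum_empty, hC, Finset.sum_singleton, hUg, map_zero, mul_zero, zero_div,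
    Finset.sum_congr (s₁ := B) rfl (g := fun b => conj ((b : G → ℂ) g) / ((p - 1 : ℕ) : ℂ)) fun c hc => by
      rw [hBx c hc, (h.memB c hc).2.2.2.2 i hi, ← charDegree_cast c,
        (h.memB c hc).2.1, neg_mul_neg, one_mul, one_mul],
    Finset.sum_congr (s₁ := X) rfl
      (g := fun c => (c : G → ℂ) x * (c : G → ℂ) (pw x i) * (conj ((χ : G → ℂ) g) / ((p + u + 1 : ℕ) : ℂ)))
      fun c hc => by
        rw [← charDegree_cast c, (h.memX c hc).2.1, hT.deg, h.apply_X_eq hP hM hg hc hχ, mul_div_assoc],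
    Finset.sum_eq_zero (s := Zset p G) fun c hc => by
      rw [apply_Z_singular hK hM hS hc hxo, zero_mul, zero_mul, zero_div],
    ← Finset.sum_div, hB, ← Finset.sum_mul, ← hSdef, hS1, hP.p_sub, hs] at hcp
  have hp0 : (p : ℂ) ≠ 0 := Nat.cast_ne_zero.mpr hp.ne_zero
  have hu1 : (u : ℂ) + 1 ≠ 0 := by exact_mod_cast Nat.succ_ne_zero u
  have hu2 : (u : ℂ) + 2 ≠ 0 := by exact_mod_cast Nat.succ_ne_zero (u + 1)
  have hP1 : (p : ℂ) + u + 1 ≠ 0 := by exact_mod_cast Nat.succ_ne_zero (p + u)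
  refine mul_right_cancel₀ hp0 (mul_right_cancel₀ hp0 ?_)
  simp only [Finset.sum_empty, add_zero] at hcp
  push_cast at hcp ⊢
  rw [hcp]
  field_simp
  rw [hpC]
  split_ifs <;> ring

/-- Where `U` vanishes the exceptional value is a small integer. -/
theorem target_int {q : ℕ} (hq : q = u + 1) {U χ : IrrCharacter G} (hC : C = {U}) (hχ : χ ∈ X)
    {g : G} (hg : ¬ p ∣ orderOf g) (hUg : (U : G → ℂ) g = 0) :
    ∃ a : ℤ, (χ : G → ℂ) g = (a : ℂ) ∧ a ≤ (q : ℤ) + 1 ∧ 0 ≤ (q : ℤ) + 1 + ((q : ℤ) - 1) * a ∧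
      ∃ i : ZMod p, i ≠ 0 ∧ (Nat.card (Pairs x (pw x i) g) : ℤ) = (q : ℤ) ^ 2 * ((q : ℤ) + 1 - a) := by
  classical
  have hs := h.target_s hP hK hM hn hT hu
  have hlt : (K x L).index < p - 1 := by
    rw [hT.index, hP.p_sub, hs]
    exact lt_mul_of_one_lt_right (by omega) (by omega)
  obtain ⟨i, hi, hnc⟩ := exists_not_conj hS hK hlt
  have h1 := h.count_x hP hK hM hn hT hu hq hC hχ (neg_ne_zero.mpr hi) hg hUg
  rw [neg_neg, if_neg hnc] at h1
  have h2 := h.count_x hP hK hM hn hT hu hq hC hχ (i := (-1 : ZMod p)) (neg_ne_zero.mpr one_ne_zero) hg hUg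
  rw [neg_neg, if_pos (by rw [hS.pw_one])] at h2
  have hq0 : q ≠ 0 := by omega
  have hint : IsIntegral ℤ (conj ((χ : G → ℂ) g)) :=
    Char.IsCharacter.isIntegral (Char.IsCharacter.conj (Char.IsIrrCharacter.isCharacter χ.2)) g
  obtain ⟨a, ha⟩ := Char.exists_int_of_isIntegral_mul (n := q ^ 2) (pow_ne_zero 2 hq0)
    (k := (q : ℤ) ^ 2 * ((q : ℤ) + 1) - Nat.card (Pairs x (pw x (-i)) g))
    (z := conj ((χ : G → ℂ) g)) (by push_cast; rw [h1]; ring) hint
  rw [ha] at h1 h2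
  have hq2 : (0 : ℤ) < (q : ℤ) ^ 2 := pow_pos (by omega) 2
  have e1 : (Nat.card (Pairs x (pw x (-i)) g) : ℤ) = (q : ℤ) ^ 2 * ((q : ℤ) + 1 - a) := by
    apply Int.cast_injective (α := ℂ)
    push_cast
    rw [h1]; ring
  have e2 : (Nat.card (Pairs x (pw x (-1 : ZMod p)) g) : ℤ) = (q : ℤ) ^ 2 * ((q : ℤ) + 1 + ((q : ℤ) - 1) * a) := by
    apply Int.cast_injective (α := ℂ)
    push_cast
    rw [h2]
  refine ⟨a, ?_, ?_, ?_, -i, neg_ne_zero.mpr hi, e1⟩
  · have h3 := congrArg conj ha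
    rwa [Complex.conj_conj, map_intCast] at h3
  · have h3 : (0 : ℤ) ≤ (q : ℤ) ^ 2 * ((q : ℤ) + 1 - a) := e1 ▸ Int.natCast_nonneg _
    have := nonneg_of_mul_nonneg_right h3 hq2
    omega
  · have h3 : (0 : ℤ) ≤ (q : ℤ) ^ 2 * ((q : ℤ) + 1 + ((q : ℤ) - 1) * a) := e2 ▸ Int.natCast_nonneg _
    exact nonneg_of_mul_nonneg_right h3 hq2

set_option maxHeartbeats 1600000 in
/-- The regular elements carry little of the norm of an exceptional character. -/
theorem target_part {q : ℕ} (hq : q = u + 1) {U χ : IrrCharacter G} (hC : C = {U}) (hχ : χ ∈ X)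
    {r : ℕ} (hr : r.Prime) (hrq : r ∣ q) {y : L} (hy : orderOf y = r) {f : ℕ}
    (hf : Nat.card (Subgroup.centralizer ({(y : G)} : Set G)) = (K x L).index * f) :
    q < r ^ (q * f).factorization r := by
  classical
  have := Fintype.ofFinite G
  have := Fintype.ofFinite (IrrCharacter G)
  have hp := hS.hp
  have hs := h.target_s hP hK hM hn hT hu
  have hq3 : 3 ≤ q := by omega
  have hpq : p = q * (q + 1) + 1 := by rw [hP.hpe, hs, hq]
  have hA' : u * s + 1 = q * q := by rw [hs, hq]; ring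
  have hP1 : p + u + 1 = (q + 1) * (q + 1) := by rw [hpq, hq]; ring
  have hG : Nat.card G = p * q ^ 3 * (q + 1) ^ 2 := by
    rw [card_G_eq hS hK hn, hT.index, hP.card_eq, hA', hP1, ← hq]; ring
  have hU : U ∈ C := by rw [hC]; exact Finset.mem_singleton_self U
  have hUdeg : charDegree (U : G → ℂ) = q ^ 3 := by rw [(h.memC U hU).2.1, hA', ← hq]; ring
  have hrp : ¬ r ∣ p := fun h1 => hr.not_dvd_one ((Nat.dvd_add_right (hrq.mul_right (q + 1))).mp (hpq ▸ h1))
  have hrq1 : ¬ r ∣ (q + 1) ^ 2 := fun h1 =>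
    hr.not_dvd_one ((Nat.dvd_add_right hrq).mp (hr.dvd_of_dvd_pow h1))
  have hy1 : y ≠ 1 := fun h1 => hr.ne_one (by rw [← hy, h1, orderOf_one])
  have hy1' : (y : G) ≠ 1 := fun h1 => hy1 (Subtype.ext h1)
  have hyo : orderOf (y : G) = r := by rw [Subgroup.orderOf_coe, hy]
  obtain ⟨-, hXy⟩ := h.target_values hP hK hM hn hT hu hC hχ hy1
  have hU0 : ∀ g : G, r ∣ orderOf g → (U : G → ℂ) g = 0 := fun g hg =>
    vanish_of_defect U hr (M' := p * (q + 1) ^ 2) (by rw [hUdeg, hG]; ring)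
      (fun h1 => (hr.dvd_mul.mp h1).elim hrp hrq1) hg
  set Cy := Subgroup.centralizer ({(y : G)} : Set G) with hCy
  have hcardCy : Nat.card Cy = q * f := by rw [hf, hT.index, hq]
  set Cr := r ^ (q * f).factorization r with hCr
  let yc : Cy := ⟨(y : G), Subgroup.mem_centralizer_singleton_iff.mpr rfl⟩
  have hycen : yc ∈ Subgroup.center Cy := Subgroup.mem_center_iff.mpr fun g =>
    Subtype.ext (Subgroup.mem_centralizer_singleton_iff.mp g.2)
  set R' := Finset.univ.filter (fun v : Cy => ¬ r ∣ orderOf v) with hR'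
  have hord : ∀ v : Cy, ¬ r ∣ orderOf v → r ∣ orderOf ((y : G) * (v : G)) ∧ ¬ p ∣ orderOf ((y : G) * (v : G)) := by
    intro v hv
    have hcm : Commute (y : G) (v : G) := (Subgroup.mem_centralizer_singleton_iff.mp v.2).symm
    refine ⟨?_, fun h1 => not_commute_of_dvd hS hK (hS.regular_L y) hy1' h1
      ((Commute.refl _).mul_left hcm.symm)⟩
    rw [hcm.orderOf_mul_eq_mul_orderOf_of_coprime, hyo]
    · exact dvd_mul_right r _
    · rw [hyo, Subgroup.orderOf_coe]
      exact hr.coprime_iff_not_dvd.mpr hv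
  have hint : ∀ v : Cy, ∃ a : ℤ, ¬ r ∣ orderOf v → (χ : G → ℂ) ((y : G) * (v : G)) = (a : ℂ) := by
    intro v
    by_cases hv : r ∣ orderOf v
    · exact ⟨0, fun h1 => absurd hv h1⟩
    · obtain ⟨a, ha, -⟩ := h.target_int hP hK hM hn hT hu hq hC hχ (hord v hv).2 (hU0 _ (hord v hv).1)
      exact ⟨a, fun _ => ha⟩
  choose a ha using hint
  set S : ℤ := ∑ v ∈ R', a v * a v with hSdef
  have h1R : (1 : Cy) ∈ R' := Finset.mem_filter.mpr ⟨Finset.mem_univ _, by rw [orderOf_one]; exact hr.not_dvd_one⟩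
  have hS1 : 1 ≤ S := by
    have ha1 : a 1 = 1 := by
      apply Int.cast_injective (α := ℂ)
      rw [← ha 1 (Finset.mem_filter.mp h1R).2, OneMemClass.coe_one, mul_one, hXy, Int.cast_one]
    refine le_trans ?_ (Finset.single_le_sum (f := fun v => a v * a v) (fun v _ => mul_self_nonneg _) h1R)
    simp only [ha1]
    norm_num
  -- integrality
  have hlow : (q * f : ℤ) ≤ (Cr : ℤ) * S := by
    have h1 := isIntegral_regular_sum hr
      (Char.IsCharacter.restrict (Char.IsIrrCharacter.isCharacter χ.2) Cy) hycen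
    rw [hcardCy, ← hCr, ← hR', Finset.sum_congr rfl (g := fun v => ((a v * a v : ℤ) : ℂ)) fun v hv => by
        show (χ : G → ℂ) ((yc * v : Cy) : G) * conj ((χ : G → ℂ) ((yc * v : Cy) : G)) = _
        rw [Subgroup.coe_mul, ha v (Finset.mem_filter.mp hv).2, map_intCast, Int.cast_mul],
      ← Int.cast_sum, ← hSdef] at h1
    have hqf0 : q * f ≠ 0 := by rw [← hcardCy]; exact Nat.card_pos.ne'
    obtain ⟨j, hj⟩ := Char.exists_int_of_isIntegral_mul hqf0 (k := (Cr : ℤ) * S)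
      (by rw [Int.cast_mul, Int.cast_natCast, mul_left_comm, mul_inv_cancel_left₀ (Nat.cast_ne_zero.mpr hqf0)]) h1
    have h2 : (Cr : ℤ) * S = ((q * f : ℕ) : ℤ) * j := by
      apply Int.cast_injective (α := ℂ)
      rw [Int.cast_mul, Int.cast_mul, Int.cast_natCast, Int.cast_natCast, ← hj, mul_left_comm ((q * f : ℕ) : ℂ),
        mul_inv_cancel_left₀ (Nat.cast_ne_zero.mpr hqf0)]
    have h3 : (0 : ℤ) < (Cr : ℤ) * S := mul_pos (by exact_mod_cast pow_pos hr.pos _) (by omega)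
    rw [h2] at h3
    have h4 : 0 < j := pos_of_mul_pos_right h3 (Int.natCast_nonneg _)
    have h5 : ((q * f : ℕ) : ℤ) * 1 ≤ ((q * f : ℕ) : ℤ) * j := mul_le_mul_of_nonneg_left h4 (Int.natCast_nonneg _)
    rw [h2]
    push_cast at h5 ⊢
    linarith
  -- the regular elements
  set T := Finset.univ.filter (fun g : G => g ≠ 1 ∧ ¬ p ∣ orderOf g) with hTdef
  set Rsum := ∑ g ∈ T, ‖(χ : G → ℂ) g‖ ^ 2 with hRsum
  have hup : (Nat.card G : ℝ) * (S : ℝ) ≤ ((q * f : ℕ) : ℝ) * Rsum := by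
    have h1 := sum_comp_le (fun gv : G × {v : Cy // ¬ r ∣ orderOf v} =>
        gv.1 * ((y : G) * ((gv.2 : Cy) : G)) * gv.1⁻¹) T
      (F := fun g => ‖(χ : G → ℂ) g‖ ^ 2) (fun g => by positivity)
      (fun gv => by
        have ho : orderOf (gv.1 * ((y : G) * ((gv.2 : Cy) : G)) * gv.1⁻¹) = orderOf ((y : G) * ((gv.2 : Cy) : G)) :=
          MulEquiv.orderOf_eq (MulAut.conj gv.1) _
        refine Finset.mem_filter.mpr ⟨Finset.mem_univ _, fun h1 => hr.not_dvd_one ?_, ho ▸ (hord _ gv.2.2).2⟩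
        rw [h1, orderOf_one] at ho
        exact ho ▸ (hord _ gv.2.2).1)
      (K := q * f) (fun gv => by
        rw [← hcardCy]
        -- the conjugating element centralizes `y`
        have hmem : ∀ b : {b : G × {v : Cy // ¬ r ∣ orderOf v} //
            b.1 * ((y : G) * ((b.2 : Cy) : G)) * b.1⁻¹ = gv.1 * ((y : G) * ((gv.2 : Cy) : G)) * gv.1⁻¹},
            gv.1⁻¹ * b.1.1 ∈ Cy ∧
            (gv.1⁻¹ * b.1.1) * ((y : G) * ((b.1.2 : Cy) : G)) * (gv.1⁻¹ * b.1.1)⁻¹ = (y : G) * ((gv.2 : Cy) : G) := by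
          rintro ⟨⟨g', v⟩, hb⟩
          set w := gv.1⁻¹ * g' with hw
          have hconj : w * ((y : G) * ((v : Cy) : G)) * w⁻¹ = (y : G) * ((gv.2 : Cy) : G) := by
            have hb' : g' * ((y : G) * ((v : Cy) : G)) * g'⁻¹ = gv.1 * ((y : G) * ((gv.2 : Cy) : G)) * gv.1⁻¹ := hb
            calc w * ((y : G) * ((v : Cy) : G)) * w⁻¹
                = gv.1⁻¹ * (g' * ((y : G) * ((v : Cy) : G)) * g'⁻¹) * gv.1 := by rw [hw]; group
              _ = _ := by rw [hb']; group
          refine ⟨?_, hconj⟩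
          set W := orderOf (v : Cy) * orderOf (gv.2 : Cy) with hW
          have hWr : ¬ r ∣ W := fun h2 => (hr.dvd_mul.mp h2).elim v.2 gv.2.2
          have hpow : ∀ v' : Cy, orderOf v' ∣ W → ((y : G) * (v' : G)) ^ W = (y : G) ^ W := fun v' hv' => by
            have hcm : Commute (y : G) (v' : G) := (Subgroup.mem_centralizer_singleton_iff.mp v'.2).symm
            rw [hcm.mul_pow,
              ← SubmonoidClass.coe_pow v', orderOf_dvd_iff_pow_eq_one.mp hv', OneMemClass.coe_one, mul_one]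
          have hyW : w * (y : G) ^ W * w⁻¹ = (y : G) ^ W := by
            have h2 := congrArg (· ^ W) hconj
            simp only [conj_pow] at h2
            rwa [hpow _ (dvd_mul_right _ _), hpow _ (dvd_mul_left _ _)] at h2
          obtain ⟨b, hb'⟩ : ∃ b : ℕ, ((y : G) ^ W) ^ b = (y : G) := by
            have h3 : (orderOf (y : G)).Coprime W := hyo ▸ hr.coprime_iff_not_dvd.mpr hWr
            exact exists_pow_eq_self_of_coprime h3.symm
          rw [hCy, Subgroup.mem_centralizer_singleton_iff]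
          refine mul_inv_eq_iff_eq_mul.mp ?_
          conv_lhs => rw [← hb']
          rw [← conj_pow, hyW, hb']
        refine Nat.card_le_card_of_injective (fun b => (⟨_, (hmem b).1⟩ : Cy)) fun b b' hbb => ?_
        have h2 : gv.1⁻¹ * b.1.1 = gv.1⁻¹ * b'.1.1 := congrArg Subtype.val hbb
        have h3 : b.1.1 = b'.1.1 := mul_left_cancel h2
        have h4 := (hmem b).2.trans (hmem b').2.symm
        rw [h3] at h4
        have h5 : ((b.1.2 : Cy) : G) = ((b'.1.2 : Cy) : G) := mul_left_cancel (mul_left_cancel (mul_right_cancel h4))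
        exact Subtype.ext (Prod.ext h3 (Subtype.ext (Subtype.ext h5))))
    refine le_trans (le_of_eq ?_) h1
    rw [Fintype.sum_prod_type, Finset.sum_congr rfl (g := fun _ => (S : ℝ)) fun g _ => ?_, Finset.sum_const,
      Finset.card_univ, nsmul_eq_mul, Nat.card_eq_fintype_card]
    rw [hSdef, Int.cast_sum, hR', Finset.sum_subtype (p := fun v : Cy => ¬ r ∣ orderOf v) _ (fun v => by simp)
      (fun v => ((a v * a v : ℤ) : ℝ))]
    refine Finset.sum_congr rfl fun v _ => ?_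
    rw [irr_class χ, ha _ v.2, Complex.norm_intCast, sq_abs, Int.cast_mul, pow_two]
  -- the norms
  have hnorm : ∀ c : IrrCharacter G, ∑ g : G, ‖(c : G → ℂ) g‖ ^ 2 = (Nat.card G : ℝ) := by
    intro c
    apply Complex.ofReal_injective
    have h1 := Char.classInner_irr_self c.2
    rw [classInner, inv_mul_eq_iff_eq_mul₀ (Nat.cast_ne_zero.mpr Nat.card_pos.ne'), mul_one] at h1
    rw [Complex.ofReal_sum, Complex.ofReal_natCast, ← h1]
    exact Finset.sum_congr rfl fun g _ => by rw [Complex.mul_conj', Complex.ofReal_pow]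
  set F : G → ℝ := fun g => ∑ c ∈ X, ‖(c : G → ℂ) g‖ ^ 2 with hF
  set Sing := Finset.univ.filter (fun g : G => p ∣ orderOf g) with hSing
  have hsplit : F 1 + (s : ℝ) * Rsum + ∑ g ∈ Sing, F g = (s : ℝ) * (Nat.card G : ℝ) := by
    have htot : ∑ g : G, F g = (s : ℝ) * (Nat.card G : ℝ) := by
      rw [hF, Finset.sum_comm, Finset.sum_congr rfl fun c _ => hnorm c, Finset.sum_const, nsmul_eq_mul, hT.cardX]
    rw [← htot, ← Finset.sum_filter_add_sum_filter_not Finset.univ (fun g : G => p ∣ orderOf g) F, ← hSing]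
    have hsplit2 : Finset.univ.filter (fun g : G => ¬ p ∣ orderOf g) = insert 1 T := by
      ext g
      simp only [hTdef, Finset.mem_filter, Finset.mem_univ, true_and, Finset.mem_insert]
      constructor
      · intro h1
        by_cases h2 : g = 1
        · exact Or.inl h2
        · exact Or.inr ⟨h2, h1⟩
      · rintro (rfl | ⟨-, h1⟩)
        · rw [orderOf_one]; exact hp.not_dvd_one
        · exact h1
    rw [hsplit2, Finset.sum_insert (by simp [hTdef]),
      show ∑ g ∈ T, F g = (s : ℝ) * Rsum by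
        rw [hRsum, Finset.mul_sum]
        refine Finset.sum_congr rfl fun g hg => ?_
        rw [hF]
        simp only
        rw [Finset.sum_congr rfl fun c hc => by rw [h.apply_X_eq hP hM (Finset.mem_filter.mp hg).2.2 hc hχ],
          Finset.sum_const, nsmul_eq_mul, hT.cardX]]
    ring
  have hF1 : F 1 = (s : ℝ) * ((q + 1 : ℕ) : ℝ) ^ 4 := by
    rw [hF]
    simp only
    rw [Finset.sum_congr rfl fun c hc => by
      rw [← charDegree_cast c, Complex.norm_natCast, (h.memX c hc).2.1, hT.deg, hP1], Finset.sum_const, nsmul_eq_mul,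
      hT.cardX]
    push_cast
    ring
  have hFx : ∀ i : ZMod p, i ≠ 0 → F (pw x i) = (p : ℝ) - q := by
    intro i hi
    have hio : p ∣ orderOf (pw x i) := dvd_of_eq (hS.orderOf_pw hi).symm
    apply Complex.ofReal_injective
    rw [hF]
    simp only
    rw [Complex.ofReal_sum]
    have hnsq : ∀ c : IrrCharacter G, ((‖(c : G → ℂ) (pw x i)‖ ^ 2 : ℝ) : ℂ) =
        (c : G → ℂ) (pw x i) * conj ((c : G → ℂ) (pw x i)) := fun c => by
      rw [Complex.mul_conj', Complex.ofReal_pow]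
    simp only [hnsq]
    have h1 := Char.column_orth (pw x i) (pw x i)
    rw [if_pos (IsConj.refl _), card_centralizer_pw hS hK hi, h.sum_irr hP hK hM, oneG_apply, map_one,
      Finset.sum_congr (s₁ := C) rfl (g := fun _ => (1 : ℂ)) fun c hc => by
        rw [(h.memC c hc).2.2.2.2 i hi, map_one, mul_one],
      Finset.sum_congr (s₁ := B) rfl (g := fun _ => (1 : ℂ)) fun c hc => by
        rw [(h.memB c hc).2.2.2.2 i hi, map_neg, map_one, neg_mul_neg, mul_one],
      Finset.sum_eq_zero (s := Zset p G) fun c hc => by rw [apply_Z_singular hK hM hS hc hio, zero_mul],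
      hT.Aemp, hT.Demp, Finset.sum_empty, hC, Finset.sum_singleton, Finset.sum_const, nsmul_eq_mul] at h1
    simp only [Finset.sum_empty, add_zero, mul_one] at h1
    have hbC : (B.card : ℂ) + 1 = (u : ℂ) := by exact_mod_cast hT.cardB
    have hqC : (q : ℂ) = (u : ℂ) + 1 := by exact_mod_cast hq
    push_cast
    linear_combination h1 - hbC + hqC
  have hsing : (Nat.card G : ℝ) * ((p - 1 : ℕ) : ℝ) * ((p : ℝ) - q) ≤ ((p * q : ℕ) : ℝ) * ∑ g ∈ Sing, F g := by
    have h1 := sum_comp_le (fun gi : G × (ZMod p)ˣ => gi.1 * pw x (gi.2 : ZMod p) * gi.1⁻¹) Sing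
      (F := F) (fun g => Finset.sum_nonneg fun c _ => by positivity)
      (fun gi => Finset.mem_filter.mpr ⟨Finset.mem_univ _, by
        rw [show gi.1 * pw x (gi.2 : ZMod p) * gi.1⁻¹ = MulAut.conj gi.1 (pw x (gi.2 : ZMod p)) from rfl,
          MulEquiv.orderOf_eq, hS.orderOf_pw gi.2.ne_zero]⟩)
      (K := p * q) (fun gi => by
        rw [show p * q = Nat.card (Subgroup.normalizer (Subgroup.zpowers x : Set G)) by
          rw [hS.card_normalizer, card_L hS hK, hT.index, hq]]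
        have hmem : ∀ b : {b : G × (ZMod p)ˣ //
            b.1 * pw x (b.2 : ZMod p) * b.1⁻¹ = gi.1 * pw x (gi.2 : ZMod p) * gi.1⁻¹},
            gi.1⁻¹ * b.1.1 ∈ Subgroup.normalizer (Subgroup.zpowers x : Set G) ∧
            (gi.1⁻¹ * b.1.1) * pw x (b.1.2 : ZMod p) * (gi.1⁻¹ * b.1.1)⁻¹ = pw x (gi.2 : ZMod p) := by
          rintro ⟨⟨g', v⟩, hb⟩
          have hb' : g' * pw x (v : ZMod p) * g'⁻¹ = gi.1 * pw x (gi.2 : ZMod p) * gi.1⁻¹ := hb
          set w := gi.1⁻¹ * g' with hw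
          have hc : w * pw x (v : ZMod p) * w⁻¹ = pw x (gi.2 : ZMod p) := by
            calc w * pw x (v : ZMod p) * w⁻¹ = gi.1⁻¹ * (g' * pw x (v : ZMod p) * g'⁻¹) * gi.1 := by rw [hw]; group
              _ = _ := by rw [hb']; group
          refine ⟨?_, hc⟩
          have hle : ∀ i : (ZMod p)ˣ, Subgroup.zpowers (pw x (i : ZMod p)) = Subgroup.zpowers x := fun i =>
            Subgroup.eq_of_le_of_card_ge (Subgroup.zpowers_le.mpr (hS.pw_mem _))
              (by rw [Nat.card_zpowers, Nat.card_zpowers, hS.orderOf_pw i.ne_zero, hS.hx])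
          have hmap : (Subgroup.zpowers x).map (MulAut.conj w).toMonoidHom = Subgroup.zpowers x := by
            conv_lhs => rw [← hle v]
            rw [MonoidHom.map_zpowers]
            show Subgroup.zpowers (w * pw x (v : ZMod p) * w⁻¹) = _
            rw [hc, hle]
          have h2 : w • P0 hS = P0 hS := Sylow.ext (by rw [Sylow.coe_subgroup_smul]; exact hmap)
          exact Sylow.smul_eq_iff_mem_normalizer.mp h2
        refine Nat.card_le_card_of_injective
          (fun b => (⟨_, (hmem b).1⟩ : Subgroup.normalizer (Subgroup.zpowers x : Set G))) fun b b' hbb => ?_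
        have h3 : b.1.1 = b'.1.1 := mul_left_cancel (congrArg Subtype.val hbb :)
        have h4 := (hmem b).2.trans (hmem b').2.symm
        rw [h3] at h4
        exact Subtype.ext (Prod.ext h3 (Units.ext (hS.pw_inj (mul_left_cancel (mul_right_cancel h4))))))
    refine le_trans (le_of_eq ?_) h1
    rw [Finset.sum_congr rfl (g := fun _ => (p : ℝ) - q) fun gi _ => by
      rw [show F (gi.1 * pw x (gi.2 : ZMod p) * gi.1⁻¹) = F (pw x (gi.2 : ZMod p)) from
        Finset.sum_congr rfl fun c _ => by rw [irr_class c], hFx _ gi.2.ne_zero],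
      Finset.sum_const, Finset.card_univ, nsmul_eq_mul, Fintype.card_prod, ZMod.card_units, Nat.cast_mul,
      ← Nat.card_eq_fintype_card]
  -- conclusion
  set SF := ∑ g ∈ Sing, F g with hSF
  have hpR : (p : ℝ) = (q : ℝ) ^ 2 + q + 1 := by rw [hpq]; push_cast; ring
  have hsR : (s : ℝ) = (q : ℝ) + 1 := by rw [hs, hq]; push_cast; ring
  have hqR : (3 : ℝ) ≤ (q : ℝ) := by exact_mod_cast hq3
  have hGR : (Nat.card G : ℝ) = (p : ℝ) * (q : ℝ) ^ 3 * ((q : ℝ) + 1) ^ 2 := by rw [hG]; push_cast; ring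
  have hSF2 : (q : ℝ) ^ 3 * ((q : ℝ) + 1) ^ 3 * ((q : ℝ) ^ 2 + 1) ≤ SF := by
    refine le_of_mul_le_mul_left ?_ (show (0 : ℝ) < ((p * q : ℕ) : ℝ) by exact_mod_cast Nat.mul_pos hp.pos (by omega))
    refine le_trans (le_of_eq ?_) hsing
    rw [hGR, Nat.cast_mul, hpR, Nat.cast_sub hp.one_le, hpR]
    push_cast
    ring
  have hR2 : Rsum ≤ ((q : ℝ) + 1) ^ 2 * ((q : ℝ) ^ 4 - ((q : ℝ) + 1) ^ 2) := by
    rw [hF1, hsR, hGR, hpR] at hsplit
    refine le_of_mul_le_mul_left ?_ (show (0 : ℝ) < (q : ℝ) + 1 by linarith)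
    push_cast at hsplit
    linear_combination hsplit + hSF2
  have hCS : (Nat.card G : ℝ) ≤ (Cr : ℝ) * Rsum := by
    have h1 : ((q * f : ℕ) : ℝ) ≤ (Cr : ℝ) * (S : ℝ) := by exact_mod_cast hlow
    have h2 := mul_le_mul_of_nonneg_left h1 (Nat.cast_nonneg (Nat.card G) : (0 : ℝ) ≤ _)
    have h3 := mul_le_mul_of_nonneg_left hup (Nat.cast_nonneg Cr : (0 : ℝ) ≤ _)
    refine le_of_mul_le_mul_left ?_
      (show (0 : ℝ) < ((q * f : ℕ) : ℝ) by rw [← hcardCy]; exact_mod_cast Nat.card_pos)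
    linarith
  by_contra hcon
  rw [not_lt] at hcon
  have hCr2 : (Cr : ℝ) ≤ (q : ℝ) := by exact_mod_cast hcon
  have hR0 : 0 ≤ Rsum := Finset.sum_nonneg fun g _ => by positivity
  have h4 : (Nat.card G : ℝ) ≤ (q : ℝ) * (((q : ℝ) + 1) ^ 2 * ((q : ℝ) ^ 4 - ((q : ℝ) + 1) ^ 2)) :=
    hCS.trans (mul_le_mul hCr2 hR2 hR0 (by linarith))
  rw [hGR, hpR] at h4
  have h5 : (0 : ℝ) < (q : ℝ) ^ 3 * ((q : ℝ) + 1) ^ 3 + (q : ℝ) * ((q : ℝ) + 1) ^ 4 := by positivity
  linarith

set_option maxHeartbeats 1600000 in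
/-- The group has order 5616. -/
theorem target_big (hperf : commutator G = ⊤) : Classified p n G := by
  classical
  have := Fintype.ofFinite (IrrCharacter G)
  have hp := hS.hp
  have hs := h.target_s hP hK hM hn hT hu
  obtain ⟨U, hC⟩ := Finset.card_eq_one.mp hT.cardC
  obtain ⟨χ, hχ⟩ : X.Nonempty := Finset.card_pos.mp (by rw [hT.cardX]; omega)
  set q := u + 1 with hq
  have hpq : p = q * (q + 1) + 1 := by rw [hP.hpe, hs]
  have hA' : u * s + 1 = q * q := by rw [hs, hq]; ring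
  have hP1 : p + u + 1 = (q + 1) * (q + 1) := by rw [hpq, hq]; ring
  have hN : 1 + n * p = q ^ 2 * (q + 1) ^ 2 := by rw [hP.card_eq, hA', hP1]; ring
  have hG : Nat.card G = p * q ^ 3 * (q + 1) ^ 2 := by rw [card_G_eq hS hK hn, hT.index, hN]; ring
  -- the centralizers on `L`
  have hy : ∀ y : L, y ≠ 1 → ∃ f k, Nat.card (Subgroup.centralizer ({(y : G)} : Set G)) = q * f ∧ f ∣ q ^ 2 ∧
      k * f ^ 2 = q ^ 2 * (q + 2) ∧ (orderOf y = 2 → k ≤ 1) := by
    intro y hy1
    obtain ⟨hUy, hXy⟩ := h.target_values hP hK hM hn hT hu hC hχ hy1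
    have hreg := hS.regular_L y
    obtain ⟨f, k, -, -, hf, hk2, hk⟩ := h.square_count hP hK hM hn hy1 (z := 1)
      fun c hc => (h.apply_X_eq hP hM hreg hc hχ).trans hXy
    rw [hT.index] at hf
    refine ⟨f, k, hf, ?_, ?_, hk2⟩
    · obtain ⟨a, ha, -, -, i, hi, hc⟩ := h.target_int hP hK hM hn hT hu hq hC hχ hreg hUy
      have ha1 : a = 1 := by
        apply Int.cast_injective (α := ℂ)
        rw [← ha, hXy, Int.cast_one]
      rw [ha1, add_sub_cancel_right] at hc
      have hd := dvd_card_pairs_x hS hK (pw x i) (y : G) _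
        (not_dvd_card_centralizer hS hK hreg (fun h1 => hy1 (Subtype.ext h1))) le_rfl
      rw [hf, show Nat.card (Pairs x (pw x i) (y : G)) = q * q ^ 2 by
        apply Int.natCast_inj.mp
        rw [hc]; push_cast; ring] at hd
      exact Nat.dvd_of_mul_dvd_mul_left (by omega) hd
    · simp only [hT.Aemp, hT.Demp, Finset.sum_empty] at hk
      rw [hC, Finset.sum_singleton, hUy, hT.index, ← hq, hT.eps, hT.deg, hP1, hN] at hk
      apply Nat.eq_of_mul_eq_mul_left (show 0 < q by omega)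
      apply Nat.cast_injective (R := ℂ)
      have hq1 : ((q : ℂ) + 1) ≠ 0 := by exact_mod_cast Nat.succ_ne_zero q
      push_cast at hk ⊢
      rw [show (q : ℂ) * ((k : ℂ) * (f : ℂ) ^ 2) = (k : ℂ) * (q : ℂ) * (f : ℂ) ^ 2 by ring, hk]
      field_simp
      ring
  -- `q` is odd
  have hodd : ¬ 2 ∣ q := by
    intro h2
    obtain ⟨y, hyo, hy1⟩ := exists_orderOf hS hK Nat.prime_two (hT.index ▸ h2)
    obtain ⟨f, k, -, hfq, hk, hk2⟩ := hy y hy1
    have hk1 : k = 1 := le_antisymm (hk2 hyo) (Nat.pos_of_ne_zero fun h0 => by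
      rw [h0, zero_mul] at hk
      exact (Nat.mul_pos (pow_pos (show 0 < q by omega) 2) (Nat.succ_pos (q + 1))).ne hk)
    rw [hk1, one_mul] at hk
    have h3 : q ^ 2 * (q + 2) ∣ q ^ 2 * q ^ 2 := by
      rw [← hk, ← pow_two (q ^ 2)]
      exact pow_dvd_pow_of_dvd hfq 2
    have h4 := Nat.dvd_of_mul_dvd_mul_left (pow_pos (show 0 < q by omega) 2) h3
    have h5 : (((q + 2 : ℕ) : ℤ)) ∣ ((q ^ 2 : ℕ) : ℤ) := by exact_mod_cast h4
    push_cast at h5
    have h6 : ((q : ℤ) + 2) ∣ 4 := by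
      have := Int.dvd_sub h5 (dvd_mul_right ((q : ℤ) + 2) ((q : ℤ) - 2))
      rwa [show (q : ℤ) ^ 2 - ((q : ℤ) + 2) * ((q : ℤ) - 2) = 4 by ring] at this
    have := Int.le_of_dvd (by norm_num) h6
    omega
  have hfq : ∀ y : L, y ≠ 1 → ∃ f, Nat.card (Subgroup.centralizer ({(y : G)} : Set G)) = q * f ∧ f ∣ q := by
    intro y hy1
    obtain ⟨f, k, hf, hf2, hk, -⟩ := hy y hy1
    refine ⟨f, hf, (Nat.pow_dvd_pow_iff two_ne_zero).mp ?_⟩
    have hc : Nat.Coprime q (q + 2) := by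
      rw [Nat.coprime_self_add_right]
      exact (Nat.prime_two.coprime_iff_not_dvd.mpr hodd).symm
    exact (((hc.pow_left 2).pow_left 2).coprime_dvd_left (pow_dvd_pow_of_dvd hf2 2)).dvd_of_dvd_mul_right
      ⟨k, by rw [← hk, mul_comm]⟩
  rcases Nat.lt_or_ge q 5 with hq5 | hq5
  · have hq3 : q = 3 := by omega
    obtain rfl : u = 2 := by omega
    obtain rfl : s = 4 := by omega
    have hp13 : p = 13 := hP.hpe
    refine .thirteen hp13 hP.hne ?_
    rw [hG, hp13, hq3]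
    norm_num
  exfalso
  -- `q` is a prime power
  have hpart : ∀ r : ℕ, r.Prime → r ∣ q → ∃ y : L, y ≠ 1 ∧ orderOf y = r ∧ ∃ f,
      Nat.card (Subgroup.centralizer ({(y : G)} : Set G)) = q * f ∧ f ∣ q ∧
        q < r ^ (q * f).factorization r ∧ q < r ^ (2 * q.factorization r) := by
    intro r hr hrq
    obtain ⟨y, hyo, hy1⟩ := exists_orderOf hS hK hr (hT.index ▸ hrq)
    obtain ⟨f, hf, hfd⟩ := hfq y hy1
    have h1 := h.target_part hP hK hM hn hT hu hq hC hχ hr hrq hyo (f := f) (by rw [hf, hT.index])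
    refine ⟨y, hy1, hyo, f, hf, hfd, h1, h1.trans_le (Nat.pow_le_pow_right hr.pos ?_)⟩
    have hf0 : f ≠ 0 := fun h0 => by rw [h0, mul_zero] at hf; exact Nat.card_pos.ne' hf
    rw [Nat.factorization_mul (by omega) hf0, Finsupp.add_apply, two_mul]
    exact Nat.add_le_add_left ((Nat.factorization_le_iff_dvd hf0 (by omega)).mpr hfd r) _
  obtain ⟨r, hr, hrq⟩ := Nat.exists_prime_and_dvd (show q ≠ 1 by omega)
  have hpp : q = r ^ q.factorization r := by
    by_contra hne
    have h1 := Nat.ordProj_mul_ordCompl_eq_self q r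
    obtain ⟨r', hr', hr'q⟩ := Nat.exists_prime_and_dvd (show q / r ^ q.factorization r ≠ 1 from
      fun h2 => hne (by rw [h2, mul_one] at h1; exact h1.symm))
    have hne' : r ≠ r' := fun h2 => Nat.not_dvd_ordCompl hr (show q ≠ 0 by omega) (h2 ▸ hr'q)
    have hr'q' : r' ∣ q := hr'q.trans ⟨_, by rw [mul_comm]; exact h1.symm⟩
    obtain ⟨-, -, -, -, -, -, -, ha⟩ := hpart r hr hrq
    obtain ⟨-, -, -, -, -, -, -, hb⟩ := hpart r' hr' hr'q'
    have hcop : Nat.Coprime (r ^ q.factorization r) (r' ^ q.factorization r') :=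
      ((Nat.coprime_primes hr hr').mpr hne').pow _ _
    have h3 := Nat.le_of_dvd (show 0 < q by omega)
      (hcop.mul_dvd_of_dvd_of_dvd (Nat.ordProj_dvd q r) (Nat.ordProj_dvd q r'))
    rw [mul_comm 2, pow_mul] at ha hb
    have h4 := Nat.mul_lt_mul_of_lt_of_lt ha hb
    have h5 := Nat.mul_le_mul h3 h3
    rw [pow_two, pow_two] at h4
    linarith
  set a := q.factorization r with ha
  obtain ⟨y, hy1, hyo, f, hf, hfd, hCr, -⟩ := hpart r hr hrq
  obtain ⟨b, hba, hfb⟩ := (Nat.dvd_prime_pow hr).mp (hpp ▸ hfd : f ∣ r ^ a)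
  have hb0 : b ≠ 0 := by
    rintro rfl
    rw [hfb, pow_zero, mul_one, ← ha, ← hpp] at hCr
    exact lt_irrefl _ hCr
  have hrf : r ∣ f := hfb ▸ dvd_pow_self r hb0
  have hrp : ¬ r ∣ p := fun h1 => hr.not_dvd_one ((Nat.dvd_add_right (hrq.mul_right (q + 1))).mp (hpq ▸ h1))
  have hrq1 : ¬ r ∣ (q + 1) ^ 2 := fun h1 =>
    hr.not_dvd_one ((Nat.dvd_add_right hrq).mp (hr.dvd_of_dvd_pow h1))
  -- a central element of order `r` of a Sylow subgroup
  haveI := Fact.mk hr
  obtain ⟨R⟩ : Nonempty (Sylow r G) := inferInstance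
  have hRcard : Nat.card (R : Subgroup G) = q ^ 3 := by
    rw [R.card_eq_multiplicity, hG, mul_comm p, mul_assoc,
      Nat.factorization_mul (pow_ne_zero 3 (by omega)) (Nat.mul_ne_zero hp.ne_zero (pow_ne_zero 2 (by omega))),
      Finsupp.add_apply, Nat.factorization_eq_zero_of_not_dvd (n := p * (q + 1) ^ 2)
        (fun h1 => (hr.dvd_mul.mp h1).elim hrp hrq1), add_zero, Nat.factorization_pow, Finsupp.smul_apply,
      smul_eq_mul, mul_comm, pow_mul, ← ha, ← hpp]
  haveI : Nontrivial (R : Subgroup G) := Finite.one_lt_card_iff_nontrivial.mp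
    (by rw [hRcard]; exact Nat.one_lt_pow three_ne_zero (by omega))
  obtain ⟨j, hj⟩ := IsPGroup.iff_card.mp (R.isPGroup'.to_subgroup (Subgroup.center (R : Subgroup G)))
  haveI := R.isPGroup'.center_nontrivial
  have hj0 : j ≠ 0 := fun h0 => by
    have := Finite.one_lt_card (α := Subgroup.center (R : Subgroup G))
    rw [hj, h0, pow_zero] at this
    exact lt_irrefl _ this
  obtain ⟨z₀, hz₀⟩ := exists_prime_orderOf_dvd_card' (G := Subgroup.center (R : Subgroup G)) r
    (by rw [hj]; exact dvd_pow_self r hj0)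
  set z : G := ((z₀ : (R : Subgroup G)) : G) with hzdef
  have hzo : orderOf z = r := by rw [hzdef, Subgroup.orderOf_coe, Subgroup.orderOf_coe, hz₀]
  have hRz : (R : Subgroup G) ≤ Subgroup.centralizer ({z} : Set G) := fun g hg => by
    rw [Subgroup.mem_centralizer_singleton_iff]
    exact congrArg Subtype.val (Subgroup.mem_center_iff.mp z₀.2 ⟨g, hg⟩)
  have hRp : ¬ p ∣ Nat.card (R : Subgroup G) := fun h1 => by
    rw [hRcard, hpp, ← pow_mul] at h1
    exact hrp ((Nat.prime_dvd_prime_iff_eq hp hr).mp (hp.dvd_of_dvd_pow h1) ▸ dvd_rfl)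
  have hzreg : ¬ p ∣ orderOf z := fun h1 => hrp (by
    rw [hzo] at h1
    exact (Nat.prime_dvd_prime_iff_eq hp hr).mp h1 ▸ dvd_rfl)
  have hUz : (U : G → ℂ) z = 0 := vanish_of_defect U hr (M' := p * (q + 1) ^ 2)
    (by rw [(h.memC U (hC ▸ Finset.mem_singleton_self U)).2.1, hA', hG, ← hq]; ring)
    (fun h1 => (hr.dvd_mul.mp h1).elim hrp hrq1) (dvd_of_eq hzo.symm)
  obtain ⟨c, hcval, hcle, hcge, i, hi, hcount⟩ := h.target_int hP hK hM hn hT hu hq hC hχ hzreg hUz
  have hq1c : (q : ℤ) ∣ 1 - c := by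
    have h1 := dvd_card_pairs_x hS hK (pw x i) z _ hRp hRz
    rw [hRcard] at h1
    have h2 : ((q ^ 3 : ℕ) : ℤ) ∣ (Nat.card (Pairs x (pw x i) z) : ℤ) := Int.natCast_dvd_natCast.mpr h1
    rw [hcount] at h2
    push_cast at h2
    rw [pow_succ] at h2
    have h3 := (mul_dvd_mul_iff_left (pow_ne_zero 2 (show (q : ℤ) ≠ 0 by omega))).mp h2
    have h4 := Int.dvd_sub h3 (dvd_refl (q : ℤ))
    rwa [show (q : ℤ) + 1 - c - q = 1 - c by ring] at h4
  -- pairs of conjugates of `x` and `y` with product `z`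
  have hcp := card_pairs x (y : G) z
  obtain ⟨hUy, hXy⟩ := h.target_values hP hK hM hn hT hu hC hχ hy1
  have hxo : p ∣ orderOf x := dvd_of_eq hS.hx.symm
  rw [show Nat.card (Subgroup.centralizer ({x} : Set G)) = p by
      rw [← hS.pw_one, card_centralizer_pw hS hK one_ne_zero],
    hf, hG, h.sum_irr hP hK hM, oneG_apply, oneG_apply, oneG_apply, oneG_apply, map_one, hT.Aemp, hT.Demp,
    Finset.sum_empty, hC, Finset.sum_singleton, hUy, mul_zero, zero_mul, zero_div,
    Finset.sum_eq_zero (s := B) fun b hb => by rw [h.apply_B hP hK hM hb hy1, mul_zero, zero_mul, zero_div],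
    Finset.sum_congr (s₁ := X) rfl (g := fun w => (w : G → ℂ) x * ((c : ℂ) / ((p + u + 1 : ℕ) : ℂ))) fun w hw => by
      rw [← charDegree_cast w, (h.memX w hw).2.1, hT.deg, h.apply_X_eq hP hM (hS.regular_L y) hw hχ, hXy, mul_one,
        h.apply_X_eq hP hM hzreg hw hχ, hcval, map_intCast, mul_div_assoc],
    Finset.sum_eq_zero (s := Zset p G) fun w hw => by
      rw [apply_Z_singular hK hM hS hw hxo, zero_mul, zero_mul, zero_div],
    ← Finset.sum_mul, Finset.sum_congr (s₁ := X) rfl (g := fun w => (w : G → ℂ) (pw x (1 : ZMod p))) fun w _ => by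
      rw [hS.pw_one], h.sumX 1 one_ne_zero, hT.eps, hP1] at hcp
  simp only [Finset.sum_empty, add_zero] at hcp
  have hcnt : (Nat.card (Pairs x (y : G) z) : ℤ) * f = (q : ℤ) ^ 2 * (((q : ℤ) + 1) ^ 2 - c) := by
    apply Int.cast_injective (α := ℂ)
    have hp0 : (p : ℂ) * (q : ℂ) ≠ 0 :=
      mul_ne_zero (Nat.cast_ne_zero.mpr hp.ne_zero) (Nat.cast_ne_zero.mpr (by omega))
    refine mul_left_cancel₀ hp0 ?_
    have hq1 : ((q : ℂ) + 1) ≠ 0 := by exact_mod_cast Nat.succ_ne_zero q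
    push_cast at hcp ⊢
    rw [show (p : ℂ) * (q : ℂ) * ((Nat.card (Pairs x (y : G) z) : ℂ) * (f : ℂ)) =
      (Nat.card (Pairs x (y : G) z) : ℂ) * (p : ℂ) * ((q : ℂ) * (f : ℂ)) by ring, hcp]
    field_simp
    ring
  have hqr : ((q * r : ℕ) : ℤ) ∣ ((q : ℤ) + 1) ^ 2 - c := by
    have h1 := dvd_card_pairs_x hS hK (y : G) z _ hRp hRz
    rw [hRcard] at h1
    have h2 : ((q ^ 2 : ℕ) : ℤ) * ((q * r : ℕ) : ℤ) ∣ (q : ℤ) ^ 2 * (((q : ℤ) + 1) ^ 2 - c) := by
      rw [← hcnt, ← Nat.cast_mul, ← Nat.cast_mul, Int.natCast_dvd_natCast, ← mul_assoc, ← pow_succ]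
      exact mul_dvd_mul h1 hrf
    rw [Nat.cast_pow] at h2
    exact (mul_dvd_mul_iff_left (pow_ne_zero 2 (show (q : ℤ) ≠ 0 by omega))).mp h2
  obtain ⟨k, hk⟩ := hq1c
  have hq5' : (5 : ℤ) ≤ (q : ℤ) := by exact_mod_cast hq5
  have hk1 : -1 ≤ k ∧ k ≤ 0 := by
    constructor <;> by_contra hlt <;> rw [not_le] at hlt
    · have := mul_le_mul_of_nonneg_left (show k ≤ -2 by omega) (show (0 : ℤ) ≤ q by omega)
      linarith
    · have h6 := mul_le_mul_of_nonneg_left (show 1 ≤ k by omega) (show (0 : ℤ) ≤ q by omega)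
      have h7 := mul_le_mul_of_nonneg_left (show c ≤ 1 - (q : ℤ) by linarith) (show (0 : ℤ) ≤ (q : ℤ) - 1 by omega)
      have h8 := mul_le_mul_of_nonneg_right hq5' (show (0 : ℤ) ≤ q by omega)
      linarith
  have h9 : (r : ℤ) ∣ k + 2 := by
    rw [show ((q : ℤ) + 1) ^ 2 - c = (q : ℤ) * ((q : ℤ) + (k + 2)) by linear_combination hk, Nat.cast_mul] at hqr
    exact (dvd_add_right (Int.natCast_dvd_natCast.mpr hrq)).mp
      ((mul_dvd_mul_iff_left (show (q : ℤ) ≠ 0 by omega)).mp hqr)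
  have hr2 : r ≠ 2 := fun h1 => hodd (h1 ▸ hrq)
  have := Int.le_of_dvd (by omega) h9
  have := hr.two_le
  omega

end Blk

end Cfsg.Agent.FewSylowClass
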