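/-
Simple groups with fewer than `p²` Sylow `p`-subgroups (namespace `Cfsg.Agent.FewSylowClass`).

Main results: `classified`.
-/
import Cfsg.Agent.Lib.FewSylowClass.CaseE
import Cfsg.Agent.Lib.FewSylowClass.CaseOne
import Cfsg.Agent.Lib.FewSylowClass.Target
import Cfsg.Agent.S4343

set_option autoImplicit false
set_option linter.unusedSectionVars false
set_option linter.style.haveILetI false

namespace Cfsg.Agent.FewSylowClass

open Cfsg Cfsg.Agent.Blocks Cfsg.Agent.CyclicDefect Cfsg.Agent.BrauerN
open scoped commutatorElement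

universe v

theorem lt_sq {p n : ℕ} (hp : p.Prime) (hn : n < p) : 1 + n * p < p ^ 2 := by
  have h1 := Nat.mul_le_mul_right p (show n + 1 ≤ p from hn)
  rw [pow_two]
  rw [add_mul, one_mul] at h1
  have := hp.two_le
  omega

theorem perfect_of_simple {G : Type*} [Group G] [IsSimpleGroup G] (hnc : ¬ IsMulCommutative G) :
    commutator G = ⊤ := by
  rcases (inferInstance : (commutator G).Normal).eq_bot_or_eq_top with h | h
  · exact absurd ⟨⟨fun a b => by
      have hmem : ⁅a, b⁆ ∈ commutator G := Subgroup.commutator_mem_commutator (Subgroup.mem_top a) (Subgroup.mem_top b)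
      rw [h, Subgroup.mem_bot] at hmem
      exact commutatorElement_eq_one_iff_mul_comm.1 hmem⟩⟩ hnc
  · exact h

theorem core_of_simple {G : Type*} [Group G] [Finite G] [IsSimpleGroup G] {p : ℕ} [Fact p.Prime]
    (hpG : p ∣ Nat.card G) : pPrimeCore p G = ⊥ := by
  rcases (Cores.pPrimeCore_normal p G).eq_bot_or_eq_top with h | h
  · exact h
  · exfalso
    have h2 := Cores.not_dvd_card_pPrimeCore (G := G) (p := p)
    rw [h, Subgroup.card_top] at h2
    exact h2 hpG

/-- The step of the induction. -/
theorem classified_step {G : Type v} [Group G] [Finite G] [IsSimpleGroup G] {p : ℕ} [Fact p.Prime]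
    (hnc : ¬ IsMulCommutative G) (hpG : p ∣ Nat.card G) {n : ℕ} (hn : Nat.card (Sylow p G) = 1 + n * p)
    (hlt : n < p) (hrec : Rec p G) : Classified p n G := by
  classical
  have hp : p.Prime := Fact.out
  have hperf := perfect_of_simple (G := G) hnc
  have hcore := core_of_simple (G := G) hpG
  obtain ⟨P⟩ : Nonempty (Sylow p G) := inferInstance
  have hP1 : Nat.card P = p := S4343.result hnc p hpG (by rw [hn]; exact lt_sq hp hlt) P
  obtain ⟨x, L, -, hS⟩ := exists_setting_of_sylow hp P hP1
  by_cases hF : HasForm p n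
  swap
  · exact classified_of_not_form hperf hcore hS hn hF
  obtain ⟨u, s, hP⟩ := exists_par hp hlt hF
  obtain ⟨M, hM⟩ := CentralChar.exists_pModular p
  obtain ⟨A, C, B, D, X, f₀, m₀, ε, h⟩ := exists_blk hS hM hn hperf hP
  have hK := K_eq_bot h hP hM hperf hcore hnc hn hrec
  rcases h.cases with ⟨hX, -⟩ | ⟨ht, -, -, hxt⟩
  · exact (h.not_one hP hK hM hn hperf hX).elim
  cases hxt with
  | degE => exact (h.not_degE hP hK hM hn hperf ht rfl rfl rfl).elim
  | degN f m hf hm => exact (h.not_degN hP hK hM hn hperf ht rfl hf hm).elim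
  | degU g hg hge => exact (h.not_degU hP hK hM hn hperf ht rfl rfl hg).elim
  | degP g hg =>
    obtain ⟨he, htc, hm1, hc, hD, hb⟩ := h.degP_case hP hK hM hn hperf ht rfl rfl hg
    have hT : Target p x L u s A C B D X (1 * (p + u + 1)) 1 :=
      ⟨he, htc, hc, h.A_empty hP hK hM hn ht, hD, hb, rfl, one_mul _⟩
    subst hm1
    rcases Nat.lt_or_ge u 2 with hu | hu
    · exact h.target_two hP hK hM hn hperf hT (by have := hP.hu; omega)
    · exact h.target_big hP hK hM hn hT hu hperf

/-- The simple groups with `1 + n p` Sylow subgroups for `n < p`. -/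
theorem classified {G : Type v} [Group G] [Finite G] [IsSimpleGroup G] {p : ℕ} [Fact p.Prime]
    (hnc : ¬ IsMulCommutative G) (hpG : p ∣ Nat.card G) {n : ℕ} (hn : Nat.card (Sylow p G) = 1 + n * p)
    (hlt : n < p) : Classified p n G := by
  induction hN : Nat.card G using Nat.strong_induction_on generalizing G n with
  | _ N ih =>
    refine classified_step hnc hpG hn hlt fun H iG iF hH hHnc hcard hpH n' hn' hlt' => ?_
    haveI := hH
    exact ih (Nat.card H) (hN ▸ hcard) hHnc hpH hn' hlt' rfl

end Cfsg.Agent.FewSylowClass
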