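/-
The groups of the classification have fewer than `p²` Sylow `p`-subgroups
(namespace `Cfsg.Agent.FewSylowClass`).

Main results: `count_lt_sq_of_psl_prime`, `count_lt_sq_of_psl_three`, `count_lt_sq_of_fermat`,
`count_lt_sq_of_mersenne`.
-/
import Cfsg.Agent.Lib.FewSylowClass.Main
import Cfsg.Agent.Lib.GLOrder.Basic

set_option autoImplicit false
set_option linter.unusedSectionVars false
set_option linter.style.haveILetI false

namespace Cfsg.Agent.FewSylowClass

open Cfsg Cfsg.Agent.Blocks Cfsg.Agent.CyclicDefect Cfsg.Agent.BrauerN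

variable {G : Type*} [Group G] [Finite G] {p : ℕ} [Fact p.Prime]

/-- `n_p |P|` divides the order of the group. -/
theorem count_mul_card_dvd (P : Sylow p G) : Nat.card (Sylow p G) * Nat.card P ∣ Nat.card G := by
  rw [P.card_eq_index_normalizer, ← (Subgroup.normalizer ((P : Subgroup G) : Set G)).card_mul_index,
    mul_comm]
  exact Nat.mul_dvd_mul_right (Subgroup.card_dvd_of_le Subgroup.le_normalizer) _

/-- The order of a Sylow subgroup is a positive power of `p`. -/
theorem sylow_card_pow (hpG : p ∣ Nat.card G) (P : Sylow p G) : ∃ k, Nat.card P = p ^ (k + 1) := by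
  obtain ⟨k, hk⟩ := IsPGroup.iff_card.1 P.isPGroup'
  rcases k with _ | k
  · exact absurd (Subgroup.card_eq_one.1 (hk.trans (pow_zero p))) (P.ne_bot_of_dvd_card hpG)
  · exact ⟨k, hk⟩

theorem count_mul_dvd (hpG : p ∣ Nat.card G) : Nat.card (Sylow p G) * p ∣ Nat.card G := by
  obtain ⟨P⟩ := (inferInstance : Nonempty (Sylow p G))
  obtain ⟨k, hk⟩ := sylow_card_pow hpG P
  exact (Nat.mul_dvd_mul_left _ (hk ▸ dvd_pow_self p k.succ_ne_zero)).trans (count_mul_card_dvd P)

/-- A group of order less than `p³`. -/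
theorem count_lt_sq_of_card_lt (hpG : p ∣ Nat.card G) (h : Nat.card G < p ^ 3) :
    Nat.card (Sylow p G) < p ^ 2 := by
  have h1 := (Nat.le_of_dvd Nat.card_pos (count_mul_dvd hpG)).trans_lt h
  rw [pow_succ] at h1
  exact Nat.lt_of_mul_lt_mul_right h1

theorem count_lt_sq_of_psl_prime (hpG : p ∣ Nat.card G) {F : Type} [Field F] [Finite F]
    (hF : Nat.card F = p) (e : G ≃* Matrix.ProjectiveSpecialLinearGroup (Fin 2) F) :
    Nat.card (Sylow p G) < p ^ 2 := by
  refine count_lt_sq_of_card_lt hpG ?_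
  rw [Nat.card_congr e.toEquiv, GLOrder.card_PSL_two, hF]
  refine (Nat.div_le_self _ _).trans_lt ?_
  have hp := (Fact.out : p.Prime).pos
  rw [pow_succ' p 2]
  exact Nat.mul_lt_mul_of_pos_left (Nat.sub_lt (pow_pos hp 2) one_pos) hp

theorem count_lt_sq_of_psl_three (hp : p = 13) (hpG : p ∣ Nat.card G) {F : Type} [Field F] [Finite F]
    (hF : Nat.card F = 3) (e : G ≃* Matrix.ProjectiveSpecialLinearGroup (Fin 3) F) :
    Nat.card (Sylow p G) < p ^ 2 := by
  subst hp
  have hG : Nat.card G = 432 * 13 := by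
    rw [Nat.card_congr e.toEquiv, GLOrder.card_PSL, GLOrder.card_SL, hF, Fintype.card_fin]
    decide
  have h1 : Nat.card (Sylow 13 G) ∣ 432 :=
    Nat.dvd_of_mul_dvd_mul_right (by norm_num : 0 < 13) (hG ▸ count_mul_dvd hpG)
  obtain ⟨n, hn⟩ := card_sylow_form 13 G
  rw [hn] at h1 ⊢
  have := Nat.le_of_dvd (by norm_num) h1
  have hn34 : n < 34 := by omega
  interval_cases n <;> omega

theorem count_lt_sq_of_fermat {k : ℕ} (hp : 3 < p) (hk : p = 2 ^ k + 1) (hpG : p ∣ Nat.card G)
    {F : Type} [Field F] [Finite F] (hF : Nat.card F = p - 1)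
    (e : G ≃* Matrix.ProjectiveSpecialLinearGroup (Fin 2) F) : Nat.card (Sylow p G) < p ^ 2 := by
  refine count_lt_sq_of_card_lt hpG ?_
  rw [Nat.card_congr e.toEquiv, GLOrder.card_PSL_two, hF]
  refine (Nat.div_le_self _ _).trans_lt ?_
  rw [pow_succ' p 2]
  refine Nat.mul_lt_mul_of_lt_of_le (by omega) ?_ (by positivity)
  exact (Nat.sub_le _ _).trans (Nat.pow_le_pow_left (Nat.sub_le _ _) 2)

theorem count_lt_sq_of_mersenne [IsSimpleGroup G] (hnc : ¬ IsMulCommutative G) (hp : 3 < p)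
    {k : ℕ} (hk : p + 1 = 2 ^ k) (hpG : p ∣ Nat.card G)
    {F : Type} [Field F] [Finite F] (hF : Nat.card F = p + 1)
    (e : G ≃* Matrix.ProjectiveSpecialLinearGroup (Fin 2) F) : Nat.card (Sylow p G) < p ^ 2 := by
  have hpp : p.Prime := Fact.out
  have heven : Even (Nat.card F) := by
    rw [hF, hk, Nat.even_pow]
    exact ⟨even_two, by rintro rfl; rw [pow_zero] at hk; omega⟩
  have hG : Nat.card G = (p + 1) * (p * (p + 2)) := by
    rw [Nat.card_congr e.toEquiv, GLOrder.card_PSL_two_of_even heven, hF]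
    congr 1
    rw [show (p + 1) ^ 2 = p * (p + 2) + 1 by ring, Nat.add_sub_cancel]
  obtain ⟨P⟩ := (inferInstance : Nonempty (Sylow p G))
  obtain ⟨j, hj⟩ := sylow_card_pow hpG P
  obtain ⟨n, hn⟩ := card_sylow_form p G
  rcases j with _ | j
  · rw [pow_one] at hj
    obtain ⟨x, L, -, hS⟩ := exists_setting_of_sylow hpp P hj
    have h2 : 2 ≤ Nat.card L :=
      (two_le_index hS (perfect_of_simple hnc)).trans (Nat.le_of_dvd Nat.card_pos (Subgroup.index_dvd_card _))
    have h3 : Nat.card L * (1 + n * p) = (p + 1) * (p + 2) :=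
      Nat.eq_of_mul_eq_mul_left hpp.pos (by rw [← mul_assoc, ← card_G hS hn, hG]; ring)
    have h4 := Nat.mul_le_mul_right (1 + n * p) h2
    rw [h3, ← hn] at h4
    nlinarith
  · have h1 := Nat.le_of_dvd Nat.card_pos (count_mul_card_dvd P)
    have h2 : p * p ≤ Nat.card P := by
      rw [hj, ← pow_two]
      exact Nat.pow_le_pow_right hpp.pos (by omega)
    have h3 := (Nat.mul_le_mul_left (Nat.card (Sylow p G)) h2).trans h1
    rw [hG] at h3
    nlinarith

end Cfsg.Agent.FewSylowClass
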