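/-
The possible numbers of Sylow `p`-subgroups below `p²` (namespace `Cfsg.Agent.FewSylowClass`).

Main results: `Outcome`, `Classified.outcome`, `outcome`.
-/
import Cfsg.Agent.Lib.FewSylowClass.Main
import Cfsg.Agent.Lib.FewSylowPrimePow.Basic

set_option autoImplicit false
set_option linter.unusedSectionVars false
set_option linter.style.haveILetI false

namespace Cfsg.Agent.FewSylowClass

open Cfsg Cfsg.Agent.FewSylowPrimePow

universe u

variable {p : ℕ}

/-- The possible values of a number `N` of Sylow `p`-subgroups below `p²`. -/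
def Outcome (p N : ℕ) : Prop :=
  (∃ q k : ℕ, q.Prime ∧ N = q ^ k) ∨
    (p = 13 ∧ N = 144) ∨
    (p ≠ 2 ∧ (¬ ∃ k : ℕ, p + 1 = 2 ^ k) ∧ N = 1 + p) ∨
    (3 < p ∧ (∃ k : ℕ, p = 2 ^ k + 1) ∧ 2 * N = 2 + (p - 3) * p) ∨
    (3 < p ∧ (∃ k : ℕ, p + 1 = 2 ^ k) ∧ 2 * N = 2 + (p + 3) * p)

theorem outcome_one : Outcome p 1 := Or.inl ⟨2, 0, Nat.prime_two, rfl⟩

theorem Classified.outcome {n : ℕ} {G : Type*} [Group G] (h : Classified p n G) : Outcome p (1 + n * p) := by
  rcases h with ⟨F, iF, iF', hF, h3, rfl, e⟩ | ⟨rfl, rfl, -⟩ | ⟨m, F, iF, iF', hF, hm, h3, hn, e⟩ |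
    ⟨m, F, iF, iF', hF, hm, h3, hn, e⟩
  · by_cases hk : ∃ k : ℕ, p + 1 = 2 ^ k
    · obtain ⟨k, hk⟩ := hk
      exact Or.inl ⟨2, k, Nat.prime_two, by omega⟩
    · exact Or.inr (Or.inr (Or.inl ⟨by omega, hk, by rw [one_mul]⟩))
  · exact Or.inr (Or.inl ⟨rfl, rfl⟩)
  · refine Or.inr (Or.inr (Or.inr (Or.inl ⟨h3, ⟨m, hm⟩, ?_⟩)))
    rw [show p - 3 = 2 * n by omega]
    ring
  · refine Or.inr (Or.inr (Or.inr (Or.inr ⟨h3, ⟨m, hm⟩, ?_⟩)))
    rw [← hn]
    ring

section

variable [hp : Fact p.Prime]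

theorem count_mod (H : Type*) [Group H] [Finite H] : Nat.card (Sylow p H) % p = 1 :=
  Eq.trans (card_sylow_modEq_one p H) (Nat.one_mod_eq_one.mpr hp.out.ne_one)

/-- Two factors `≡ 1` mod `p` of a number below `p²`: one is `1`. -/
theorem eq_one_or_eq_one {a b : ℕ} (ha : a % p = 1) (hb : b % p = 1) (h : a * b < p ^ 2) : a = 1 ∨ b = 1 := by
  by_contra hc
  push Not at hc
  have h1 := Nat.mul_le_mul (modEq_one_ge ha hc.1) (modEq_one_ge hb hc.2)
  have h2 : p ^ 2 ≤ (p + 1) * (p + 1) := by rw [sq]; exact Nat.mul_le_mul (by omega) (by omega)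
  omega

variable {G : Type*} [Group G] [Finite G]

/-- The subgroup generated by a Sylow subgroup and a normal `p'`-subgroup is `p`-solvable. -/
theorem isPSolvable_sup (P : Sylow p G) (M : Subgroup G) [M.Normal] (hM : ¬ p ∣ Nat.card M) :
    Cfsg.IsPSolvable p ↥((P : Subgroup G) ⊔ M) := by
  set K := (P : Subgroup G) ⊔ M
  have hc : Nat.card (M.subgroupOf K) = Nat.card M :=
    Nat.card_congr (Subgroup.subgroupOfEquivOfLe (le_sup_right : M ≤ K)).toEquiv
  refine ClassIndex.isPSolvable_of_ext (M.subgroupOf K)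
    (Or.inr (by rw [hc]; exact ((hp.out.coprime_iff_not_dvd).2 hM).symm)) ?_
  obtain ⟨k, hk⟩ := IsPGroup.index P.isPGroup' (M.subgroupOf (P : Subgroup G))
  have hq : IsPGroup p (↥K ⧸ M.subgroupOf K) := IsPGroup.of_card (n := k) (by
    rw [← Subgroup.index_eq_card, ← hk]
    exact Subgroup.relIndex_sup_right (P : Subgroup G) M)
  haveI : Group.IsNilpotent (↥K ⧸ M.subgroupOf K) := hq.isNilpotent
  exact ClassIndex.isPSolvable_of_isSolvable _ inferInstance

theorem card_sylow_eq_one_of_not_dvd (h : ¬ p ∣ Nat.card G) : Nat.card (Sylow p G) = 1 := by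
  obtain ⟨P⟩ := (inferInstance : Nonempty (Sylow p G))
  rw [P.card_eq_index_normalizer, Subgroup.index_eq_one]
  obtain ⟨k, hk⟩ := IsPGroup.iff_card.1 P.isPGroup'
  rcases k with _ | k
  · haveI : (P : Subgroup G).Normal := by
      rw [Subgroup.card_eq_one.1 (hk.trans (pow_zero p))]
      infer_instance
    exact Subgroup.normalizer_eq_top _
  · exact absurd ((dvd_pow_self p k.succ_ne_zero).trans (hk ▸ Subgroup.card_subgroup_dvd_card _)) h

theorem card_sylow_eq_one_of_comm (hc : IsMulCommutative G) : Nat.card (Sylow p G) = 1 := by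
  obtain ⟨P⟩ := (inferInstance : Nonempty (Sylow p G))
  rw [P.card_eq_index_normalizer, Subgroup.index_eq_one]
  haveI := hc
  haveI : (P : Subgroup G).Normal := ⟨fun a ha g => by rwa [mul_comm' g a, mul_inv_cancel_right]⟩
  exact Subgroup.normalizer_eq_top _

theorem simple_outcome [IsSimpleGroup G] (hlt : Nat.card (Sylow p G) < p ^ 2) :
    Outcome p (Nat.card (Sylow p G)) := by
  by_cases hc : IsMulCommutative G
  · rw [card_sylow_eq_one_of_comm hc]
    exact outcome_one
  by_cases hd : p ∣ Nat.card G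
  swap
  · rw [card_sylow_eq_one_of_not_dvd hd]
    exact outcome_one
  obtain ⟨n, hn⟩ := BrauerN.card_sylow_form p G
  have hnp : n < p := by
    by_contra hc
    have := Nat.mul_le_mul_right p (not_lt.1 hc)
    rw [hn, sq] at hlt
    omega
  rw [hn]
  exact (classified hc hd hn hnp).outcome

end

variable [hp : Fact p.Prime]

/-- The numbers of Sylow `p`-subgroups below `p²`. -/
theorem outcome {G : Type u} [Group G] [Finite G] (hlt : Nat.card (Sylow p G) < p ^ 2) :
    Outcome p (Nat.card (Sylow p G)) := by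
  induction hN : Nat.card G using Nat.strong_induction_on generalizing G with
  | _ N ih =>
  rcases subsingleton_or_nontrivial G with hs | hs
  · rw [card_sylow_eq_one_of_comm ⟨⟨fun a b => Subsingleton.elim _ _⟩⟩]
    exact outcome_one
  by_cases hsimple : IsSimpleGroup G
  · exact simple_outcome hlt
  obtain ⟨R, hR, hR1, hR2⟩ : ∃ R : Subgroup G, R.Normal ∧ R ≠ ⊥ ∧ R ≠ ⊤ := by
    by_contra h
    push Not at h
    exact hsimple ⟨fun H hH => or_iff_not_imp_left.2 fun hb => h H hH hb⟩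
  haveI := hR
  have hRlt : Nat.card R < N := hN ▸ lt_of_le_of_ne (Subgroup.card_le_card_group R)
    fun e => hR2 (R.eq_top_of_card_eq e)
  obtain ⟨c, hc⟩ := card_sylow_normal_dvd (p := p) R
  by_cases hd1 : Nat.card (Sylow p R) = 1
  swap
  · have hc1 : c % p = 1 := by
      have h := count_mod (p := p) G
      rwa [hc, Nat.mul_mod, count_mod, one_mul, Nat.mod_mod] at h
    have he : c = 1 := (eq_one_or_eq_one (count_mod _) hc1 (hc ▸ hlt)).resolve_left hd1
    rw [he, mul_one] at hc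
    rw [hc]
    exact ih _ hRlt (hc ▸ hlt) rfl
  -- a normal `p`- or `p'`-subgroup
  obtain ⟨M, hM, hM1, hMp⟩ : ∃ M : Subgroup G, M.Normal ∧ M ≠ ⊥ ∧ (IsPGroup p M ∨ ¬ p ∣ Nat.card M) := by
    by_cases hd : p ∣ Nat.card R
    · obtain ⟨S⟩ := (inferInstance : Nonempty (Sylow p R))
      haveI : Subsingleton (Sylow p R) := (Nat.card_eq_one_iff_unique.1 hd1).1
      haveI := Sylow.normal_of_subsingleton S
      refine ⟨(Cfsg.pCore p R).map R.subtype, Cores.map_subtype_normal_of_characteristic R _, fun h => ?_,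
        Or.inl ((Cores.isPGroup_pCore p R).map _)⟩
      rw [Subgroup.map_eq_bot_iff_of_injective _ R.subtype_injective] at h
      exact S.ne_bot_of_dvd_card hd (le_bot_iff.1 (h ▸ Cores.le_pCore inferInstance S.isPGroup'))
    · exact ⟨R, hR, hR1, Or.inr hd⟩
  haveI := hM
  obtain ⟨P⟩ := (inferInstance : Nonempty (Sylow p G))
  have heq := SylowCount.card_sylow_eq_quotient_mul M P
  set a := Nat.card (Sylow p (G ⧸ M)) with ha
  set b := Nat.card (Sylow p ↥((P : Subgroup G) ⊔ M)) with hb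
  by_cases hb1 : b = 1
  · rw [hb1, mul_one] at heq
    have hlt' : Nat.card (G ⧸ M) < N := by
      rw [← hN, Subgroup.card_eq_card_quotient_mul_card_subgroup M]
      exact lt_mul_of_one_lt_right Nat.card_pos ((Subgroup.one_lt_card_iff_ne_bot M).mpr hM1)
    rw [heq]
    exact ih _ hlt' (by rw [← ha, ← heq]; exact hlt) rfl
  have ha1 : a = 1 := (eq_one_or_eq_one (count_mod _) (count_mod _) (heq ▸ hlt)).resolve_right hb1
  rw [ha1, one_mul] at heq
  rcases hMp with hMp | hMp
  · exfalso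
    apply hb1
    rw [hb, SylowCount.card_sylow_sup_eq, Subgroup.relIndex_eq_one]
    exact ((Cores.le_pCore hM hMp).trans (Cores.pCore_le_sylow P)).trans Subgroup.le_normalizer
  · rw [heq]
    exact Or.inl (prime_pow_of_separable _ rfl
      (Solvable.isPiSeparable_of_isPSolvable (isPSolvable_sup P M hMp)) (by rw [← hb, ← heq]; exact hlt))

end Cfsg.Agent.FewSylowClass
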